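import Cfsg.Agent.Lib.Classical.WreathMaxSp.Induct
import Cfsg.Agent.Lib.Classical.WreathMax.Climb

/-!
# A root element with non-scalar factor gives every self-adjoint factor
-/

set_option autoImplicit false
set_option linter.unusedSectionVars false

open Matrix Module CfsgLib.Classical.WreathMax
open scoped Kronecker

namespace CfsgLib.Classical.WreathMaxSp

variable {F : Type*} [Field F] {κ : Type} [Fintype κ] [DecidableEq κ] {k : ℕ}
  {J : Matrix (Fin k) (Fin k) F} {M : Subgroup (GL (κ → Fin k) F)}

theorem embM_injective (hk : 0 < k) (i : κ) {P Q : TMat F (Rest i) k} (e : embM i P = embM i Q) : P = Q := by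
  have h1 := congrArg (split i) e
  rw [split_embM, split_embM] at h1
  ext u v
  have := congrFun (congrFun h1 (⟨0, hk⟩, u)) (⟨0, hk⟩, v)
  simpa [Matrix.kroneckerMap_apply] using this

/-- Conjugation of short factors by an element of `M` acting on the other factors. -/
theorem TOver.short_conj_embM (hM : TOver J M) (h3 : 3 ≤ k) {i : κ} {D Y Y' : TMat F (Rest i) k}
    (hD : Short J (gramT (Rest i) J) (splitGroup M i) D) {g : GL (κ → Fin k) F} (hg : g ∈ M)
    (e : g.1 = embM i Y) (hYY : Y' * Y = 1) :
    Short J (gramT (Rest i) J) (splitGroup M i) (Y * D * Y') := by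
  have hO := hM.over_split i
  obtain ⟨g', hg', e'⟩ := mem_splitGroup (i := i) hg
  rw [e, split_embM] at e'
  set b : Fin k → F := Pi.single ⟨0, by omega⟩ 1
  have hb : b ≠ 0 := by simp [b]
  obtain ⟨w, hbw, hw⟩ := hM.jGram.exists_orth h3 hb
  have hconj : ∀ (p q : Fin k → F) (Z : TMat F (Rest i) k), g'.1 * rect J p q Z =
      rect J p q (Y * Z * Y') * g'.1 := fun p q Z => by
    rw [e', rect_eq_kron, rect_eq_kron, ← Matrix.mul_kronecker_mul, ← Matrix.mul_kronecker_mul, Matrix.one_mul,
      Matrix.mul_one, Matrix.mul_assoc (Y * Z), hYY, Matrix.mul_one]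
  refine hO.short_of_one hbw hb hw (E := Y * adjH (gramT (Rest i) J) D * Y') ((hD b w hbw hb hw).conj hg' ?_)
  rw [link, link, Matrix.mul_add, Matrix.add_mul, hconj, hconj]

/-- Conjugation of root factors by an element of `M` acting on the other factors. -/
theorem TOver.long_conj_embM (hM : TOver J M) {i : κ} {D Y Y' : TMat F (Rest i) k}
    (hD : Long J (splitGroup M i) D) {g : GL (κ → Fin k) F} (hg : g ∈ M) (e : g.1 = embM i Y) (hYY : Y' * Y = 1) :
    Long J (splitGroup M i) (Y * D * Y') := fun b => by
  obtain ⟨g', hg', e'⟩ := mem_splitGroup (i := i) hg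
  rw [e, split_embM] at e'
  refine (hD b).conj hg' ?_
  rw [e', root, root, rect_eq_kron, rect_eq_kron, ← Matrix.mul_kronecker_mul, ← Matrix.mul_kronecker_mul,
    Matrix.one_mul, Matrix.mul_one, Matrix.mul_assoc (Y * D), hYY, Matrix.mul_one]

theorem TOver.exists_op_embM (hM : TOver J M) {i : κ} (l : Rest i) {C : Matrix (Fin k) (Fin k) F} (hC : InSp J C) :
    ∃ g ∈ M, g.1 = embM i (op l C) := by
  obtain ⟨g, hg, e⟩ := hM.op_mem l.1 C hC
  exact ⟨g, hg, by rw [e, embM_op]⟩

/-- A factor permutation as a matrix of the other factors. -/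
theorem exists_perm_embM (hk : 0 < k) {i : κ} {σ : Equiv.Perm κ} (hσ : σ i = i) :
    ∃ W W' : TMat F (Rest i) k, embM i W = permM σ ∧ embM i W' = permM σ⁻¹ ∧ W' * W = 1 ∧ W * W' = 1 ∧
      ∀ (l l' : Rest i), σ l.1 = l'.1 → ∀ A, W * op l A * W' = op l' A := by
  have hσ' : σ⁻¹ i = i := by
    conv_lhs => rw [← hσ]
    simp
  obtain ⟨W, hW⟩ := eq_embM_of_comm i (Y := (permM σ : TMat F κ k)) fun A => by rw [permM_mul_op, hσ]
  obtain ⟨W', hW'⟩ := eq_embM_of_comm i (Y := (permM σ⁻¹ : TMat F κ k)) fun A => by rw [permM_mul_op, hσ']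
  have h1 : W' * W = 1 := embM_injective hk i (by rw [map_mul, ← hW, ← hW', ← map_mul, inv_mul_cancel, map_one, map_one])
  have h2 : W * W' = 1 := embM_injective hk i (by rw [map_mul, ← hW, ← hW', ← map_mul, mul_inv_cancel, map_one, map_one])
  refine ⟨W, W', hW.symm, hW'.symm, h1, h2, fun l l' hl A => embM_injective hk i ?_⟩
  rw [map_mul, map_mul, ← hW, ← hW', embM_op, embM_op, permM_mul_op, hl, Matrix.mul_assoc, ← map_mul,
    mul_inv_cancel, map_one, Matrix.mul_one]

/-- The permutations of the other factors lying in `M` move any pair of them to any other. -/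
def PairTrans (M : Subgroup (GL (κ → Fin k) F)) (i : κ) : Prop :=
  ∀ a a' c c' : κ, a ≠ i → a' ≠ i → c ≠ i → c' ≠ i → (a = a' ↔ c = c') →
    ∃ σ : Equiv.Perm κ, σ i = i ∧ (σ a = c ∧ σ a' = c' ∨ σ a = c' ∧ σ a' = c) ∧ ∃ g ∈ M, g.1 = permM σ

/-- Every symmetrised factor, for factors of dimension at least three. -/
theorem TOver.long_all_three (hM : TOver J M) (h3 : 3 ≤ k) {i : κ} (hperm : PairTrans M i)
    {D : TMat F (Rest i) k} (hns : ¬ IsScalarMat D) (hD : LongAt J M i D) :
    ∀ D' : TMat F (Rest i) k, LongAt J M i (D' + adjH (gramT (Rest i) J) D') := by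
  classical
  intro D'
  have hk : 0 < k := by omega
  have hO := hM.over_split i
  set H := gramT (Rest i) J with hH
  set G := splitGroup M i with hG
  let S : Submodule F (TMat F (Rest i) k) :=
    { carrier := {Z | ∀ E, Short J H G E → Short J H G (E * Z)}
      zero_mem' := fun E hE => by
        rw [Matrix.mul_zero, ← zero_smul F E]
        exact hO.short_smul 0 hE
      add_mem' := fun {Y Z} hY hZ E hE => by
        rw [Matrix.mul_add]
        exact hO.short_add (hY E hE) (hZ E hE)
      smul_mem' := fun c Z hZ E hE => by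
        rw [Matrix.mul_smul]
        exact hO.short_smul c (hZ E hE) }
  have hmul : ∀ Y ∈ S, ∀ Z ∈ S, Y * Z ∈ S := fun Y hY Z hZ E hE => by
    rw [← Matrix.mul_assoc]
    exact hZ _ (hY E hE)
  have hlong : ∀ Z, Long J G Z → Z ∈ S := fun Z hZ E hE => hO.short_mul_long h3 hE hZ
  have hconj : ∀ (g : GL (κ → Fin k) F) (Y Y' : TMat F (Rest i) k), g ∈ M → g.1 = embM i Y → Y' * Y = 1 →
      Y * Y' = 1 → ∀ Z ∈ S, Y * Z * Y' ∈ S := by
    intro g Y Y' hg e h1 h2 Z hZ E hE
    have e' : (g⁻¹).1 = embM i Y' := by
      calc (g⁻¹).1 = (g⁻¹).1 * (embM i Y * embM i Y') := by rw [← map_mul, h2, map_one, Matrix.mul_one]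
        _ = embM i Y' := by rw [← Matrix.mul_assoc, ← e, ← Units.val_mul, inv_mul_cancel, Units.val_one, Matrix.one_mul]
    have hE' := hZ _ (hM.short_conj_embM h3 hE (inv_mem hg) e' h2)
    have := hM.short_conj_embM h3 hE' hg e h1
    simp only [← Matrix.mul_assoc, h2, Matrix.one_mul] at this
    simpa only [← Matrix.mul_assoc] using this
  have hS : SpInv J S := fun l C C' hC h Z hZ => by
    obtain ⟨g, hg, e⟩ := hM.exists_op_embM l hC
    exact hconj g _ _ hg e (by rw [← map_mul, mul_eq_one_comm.1 h, map_one]) (by rw [← map_mul, h, map_one]) Z hZ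
  obtain ⟨j, hj⟩ := hS.exists_full hM.jGram h3 hmul (hlong D (long_splitGroup.2 hD)) (fun c e => hns ⟨c, e⟩)
  have hall : ∀ l A, op l A ∈ S := by
    intro l A
    obtain ⟨σ, hσ, hσjl, g, hg, hgσ⟩ := hperm j.1 j.1 l.1 l.1 j.2 j.2 l.2 l.2 (by simp)
    obtain ⟨W, W', hW, -, h1, h2, hop⟩ := exists_perm_embM (F := F) hk hσ
    rw [← hop j l (by rcases hσjl with h | h <;> exact h.1) A]
    exact hconj g W W' hg (by rw [hgσ, hW]) h1 h2 _ (hj A)
  let SA : Subalgebra F (TMat F (Rest i) k) :=
    { carrier := S
      one_mem' := hlong 1 hO.long_one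
      mul_mem' := fun {a b} ha hb => hmul a ha b hb
      zero_mem' := S.zero_mem
      add_mem' := fun {a b} ha hb => S.add_mem ha hb
      algebraMap_mem' := fun c => by
        rw [Algebra.algebraMap_eq_smul_one]
        exact S.smul_mem c (hlong 1 hO.long_one) }
  have hshort : ∀ Z, Short J H G Z := fun Z => by
    have hZ : Z ∈ SA := mem_subalgebra_of_op (S := SA) hall Z
    have := (hZ : Z ∈ S) 1 (hO.short_of_long hO.long_one)
    rwa [Matrix.one_mul] at this
  have h := hO.long_of_short h3 (hshort D') (hshort 1)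
  rw [hO.hGram.adjH_one, Matrix.mul_one, Matrix.one_mul] at h
  exact long_splitGroup.1 h

/-! ### Factors of dimension two -/

theorem SkewGram.decomp_two (hJ : SkewGram J) (h2 : k = 2) {b c : Fin k → F} (hbc : fJ J b c = 1) (v : Fin k → F) :
    v = (-fJ J c v) • b + fJ J b v • c := by
  have hb : b ≠ 0 := fun e => by rw [e, fJ_zero_left] at hbc; exact zero_ne_one hbc
  have hli : LinearIndependent F ![b, c] := by
    rw [LinearIndependent.pair_iff' hb]
    intro a e
    rw [← e, fJ_smul_right, hJ.alt, mul_zero] at hbc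
    exact zero_ne_one hbc
  have htop := hli.span_eq_top_of_card_eq_finrank' (by simp [h2])
  have hv : v ∈ Submodule.span F (Set.range ![b, c]) := by rw [htop]; exact Submodule.mem_top
  rw [Matrix.range_cons, Matrix.range_cons, Matrix.range_empty, Set.union_empty, ← Set.insert_eq,
    Submodule.mem_span_pair] at hv
  obtain ⟨t, s, rfl⟩ := hv
  simp only [fJ_add_right, fJ_smul_right, hJ.alt, hbc, hJ.swap c b]
  simp

theorem SkewGram.kind_two (hJ : SkewGram J) (h2 : k = 2) {X : Matrix (Fin k) (Fin k) F} (hX : Kind J X) :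
    X = 1 ∨ ∃ b, b ≠ 0 ∧ X = nilp J b := by
  rcases hX with h | h | ⟨b, b', hbb', hb, hb', -⟩
  · exact Or.inl h
  · exact Or.inr h
  · obtain ⟨c, hc⟩ := hJ.exists_pair hb
    have := hJ.decomp_two h2 hc b'
    rw [hbb', zero_smul, add_zero] at this
    exact absurd this (hb' _)

/-- In dimension two the identity and the root maps span everything. -/
theorem SkewGram.span_two (hJ : SkewGram J) (h2 : k = 2) (P : Submodule F (Matrix (Fin k) (Fin k) F))
    (h1 : (1 : Matrix (Fin k) (Fin k) F) ∈ P) (hN : ∀ u, u ≠ 0 → nilp J u ∈ P) (A : Matrix (Fin k) (Fin k) F) :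
    A ∈ P := by
  haveI : Nonempty (Fin k) := ⟨⟨0, by omega⟩⟩
  obtain ⟨b, hb⟩ := exists_ne (0 : Fin k → F)
  obtain ⟨c, hbc⟩ := hJ.exists_pair hb
  have hN' : ∀ u, nilp J u ∈ P := fun u => by
    rcases eq_or_ne u 0 with rfl | hu
    · rw [nilp, zero_vecMulVec]; exact P.zero_mem
    · exact hN u hu
  have hone : vecMulVec b (beta J c) - vecMulVec c (beta J b) = (-1 : F) • (1 : Matrix (Fin k) (Fin k) F) := by
    refine Matrix.ext_of_mulVec_single fun a => ?_
    conv_rhs => rw [Matrix.smul_mulVec, Matrix.one_mulVec, hJ.decomp_two h2 hbc (Pi.single a 1)]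
    simp only [Matrix.sub_mulVec, vecMulVec_mulVec, beta_dot, op_smul_eq_smul]
    module
  have hsum : vecMulVec b (beta J c) + vecMulVec c (beta J b) ∈ P := by
    have e : vecMulVec b (beta J c) + vecMulVec c (beta J b) = nilp J (b + c) - nilp J b - nilp J c := by
      simp only [nilp, beta, Matrix.add_vecMul, add_vecMulVec, vecMulVec_add]
      abel
    rw [e]
    exact P.sub_mem (P.sub_mem (hN' _) (hN' _)) (hN' _)
  have hdiff : vecMulVec b (beta J c) - vecMulVec c (beta J b) ∈ P := hone ▸ P.smul_mem _ h1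
  have hbc' : vecMulVec b (beta J c) ∈ P := by
    have := P.smul_mem (2 : F)⁻¹ (P.add_mem hsum hdiff)
    rwa [add_add_sub_cancel, ← two_smul F, smul_smul, inv_mul_cancel₀ (hJ.two_of_small (by omega)), one_smul] at this
  have hcb' : vecMulVec c (beta J b) ∈ P := by
    have := P.sub_mem hsum hbc'
    rwa [add_sub_cancel_left] at this
  have hall : ∀ u w, w = b ∨ w = c → vecMulVec u (beta J w) ∈ P := fun u w hw => by
    rw [hJ.decomp_two h2 hbc u, add_vecMulVec, smul_vecMulVec, smul_vecMulVec]
    rcases hw with rfl | rfl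
    · exact P.add_mem (P.smul_mem _ (hN' _)) (P.smul_mem _ hcb')
    · exact P.add_mem (P.smul_mem _ hbc') (P.smul_mem _ (hN' _))
  have e : A = (-1 : F) • (vecMulVec (A *ᵥ b) (beta J c) - vecMulVec (A *ᵥ c) (beta J b)) := by
    rw [← Matrix.mul_vecMulVec, ← Matrix.mul_vecMulVec, ← Matrix.mul_sub, hone, Matrix.mul_smul, smul_smul,
      neg_one_mul, neg_neg, one_smul, Matrix.mul_one]
  rw [e]
  exact P.smul_mem _ (P.sub_mem (hall _ _ (Or.inr rfl)) (hall _ _ (Or.inl rfl)))

/-- The pure tensor with root maps on `T` and the identity elsewhere. -/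
def rootsOn {κ' : Type} [Fintype κ'] [DecidableEq κ'] (J : Matrix (Fin k) (Fin k) F) (T : Finset κ')
    (u : κ' → Fin k → F) : TMat F κ' k :=
  tens fun l => if l ∈ T then nilp J (u l) else 1

/-- Every self-adjoint factor, for factors of dimension two. -/
theorem TOver.long_all_two (hM : TOver J M) (h2 : k = 2) {i : κ} (hperm : PairTrans M i)
    {D : TMat F (Rest i) k} (hns : ¬ IsScalarMat D) (hD : LongAt J M i D) :
    ∀ D' : TMat F (Rest i) k, adjH (gramT (Rest i) J) D' = D' → LongAt J M i D' := by
  classical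
  intro D' hD'
  have hk : 0 < k := by omega
  have hJ := hM.jGram
  have htwo : (2 : F) ≠ 0 := hJ.two_of_small (by omega)
  have hO := hM.over_split i
  set H := gramT (Rest i) J with hH
  set G := splitGroup M i with hG
  let S : Submodule F (TMat F (Rest i) k) :=
    { carrier := {Z | Long J G Z}
      zero_mem' := Over.long_zero
      add_mem' := fun {Y Z} hY hZ => hO.long_add hY hZ
      smul_mem' := fun c Z hZ => hO.long_smul c hZ }
  have hS : SpInv J S := fun l C C' hC h Z hZ => by
    obtain ⟨g, hg, e⟩ := hM.exists_op_embM l hC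
    exact hM.long_conj_embM hZ hg e (by rw [← map_mul, mul_eq_one_comm.1 h, map_one])
  have hN1 : ∀ b : Fin k → F, b ≠ 0 → nilp J b ≠ 1 := fun b hb e => by
    obtain ⟨c, hc⟩ := hJ.exists_pair hb
    have h1 := congrArg (· *ᵥ b) e
    simp only [nilp_mulVec, hJ.alt, zero_smul, Matrix.one_mulVec] at h1
    exact hb h1.symm
  -- moving the vectors
  have hmove : ∀ (T : Finset (Rest i)) (u v : Rest i → Fin k → F), (∀ l ∈ T, u l ≠ 0) →
      rootsOn J T u ∈ S → rootsOn J T v ∈ S := by
    intro T u v hu hmem
    by_cases hv : ∀ l ∈ T, v l ≠ 0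
    · have hC : ∀ l, ∃ C C', InSp J C ∧ C * C' = 1 ∧ (l ∈ T → C *ᵥ u l = v l) := fun l => by
        by_cases hl : l ∈ T
        · obtain ⟨C, hC, e⟩ := hJ.transitive (hu l hl) (hv l hl)
          obtain ⟨C', hCC⟩ := hC.exists_inv hJ
          exact ⟨C, C', hC, hCC, fun _ => e⟩
        · exact ⟨1, 1, inSp_one, Matrix.one_mul 1, fun h => absurd h hl⟩
      choose C C' hC hCC hCu using hC
      have h1 := hS.conj_tens hC hCC hmem
      rw [rootsOn, tens_mul, tens_mul] at h1
      convert h1 using 2
      rw [rootsOn]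
      congr 1
      funext l
      by_cases hl : l ∈ T
      · simp only [if_pos hl, nilp]
        rw [(hC l).conj_vecMulVec (hCC l), hCu l hl]
      · simp [hl, hCC l]
    · push Not at hv
      obtain ⟨l, hl, h0⟩ := hv
      have : rootsOn J T v = 0 := by
        ext x y
        rw [rootsOn, tens_apply, Matrix.zero_apply]
        exact Finset.prod_eq_zero (Finset.mem_univ l) (by simp [hl, h0, nilp])
      rw [this]
      exact S.zero_mem
  have hadj : ∀ (T : Finset (Rest i)) (u : Rest i → Fin k → F),
      adjH H (rootsOn J T u) = (-1 : F) ^ T.card • rootsOn J T u := by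
    intro T u
    rw [rootsOn, adjH_tens hJ (Y := fun l => (if l ∈ T then (-1 : F) else 1) • if l ∈ T then nilp J (u l) else 1)
      (fun l => by
        by_cases hl : l ∈ T
        · simp only [if_pos hl, hJ.nilp_adj]
        · simp [hl]), tens_smul, Finset.prod_ite_mem, Finset.univ_inter, Finset.prod_const]
  -- a support of even size
  obtain ⟨X, hX, ⟨a, ha⟩, hXS, hX0⟩ := hS.exists_pure hJ (long_splitGroup.2 hD) (fun c e => hns ⟨c, e⟩)
  choose β hβ using fun l => show ∃ b, X l ≠ 1 → b ≠ 0 ∧ X l = nilp J b by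
    rcases hJ.kind_two h2 (hX l) with h | ⟨b, hb, h⟩
    · exact ⟨0, fun h' => absurd h h'⟩
    · exact ⟨b, fun _ => ⟨hb, h⟩⟩
  set T := Finset.univ.filter fun l => X l ≠ 1 with hTdef
  have hmemT : ∀ l, l ∈ T ↔ X l ≠ 1 := fun l => by simp [hTdef]
  have hXT : tens X = rootsOn J T β := by
    rw [rootsOn]
    congr 1
    funext l
    by_cases hl : X l = 1
    · rw [if_neg (fun h => (hmemT l).1 h hl), hl]
    · rw [if_pos ((hmemT l).2 hl), (hβ l hl).2]
  rw [hXT] at hXS hX0
  have hTeven : Even T.card := by
    by_contra hodd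
    have h1 := hadj T β
    rw [hO.long_self_adj hk hXS, (Nat.not_even_iff_odd.1 hodd).neg_one_pow, neg_one_smul, eq_neg_iff_add_eq_zero,
      ← two_smul F, smul_eq_zero] at h1
    exact hX0 (h1.resolve_left htwo)
  have haT : a ∈ T := (hmemT a).2 ha
  obtain ⟨a', ha'T, ha'⟩ : ∃ a' ∈ T, a' ≠ a := by
    by_contra hc
    push Not at hc
    rw [show T = {a} from Finset.eq_singleton_iff_unique_mem.2 ⟨haT, hc⟩] at hTeven
    exact absurd hTeven (by simp)
  -- one pair
  haveI : Nonempty (Fin k) := ⟨⟨0, hk⟩⟩
  obtain ⟨b, hb⟩ := exists_ne (0 : Fin k → F)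
  obtain ⟨c, hbc⟩ := hJ.exists_pair hb
  have hcb : fJ J c b = -1 := by rw [hJ.swap, hbc]
  set Hh : Matrix (Fin k) (Fin k) F := vecMulVec b (beta J c) + vecMulVec c (beta J b) with hHh
  have hHh2 : Hh * Hh = 1 := by
    refine Matrix.ext_of_mulVec_single fun x => ?_
    rw [← Matrix.mulVec_mulVec, Matrix.one_mulVec]
    conv_rhs => rw [hJ.decomp_two h2 hbc (Pi.single x 1)]
    simp only [hHh, Matrix.add_mulVec, vecMulVec_mulVec, beta_dot, op_smul_eq_smul, fJ_add_right, fJ_smul_right,
      hJ.alt, hbc, hcb]
    module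
  -- linear in the factors on `T`
  have hlin : ∀ (s : Finset (Rest i)), s ⊆ T → ∀ u : Rest i → Fin k → F,
      tens (fun l => if l ∈ s then Hh else if l ∈ T then nilp J (u l) else 1) ∈ S := by
    intro s
    induction s using Finset.induction with
    | empty =>
      intro _ u
      simpa [rootsOn] using hmove T β u (fun l hl => (hβ l ((hmemT l).1 hl)).1) hXS
    | @insert x s hx ih =>
      intro hs u
      have hxT : x ∈ T := hs (Finset.mem_insert_self x s)
      have hs' : s ⊆ T := fun l hl => hs (Finset.mem_insert_of_mem hl)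
      set E : Rest i → Matrix (Fin k) (Fin k) F := fun l => if l ∈ s then Hh else if l ∈ T then nilp J (u l) else 1
      have hE : ∀ w, tens (Function.update E x (nilp J w)) ∈ S := fun w => by
        convert ih hs' (Function.update u x w) using 2
        funext l
        by_cases hl : l = x
        · subst hl; simp [hx, hxT]
        · simp [E, hl]
      have e1 := tens_update_add_smul E x 1 (-1) (nilp J (b + c)) (nilp J b + nilp J c)
      have e2 := tens_update_add_smul E x 1 1 (nilp J b) (nilp J c)
      simp only [one_smul, neg_one_smul] at e1 e2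
      have e : Hh = nilp J (b + c) + -(nilp J b + nilp J c) := by
        simp only [hHh, nilp, beta, Matrix.add_vecMul, add_vecMulVec, vecMulVec_add]
        abel
      have : tens (Function.update E x Hh) ∈ S := by
        rw [e, e1, e2]
        exact S.add_mem (hE _) (S.neg_mem (S.add_mem (hE _) (hE _)))
      convert this using 2
      funext l
      by_cases hl : l = x
      · subst hl; simp
      · simp [E, hl]
  have hpair₀ : op a (nilp J (b + c)) * op a' (nilp J (b + c)) ∈ S := by
    set s := (T.erase a).erase a' with hs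
    have hsT : s ⊆ T := fun l hl => Finset.mem_of_mem_erase (Finset.mem_of_mem_erase hl)
    have hmems : ∀ l, l ∈ s ↔ l ≠ a' ∧ l ≠ a ∧ l ∈ T := fun l => by simp [hs]
    set Xb : Rest i → Matrix (Fin k) (Fin k) F := fun l => if l ∈ s then Hh else if l ∈ T then nilp J b else 1
    set Xc : Rest i → Matrix (Fin k) (Fin k) F := fun l => if l ∈ s then Hh else if l ∈ T then nilp J c else 1
    have hb2 : tens Xb * tens Xb = 0 := by
      rw [tens_mul]
      ext x y
      rw [tens_apply, Matrix.zero_apply]
      refine Finset.prod_eq_zero (Finset.mem_univ a) ?_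
      simp [Xb, hmems, haT, hJ.nilp_sq]
    have h1 : tens Xb * tens Xc + tens Xc * tens Xb ∈ S := hO.long_jordan htwo hk (hlin s hsT _) (hlin s hsT _) hb2
    set P := nilp J b * nilp J c with hP
    set Q := nilp J c * nilp J b with hQ
    have hpq : ∀ (Y Y' : Rest i → Matrix (Fin k) (Fin k) F), Y a = P → Y a' = P → Y' a = Q → Y' a' = Q →
        (∀ l, l ≠ a → l ≠ a' → Y l = 1 ∧ Y' l = 1) →
        tens Y + tens Y' = op a P * op a' P + op a Q * op a' Q := by
      intro Y Y' h1 h2 h3 h4 h5
      rw [op_eq_tens, op_eq_tens, op_eq_tens, op_eq_tens, tens_mul, tens_mul]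
      congr 2 <;> funext l <;> by_cases hl : l = a <;> by_cases hl' : l = a'
      all_goals first
        | (subst hl; subst hl'; exact absurd rfl ha')
        | (subst hl; simp [h1, h3, ha'.symm])
        | (subst hl'; simp [h2, h4, ha'])
        | simp [hl, hl', h5 l hl hl']
    rw [tens_mul, tens_mul, hpq _ _ (by simp [Xb, Xc, hmems, haT, hP]) (by simp [Xb, Xc, hmems, ha'T, hP])
      (by simp [Xb, Xc, hmems, haT, hQ]) (by simp [Xb, Xc, hmems, ha'T, hQ]) (fun l hl hl' => by
        by_cases hlT : l ∈ T
        · simp [Xb, Xc, hmems, hl, hl', hlT, hHh2]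
        · simp [Xb, Xc, hmems, hl, hl', hlT])] at h1
    set N := nilp J (b + c) with hN
    have hPu : N * P * N = N := by
      rw [hN, hP, nilp, nilp, nilp]
      simp only [vecMulVec_mul_vecMulVec, beta_dot, vecMulVec_smul, Matrix.mul_smul, Matrix.smul_mul,
        Matrix.mul_assoc, fJ_add_left, fJ_add_right, hJ.alt, hbc, hcb, smul_smul]
      norm_num
    have hQu : N * Q * N = -N := by
      rw [hN, hQ, nilp, nilp, nilp]
      simp only [vecMulVec_mul_vecMulVec, beta_dot, vecMulVec_smul, Matrix.mul_smul, Matrix.smul_mul,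
        Matrix.mul_assoc, fJ_add_left, fJ_add_right, hJ.alt, hbc, hcb, smul_smul]
      norm_num
    have h2' := (hS.comm_mem hJ htwo a' (b + c) (hS.comm_mem hJ htwo a (b + c) h1).1).1
    rw [← hN] at h2'
    have e : ∀ A B : Matrix (Fin k) (Fin k) F, op a' N * (op a N * (op a A * op a' B) * op a N) * op a' N =
        (op a (N * A * N) * op a' (N * B * N) : TMat F (Rest i) k) := fun A B => by
      rw [map_mul, map_mul, map_mul, map_mul]
      calc op a' N * (op a N * (op a A * op a' B) * op a N) * op a' N
          = op a' N * op a N * op a A * (op a' B * op a N) * op a' N := by simp only [Matrix.mul_assoc]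
        _ = (op a' N * (op a N * op a A * op a N)) * op a' B * op a' N := by
          rw [op_comm ha' B N]; simp only [Matrix.mul_assoc]
        _ = _ := by
          rw [← map_mul (op a), ← map_mul (op a), op_comm ha' N (N * A * N)]
          simp only [map_mul, Matrix.mul_assoc]
    rw [Matrix.mul_add, Matrix.add_mul, Matrix.mul_add, Matrix.add_mul, e, e, hPu, hQu, op_neg, op_neg,
      Matrix.neg_mul, Matrix.mul_neg, neg_neg, ← two_smul F] at h2'
    have := S.smul_mem (2 : F)⁻¹ h2'
    rwa [smul_smul, inv_mul_cancel₀ htwo, one_smul] at this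
  have hpairTens : ∀ (x y : Rest i) (u : Rest i → Fin k → F), x ≠ y →
      rootsOn J {x, y} u = op x (nilp J (u x)) * op y (nilp J (u y)) := fun x y u hxy => by
    rw [rootsOn, op_eq_tens, op_eq_tens, tens_mul]
    congr 1
    funext l
    by_cases hl : l = x
    · subst hl; simp [hxy]
    · by_cases hl' : l = y
      · subst hl'; simp [hl]
      · simp [hl, hl']
  have hbc0 : b + c ≠ 0 := fun e => by
    have := congrArg (fJ J b) e
    rw [fJ_add_right, hJ.alt, hbc, fJ_zero_right, zero_add] at this
    exact one_ne_zero this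
  have hpair : ∀ (x y : Rest i) (u : Rest i → Fin k → F), x ≠ y → rootsOn J {x, y} u ∈ S := by
    intro x y u hxy
    obtain ⟨σ, hσ, hσxy, g, hg, hgσ⟩ := hperm a.1 a'.1 x.1 y.1 a.2 a'.2 x.2 y.2
      ⟨fun e => absurd (Subtype.ext e.symm) ha', fun e => absurd (Subtype.ext e) hxy⟩
    obtain ⟨W, W', hW, -, h1, -, hop⟩ := exists_perm_embM (F := F) hk hσ
    have h3 := hM.long_conj_embM hpair₀ hg (by rw [hgσ, hW]) h1
    have hmid : ∀ A B : TMat F (Rest i) k, W * (A * B) * W' = (W * A * W') * (W * B * W') := fun A B => by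
      simp only [Matrix.mul_assoc]
      rw [← Matrix.mul_assoc W' W, h1, Matrix.one_mul]
    refine hmove {x, y} (fun _ => b + c) u (fun _ _ => hbc0) ?_
    show Long J G _
    rw [hpairTens x y _ hxy]
    rcases hσxy with ⟨h, h'⟩ | ⟨h, h'⟩
    · rwa [hmid, hop a x h, hop a' y h'] at h3
    · rw [hmid, hop a y h, hop a' x h'] at h3
      rwa [op_comm hxy]
  -- every even support
  have heven : ∀ (n : ℕ) (U : Finset (Rest i)), U.card = n → Even n → ∀ u, rootsOn J U u ∈ S := by
    intro n
    induction n using Nat.strong_induction_on with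
    | _ n ih =>
    intro U hU hn u
    rcases U.eq_empty_or_nonempty with rfl | ⟨x, hx⟩
    · show Long J G _
      rw [rootsOn]
      simp only [Finset.notMem_empty, if_false]
      rw [show tens (fun _ : Rest i => (1 : Matrix (Fin k) (Fin k) F)) = (1 : TMat F (Rest i) k) from map_one tens]
      exact hO.long_one
    obtain ⟨y, hy, hyx⟩ : ∃ y ∈ U, y ≠ x := by
      by_contra hc
      push Not at hc
      rw [show U = {x} from Finset.eq_singleton_iff_unique_mem.2 ⟨hx, hc⟩, Finset.card_singleton] at hU
      subst hU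
      exact absurd hn (by simp)
    set U' := (U.erase x).erase y with hU'
    have hc1 : U'.card + 2 = n := by
      have hy' : y ∈ U.erase x := Finset.mem_erase.2 ⟨hyx, hy⟩
      have := Finset.card_pos.2 ⟨x, hx⟩
      have := Finset.card_pos.2 ⟨y, hy'⟩
      rw [hU', Finset.card_erase_of_mem hy', ← hU]
      have e := Finset.card_erase_of_mem hx
      omega
    have hn' : Even U'.card := by
      obtain ⟨r, hr⟩ := hn
      exact ⟨r - 1, by omega⟩
    have hp := hpair x y u hyx.symm
    have hq := ih U'.card (by omega) U' rfl hn' u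
    have hsq : rootsOn J {x, y} u * rootsOn J {x, y} u = 0 := by
      rw [rootsOn, tens_mul]
      ext p q
      rw [tens_apply, Matrix.zero_apply]
      exact Finset.prod_eq_zero (Finset.mem_univ x) (by simp [hJ.nilp_sq])
    have h3 := S.smul_mem (2 : F)⁻¹ (hO.long_jordan htwo hk hp hq hsq : _ ∈ S)
    have e1 : rootsOn J {x, y} u * rootsOn J U' u = rootsOn J U u ∧
        rootsOn J U' u * rootsOn J {x, y} u = rootsOn J U u := by
      constructor <;>
      · rw [rootsOn, rootsOn, rootsOn, tens_mul]
        congr 1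
        funext l
        by_cases hlx : l = x
        · subst hlx; simp [hU', hx]
        · by_cases hly : l = y
          · subst hly; simp [hU', hy]
          · simp [hU', hlx, hly]
    rwa [e1.1, e1.2, ← two_smul F, smul_smul, inv_mul_cancel₀ htwo, one_smul] at h3
  -- symmetrisation
  let P : Submodule F (TMat F (Rest i) k) :=
    { carrier := {Z | Z + adjH H Z ∈ S}
      zero_mem' := by simp [adjH]
      add_mem' := fun {Y Z} hY hZ => by
        show Y + Z + adjH H (Y + Z) ∈ S
        rw [adjH_add, add_add_add_comm]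
        exact S.add_mem hY hZ
      smul_mem' := fun c Z hZ => by
        show c • Z + adjH H (c • Z) ∈ S
        rw [adjH_smul, ← smul_add]
        exact S.smul_mem c hZ }
  have hgen : ∀ (s : Finset (Rest i)) (C : Rest i → Matrix (Fin k) (Fin k) F),
      (∀ l ∉ s, C l = 1 ∨ ∃ u, u ≠ 0 ∧ C l = nilp J u) → tens C ∈ P := by
    intro s
    induction s using Finset.induction with
    | empty =>
      intro C hC
      choose u hu using fun l => show ∃ u, C l ≠ 1 → u ≠ 0 ∧ C l = nilp J u by
        rcases hC l (Finset.notMem_empty l) with h | ⟨u, hu, h⟩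
        · exact ⟨0, fun h' => absurd h h'⟩
        · exact ⟨u, fun _ => ⟨hu, h⟩⟩
      set U := Finset.univ.filter fun l => C l ≠ 1 with hUdef
      have hCU : tens C = rootsOn J U u := by
        rw [rootsOn]
        congr 1
        funext l
        by_cases hl : C l = 1
        · simp [hUdef, hl]
        · rw [if_pos (by simp [hUdef, hl]), (hu l hl).2]
      show tens C + adjH H (tens C) ∈ S
      rw [hCU, hadj]
      rcases Nat.even_or_odd U.card with h | h
      · rw [h.neg_one_pow, one_smul]
        exact S.add_mem (heven _ U rfl h u) (heven _ U rfl h u)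
      · rw [h.neg_one_pow, neg_one_smul, add_neg_cancel]
        exact S.zero_mem
    | @insert x s hx ih =>
      intro C hC
      let Px : Submodule F (Matrix (Fin k) (Fin k) F) :=
        { carrier := {A | tens (Function.update C x A) ∈ P}
          zero_mem' := by
            show tens (Function.update C x 0) ∈ P
            have : tens (Function.update C x 0) = (0 : TMat F (Rest i) k) := by
              ext p q
              rw [tens_apply, Matrix.zero_apply]
              exact Finset.prod_eq_zero (Finset.mem_univ x) (by simp)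
            rw [this]
            exact P.zero_mem
          add_mem' := fun {A B} hA hB => by
            show tens (Function.update C x (A + B)) ∈ P
            have := tens_update_add_smul C x 1 1 A B
            rw [one_smul, one_smul, one_smul, one_smul] at this
            rw [this]
            exact P.add_mem hA hB
          smul_mem' := fun r A hA => by
            show tens (Function.update C x (r • A)) ∈ P
            have := tens_update_add_smul C x r 0 A 0
            rw [zero_smul, add_zero, zero_smul, add_zero] at this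
            rw [this]
            exact P.smul_mem r hA }
      have hbase : ∀ A, (A = 1 ∨ ∃ u, u ≠ 0 ∧ A = nilp J u) → A ∈ Px := fun A hA =>
        ih (Function.update C x A) fun l hl => by
          by_cases hlx : l = x
          · subst hlx; simpa using hA
          · simpa [hlx] using hC l (by simp [hl, hlx])
      have := hJ.span_two h2 Px (hbase 1 (Or.inl rfl)) (fun u hu => hbase _ (Or.inr ⟨u, hu, rfl⟩)) (C x)
      simpa [Px] using this
  have hP : D' ∈ P := by
    rw [Matrix.matrix_eq_sum_single D']
    refine P.sum_mem fun x _ => P.sum_mem fun y _ => ?_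
    rw [show Matrix.single x y (D' x y) = D' x y • tens (fun l => Matrix.single (x l) (y l) (1 : F)) by
      ext p q
      rw [Matrix.smul_apply, tens_apply, Matrix.single_apply, smul_eq_mul]
      by_cases hpq : x = p ∧ y = q
      · rw [if_pos hpq, Finset.prod_eq_one (fun l _ => by rw [hpq.1, hpq.2, Matrix.single_apply, if_pos ⟨rfl, rfl⟩]),
          mul_one]
      · rw [if_neg hpq]
        obtain ⟨l, hl⟩ : ∃ l, ¬ (x l = p l ∧ y l = q l) := by
          by_contra hc
          push Not at hc
          exact hpq ⟨funext fun l => (hc l).1, funext fun l => (hc l).2⟩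
        rw [Finset.prod_eq_zero (Finset.mem_univ l) (by rw [Matrix.single_apply, if_neg hl]), mul_zero]]
    exact P.smul_mem _ (hgen Finset.univ _ (fun l hl => absurd (Finset.mem_univ l) hl))
  have h5 : D' + adjH H D' ∈ S := hP
  rw [hD'] at h5
  have h6 := S.smul_mem (2 : F)⁻¹ h5
  rw [← two_smul F, smul_smul, inv_mul_cancel₀ htwo, one_smul] at h6
  exact long_splitGroup.1 h6

/-- Every symmetrised factor. -/
theorem TOver.long_all (hM : TOver J M) (hk : 2 ≤ k) {i : κ} (hperm : PairTrans M i)
    {D : TMat F (Rest i) k} (hns : ¬ IsScalarMat D) (hD : LongAt J M i D) :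
    ∀ X : TMat F (Rest i) k, LongAt J M i (X + adjH (gramT (Rest i) J) X) := by
  rcases Nat.lt_or_ge k 3 with h | h
  · intro X
    exact hM.long_all_two (by omega) hperm hns hD _ (by
      rw [adjH_add, (gramT_formed hM.jGram).adjH_adjH, add_comm])
  · exact hM.long_all_three h hperm hns hD

end CfsgLib.Classical.WreathMaxSp
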