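import Cfsg.Agent.Lib.Classical.WreathMaxSp.Root

/-!
# All root elements of the factors give every transvection
-/

set_option autoImplicit false
set_option linter.unusedSectionVars false

open Matrix Module
open scoped Kronecker

namespace CfsgLib.Classical.WreathMaxSp

variable {F : Type*} [Field F] {k : ℕ} {ι : Type} [Fintype ι] [DecidableEq ι]
  {J : Matrix (Fin k) (Fin k) F} {H : Matrix ι ι F} {M : Subgroup (GL (Fin k × ι) F)}

/-- The pure vector `u ⊗ r`. -/
def pvec (u : Fin k → F) (r : ι → F) : Fin k × ι → F := fun p => u p.1 * r p.2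

theorem pvec_vecMul_gram (u : Fin k → F) (r : ι → F) :
    pvec u r ᵥ* gram J H = pvec (beta J u) (r ᵥ* H) := by
  funext p
  simp only [pvec, gram, beta, Matrix.vecMul, dotProduct, Fintype.sum_prod_type, Matrix.kroneckerMap_apply,
    Finset.sum_mul, Finset.mul_sum]
  rw [Finset.sum_comm]
  exact Finset.sum_congr rfl fun a _ => Finset.sum_congr rfl fun s _ => by ring

theorem pvec_dot (u w : Fin k → F) (r q : ι → F) : pvec u r ⬝ᵥ pvec w q = (u ⬝ᵥ w) * (r ⬝ᵥ q) := by
  simp only [pvec, dotProduct, Fintype.sum_prod_type, Finset.sum_mul, Finset.mul_sum]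
  rw [Finset.sum_comm]
  exact Finset.sum_congr rfl fun a _ => Finset.sum_congr rfl fun s _ => by ring

/-- A group of isometries with all root elements of self-adjoint factor contains every transvection. -/
theorem Over.transvection_mem (hM : Over J H M) (h2 : (2 : F) ≠ 0) (hH : Hᵀ = H)
    (hall : ∀ D, adjH H D = D → Long J M D) (x : Fin k × ι → F) (c : F) :
    InM M (c • vecMulVec x (x ᵥ* gram J H)) := by
  classical
  have hJ := hM.jGram
  set G := gram J H with hG
  let OK : (Fin k × ι → F) → Prop := fun y => ∀ c : F, InM M (c • vecMulVec y (y ᵥ* G))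
  suffices key : ∀ y, OK y from key x c
  have hpure : ∀ u r, OK (pvec u r) := by
    intro u r c
    have hD : adjH H (c • vecMulVec r (r ᵥ* H)) = c • vecMulVec r (r ᵥ* H) := by
      rw [adjH_smul, adjH, Matrix.transpose_vecMulVec, Matrix.mul_vecMulVec, Matrix.vecMulVec_mul]
      congr 2
      rw [← Matrix.mulVec_transpose, hH, Matrix.mulVec_mulVec, Matrix.nonsing_inv_mul H hM.hGram.unit,
        Matrix.one_mulVec]
    have h := hall _ hD u
    rw [root_smul, root, rect_eq_kron] at h
    convert h using 2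
    ext p q
    simp only [pvec_vecMul_gram, hG, pvec, vecMulVec_apply, Matrix.kroneckerMap_apply]
    ring
  have hadd : ∀ y z, OK y → OK z → (y ᵥ* G) ⬝ᵥ z ≠ 0 → ∀ s : F, OK (z + s • y) := by
    intro y z hy hz hyz s c
    obtain ⟨g, hg, e⟩ := hy (s / ((y ᵥ* G) ⬝ᵥ z))
    have hgz : g.1 *ᵥ z = z + s • y := by
      rw [e, Matrix.add_mulVec, Matrix.one_mulVec, Matrix.smul_mulVec, vecMulVec_mulVec, op_smul_eq_smul, smul_smul,
        div_mul_cancel₀ _ hyz]
    refine (hz c).conj hg ?_
    rw [Matrix.mul_smul, Matrix.smul_mul, Matrix.mul_vecMulVec, Matrix.vecMulVec_mul, hgz]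
    congr 2
    rw [← hgz, ← Matrix.vecMul_transpose, Matrix.vecMul_vecMul, Matrix.vecMul_vecMul, hG, ← Matrix.mul_assoc,
      hM.iso g hg]
  haveI : Invertible (2 : F) := invertibleOfNonzero h2
  obtain ⟨ε, hε⟩ := (Matrix.toBilin' H).exists_orthogonal_basis
    (LinearMap.isSymm_def.2 fun p q => by
      rw [Matrix.toBilin'_apply', Matrix.toBilin'_apply', dotProduct_mulVec, dotProduct_comm,
        ← Matrix.mulVec_transpose, hH]
      rfl)
  have horth : ∀ s t, s ≠ t → (ε s ᵥ* H) ⬝ᵥ ε t = 0 := fun s t hst => by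
    have := hε hst
    rwa [Function.onFun, Matrix.toBilin'_apply', dotProduct_mulVec] at this
  have hd : ∀ s, (ε s ᵥ* H) ⬝ᵥ ε s ≠ 0 := fun s h0 => by
    refine ε.ne_zero s (Matrix.eq_zero_of_vecMul_eq_zero hM.hGram.unit.ne_zero ?_)
    have h1 : ∀ r, (ε s ᵥ* H) ⬝ᵥ r = 0 := fun r => by
      rw [← ε.sum_repr r, dotProduct_sum]
      refine Finset.sum_eq_zero fun t _ => ?_
      rw [dotProduct_smul]
      rcases eq_or_ne s t with rfl | hst
      · rw [h0, smul_zero]
      · rw [horth s t hst, smul_zero]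
    funext a
    simpa using h1 (Pi.single a 1)
  have hB : ∀ u r w q, (pvec u r ᵥ* G) ⬝ᵥ pvec w q = fJ J u w * ((r ᵥ* H) ⬝ᵥ q) := fun u r w q => by
    rw [hG, pvec_vecMul_gram, pvec_dot, beta_dot]
  have main : ∀ (n : ℕ) (S : Finset (Fin (finrank F (ι → F)))), S.card = n →
      ∀ v : Fin (finrank F (ι → F)) → Fin k → F, OK (∑ s ∈ S, pvec (v s) (ε s)) := by
    intro n
    induction n using Nat.strong_induction_on with
    | _ n ih =>
    intro S hS v
    rcases S.eq_empty_or_nonempty with rfl | ⟨a, ha⟩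
    · intro c
      simpa using InM.zero
    by_cases hone : S = {a}
    · rw [hone, Finset.sum_singleton]
      exact hpure _ _
    obtain ⟨b, hb, hba⟩ : ∃ b ∈ S, b ≠ a := by
      by_contra hc
      push Not at hc
      exact hone (Finset.eq_singleton_iff_unique_mem.2 ⟨ha, hc⟩)
    have hlt : ∀ p ∈ S, (S.erase p).card < n := fun p hp => hS ▸ Finset.card_erase_lt_of_mem hp
    by_cases hva : v a = 0
    · rw [← Finset.sum_erase S (show pvec (v a) (ε a) = 0 by funext p; simp [pvec, hva])]
      exact ih _ (hlt a ha) _ rfl v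
    by_cases hvb : v b = 0
    · rw [← Finset.sum_erase S (show pvec (v b) (ε b) = 0 by funext p; simp [pvec, hvb])]
      exact ih _ (hlt b hb) _ rfl v
    have hval : ∀ (u : Fin k → F) (r : Fin (finrank F (ι → F))) (v' : Fin (finrank F (ι → F)) → Fin k → F),
        r ∈ S → (pvec u (ε r) ᵥ* G) ⬝ᵥ (∑ s ∈ S, pvec (v' s) (ε s)) = fJ J u (v' r) * ((ε r ᵥ* H) ⬝ᵥ ε r) := by
      intro u r v' hr
      rw [dotProduct_sum, Finset.sum_eq_single_of_mem r hr fun s _ hs => by rw [hB, horth r s hs.symm, mul_zero], hB]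
    have hred : ∀ v' : Fin (finrank F (ι → F)) → Fin k → F, fJ J (v' a) (v' b) ≠ 0 →
        OK (∑ s ∈ S, pvec (v' s) (ε s)) := by
      intro v' hab
      set X := ∑ s ∈ S, pvec (v' s) (ε s) with hX
      set z := pvec (v' a) (ε a + ε b) with hz
      have hzsum : z = pvec (v' a) (ε a) + pvec (v' a) (ε b) := by
        funext p
        simp [hz, pvec, mul_add]
      have hzX : (z ᵥ* G) ⬝ᵥ X = fJ J (v' a) (v' b) * ((ε b ᵥ* H) ⬝ᵥ ε b) := by
        rw [hzsum, Matrix.add_vecMul, add_dotProduct, hX, hval _ a v' ha, hval _ b v' hb, hJ.alt, zero_mul, zero_add]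
      have hzz : (z ᵥ* G) ⬝ᵥ z = 0 := by rw [hz, hB, hJ.alt, zero_mul]
      have hrest : X - z = ∑ s ∈ S.erase a, pvec (Function.update v' b (v' b - v' a) s) (ε s) := by
        rw [hX, ← Finset.add_sum_erase S _ ha, hzsum,
          ← Finset.add_sum_erase (S.erase a) _ (Finset.mem_erase.2 ⟨hba, hb⟩),
          ← Finset.add_sum_erase (S.erase a) (fun s => pvec (Function.update v' b (v' b - v' a) s) (ε s))
            (Finset.mem_erase.2 ⟨hba, hb⟩), Function.update_self]
        rw [Finset.sum_congr rfl (g := fun s => pvec (v' s) (ε s))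
          (f := fun s => pvec (Function.update v' b (v' b - v' a) s) (ε s))
          fun s hs => by rw [Function.update_of_ne (Finset.ne_of_mem_erase hs)]]
        funext p
        simp [pvec]
        ring
      have h1 : OK (X - z) := by rw [hrest]; exact ih _ (hlt a ha) _ rfl _
      have h2 := hadd z (X - z) (hpure _ _) h1 (by
        rw [dotProduct_sub, hzX, hzz, sub_zero]
        exact mul_ne_zero hab (hd b)) 1
      rwa [one_smul, sub_add_cancel] at h2
    obtain ⟨w, hwa, hwb⟩ : ∃ w, fJ J w (v a) ≠ 0 ∧ fJ J w (v b) ≠ 0 := by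
      obtain ⟨y₁, hy₁⟩ := hJ.exists_pair hva
      obtain ⟨y₂, hy₂⟩ := hJ.exists_pair hvb
      have e : ∀ u y, fJ J u y ≠ 0 → fJ J y u ≠ 0 := fun u y h => by rw [hJ.swap]; exact neg_ne_zero.2 h
      by_cases h₁ : fJ J y₁ (v b) = 0
      · by_cases h₂ : fJ J y₂ (v a) = 0
        · refine ⟨y₁ + y₂, ?_, ?_⟩
          · rw [fJ_add_left, h₂, add_zero]; exact e _ _ (by rw [hy₁]; exact one_ne_zero)
          · rw [fJ_add_left, h₁, zero_add]; exact e _ _ (by rw [hy₂]; exact one_ne_zero)
        · exact ⟨y₂, h₂, e _ _ (by rw [hy₂]; exact one_ne_zero)⟩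
      · exact ⟨y₁, e _ _ (by rw [hy₁]; exact one_ne_zero), h₁⟩
    by_cases hab : fJ J (v a) (v b) = 0
    · set X := ∑ s ∈ S, pvec (v s) (ε s) with hX
      set z := pvec w (ε a) with hz
      have hsum : X + z = ∑ s ∈ S, pvec (Function.update v a (v a + w) s) (ε s) := by
        rw [hX, ← Finset.add_sum_erase S _ ha, ← Finset.add_sum_erase S (fun s => pvec (Function.update v a (v a + w) s) (ε s)) ha,
          Function.update_self, Finset.sum_congr rfl (g := fun s => pvec (v s) (ε s))
          (f := fun s => pvec (Function.update v a (v a + w) s) (ε s))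
          fun s hs => by rw [Function.update_of_ne (Finset.ne_of_mem_erase hs)]]
        funext p
        simp [hz, pvec]
        ring
      have h1 : OK (X + z) := by
        rw [hsum]
        refine hred _ ?_
        rw [Function.update_self, Function.update_of_ne hba, fJ_add_left, hab, zero_add]
        exact hwb
      have h2 := hadd z (X + z) (hpure _ _) h1 (by
        rw [dotProduct_add, hX, hz, hval _ a v ha, hB, hJ.alt, zero_mul, add_zero]
        exact mul_ne_zero hwa (hd a)) (-1)
      rwa [neg_one_smul, add_neg_cancel_right] at h2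
    · exact hred v hab
  intro y
  have hy : y = ∑ s, pvec (fun a => ε.repr (fun t => y (a, t)) s) (ε s) := by
    funext ⟨a, t⟩
    have := congrFun (ε.sum_repr fun t => y (a, t)) t
    simp only [Finset.sum_apply, Pi.smul_apply, smul_eq_mul] at this
    simp only [Finset.sum_apply, pvec]
    exact this.symm
  rw [hy]
  exact main _ Finset.univ rfl _

end CfsgLib.Classical.WreathMaxSp
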