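import Cfsg.Prelude.Def_GeometricClasses
import Cfsg.Agent.Lib.Classical.SympMatrix
import Cfsg.Agent.Lib.Classical.WreathMax.Main
import Cfsg.Agent.Lib.Classical.WreathMaxSp.Climb
import Cfsg.Agent.Lib.Classical.WreathMaxSp.Finish

/-!
# Maximality of the stabiliser of a tensor power of symplectic forms in the symplectic group
-/

set_option autoImplicit false
set_option linter.unusedSectionVars false

open Matrix Module CfsgLib.Classical.WreathMax
open scoped Kronecker

namespace CfsgLib.Classical.WreathMaxSp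

variable {F : Type*} [Field F] {κ : Type} [Fintype κ] [DecidableEq κ] {k : ℕ}
  {J : Matrix (Fin k) (Fin k) F}

theorem permM_isometry (σ : Equiv.Perm κ) :
    (permM σ : TMat F κ k)ᵀ * gramT κ J * permM σ = gramT κ J := by
  have ht : (permM σ : TMat F κ k)ᵀ = permM σ⁻¹ := by
    ext x y
    rw [Matrix.transpose_apply, permM_apply, permM_apply]
    congr 1
    exact propext ⟨fun h => funext fun l => by simp [h], fun h => funext fun l => by simp [h]⟩
  have hc : gramT κ J * permM σ = (permM σ : TMat F κ k) * gramT κ J := by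
    rw [gramT, permM_mul_tens]
  rw [ht, Matrix.mul_assoc, hc, ← Matrix.mul_assoc, ← map_mul, inv_mul_cancel, map_one, Matrix.one_mul]

theorem gramT_transpose (hJ : SkewGram J) : (gramT κ J)ᵀ = (-1 : F) ^ Fintype.card κ • gramT κ J := by
  rw [gramT, tens_transpose, hJ.skew]
  have := tens_smul (fun _ : κ => (-1 : F)) fun _ => J
  simpa [Finset.prod_const, Finset.card_univ] using this

/-- Transvections are not in the stabiliser. -/
theorem transvection_not_mem_wreathT (hJ : SkewGram J) (hk : 2 ≤ k) (hκ : 1 < Fintype.card κ)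
    {x : (κ → Fin k) → F} (hx : x ≠ 0) {c : F} (hc : c ≠ 0) {g : GL (κ → Fin k) F}
    (e : g.1 = 1 + c • vecMulVec x (x ᵥ* gramT κ J)) (hiso : g.1ᵀ * gramT κ J * g.1 = gramT κ J)
    (hxx : (x ᵥ* gramT κ J) ⬝ᵥ x = 0) : g ∉ wreathT F κ k := by
  classical
  intro hg
  obtain ⟨l₀, o₀, hlo⟩ := Fintype.one_lt_card_iff.1 hκ
  haveI : Nonempty (Fin k) := ⟨⟨0, by omega⟩⟩
  set z := x ᵥ* gramT κ J with hz
  have hz0 : z ≠ 0 := fun h => hx (Matrix.eq_zero_of_vecMul_eq_zero (gramT_formed hJ).unit.ne_zero h)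
  obtain ⟨p, hp⟩ := Function.ne_iff.1 hx
  obtain ⟨q, hq⟩ := Function.ne_iff.1 hz0
  have hT : g.1 - 1 = c • vecMulVec x z := by rw [e, add_sub_cancel_left]
  have hg1 : g ≠ 1 := fun h => by
    rw [h, Units.val_one, sub_self] at hT
    have := congrFun (congrFun hT p) q
    simp only [Matrix.zero_apply, Matrix.smul_apply, vecMulVec_apply, smul_eq_mul] at this
    exact mul_ne_zero hc (mul_ne_zero (by simpa using hp) (by simpa using hq)) this.symm
  obtain ⟨j, u, c', hu, hc', he⟩ := classify_root hJ hk l₀ hg hg1 hiso (by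
      rw [hT, Matrix.smul_mul, Matrix.mul_smul, vecMulVec_mul_vecMulVec, hxx, zero_smul, vecMulVec_zero, smul_zero,
        smul_zero]) (by
      rw [hT, ← smul_vecMulVec]
      exact (rank_vecMulVec_le _ _).trans Fintype.card_pos)
  obtain ⟨v, hv⟩ := hJ.exists_pair hu
  have hN : nilp J u ≠ 0 := fun h => by
    have h1 := congrArg (· *ᵥ v) h
    simp only [nilp_mulVec, hv, one_smul, Matrix.zero_mulVec] at h1
    exact hu h1
  obtain ⟨a, b, hab⟩ : ∃ a b, nilp J u a b ≠ 0 := by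
    by_contra h
    push Not at h
    exact hN (Matrix.ext h)
  obtain ⟨o, hoj⟩ : ∃ o, o ≠ j := by
    by_cases h : l₀ = j
    · exact ⟨o₀, fun h' => hlo (h.trans h'.symm)⟩
    · exact ⟨l₀, h⟩
  have key : ∀ w w' : κ → Fin k, c * (x w * z w') =
      c' * if ∀ l, l ≠ j → w l = w' l then nilp J u (w j) (w' j) else 0 := fun w w' => by
    have h1 : c • vecMulVec x z = c' • op j (nilp J u) := by rw [← hT, he, add_sub_cancel_left]
    have := congrFun (congrFun h1 w) w'
    rwa [Matrix.smul_apply, Matrix.smul_apply, op_apply, vecMulVec_apply, smul_eq_mul, smul_eq_mul] at this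
  set f0 : κ → Fin k := fun _ => ⟨0, by omega⟩
  set f1 : κ → Fin k := Function.update f0 o ⟨1, by omega⟩
  have hne : f0 o ≠ f1 o := by simp [f0, f1, Fin.ext_iff]
  have k1 := key (Function.update f0 j a) (Function.update f0 j b)
  have k2 := key (Function.update f1 j a) (Function.update f1 j b)
  have k3 := key (Function.update f0 j a) (Function.update f1 j b)
  rw [if_pos fun l hl => by rw [Function.update_of_ne hl, Function.update_of_ne hl], Function.update_self,
    Function.update_self] at k1 k2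
  rw [if_neg fun h => hne (by simpa [hoj] using h o hoj), mul_zero] at k3
  have h4 : c * (x (Function.update f0 j a)) ≠ 0 ∧ z (Function.update f1 j b) ≠ 0 := by
    refine ⟨fun h => ?_, fun h => ?_⟩
    · exact mul_ne_zero hc' hab (by rw [← k1, ← mul_assoc, h, zero_mul])
    · exact mul_ne_zero hc' hab (by rw [← k2, h, mul_zero, mul_zero])
  exact mul_ne_zero h4.1 h4.2 (by rw [mul_assoc]; exact k3)

/-- An isometry group containing the stabiliser and not inside it contains every transvection. -/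
theorem transvection_mem_of_not_le [Fintype F] {t : ℕ} (ht : Odd t) (h2 : (2 : F) ≠ 0) (hJ : SkewGram J) (hk : 2 ≤ k)
    (hsize : 3 ≤ k ∨ 4 ≤ Fintype.card F) {M : Subgroup (GL (Fin t → Fin k) F)}
    (hiso : ∀ g ∈ M, g.1ᵀ * gramT (Fin t) J * g.1 = gramT (Fin t) J)
    (hsub : ∀ g ∈ wreathT F (Fin t) k, g.1ᵀ * gramT (Fin t) J * g.1 = gramT (Fin t) J → g ∈ M)
    (hne : ¬ M ≤ wreathT F (Fin t) k) (x : (Fin t → Fin k) → F) (c : F) :
    InM M (c • vecMulVec x (x ᵥ* gramT (Fin t) J)) := by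
  classical
  have hop : ∀ (i : Fin t) C, InSp J C → ∃ g ∈ M, g.1 = op i C := fun i C hC => by
    obtain ⟨C', hCC⟩ := hC.exists_inv hJ
    exact ⟨⟨op i C, op i C', by rw [← map_mul, hCC, map_one], by rw [← map_mul, mul_eq_one_comm.1 hCC, map_one]⟩,
      hsub _ (op_mem_wreathT i (A := C) rfl) (op_isometry hC i), rfl⟩
  have hM : TOver J M := ⟨hJ, hiso, hop⟩
  obtain ⟨g, hg, hgT⟩ := SetLike.not_le_iff_exists.1 hne
  haveI : Nonempty (Fin t) := ⟨⟨0, ht.pos⟩⟩
  rcases mem_wreathT_or_long hk hsize _ (Fin t) rfl M hM g 1 one_ne_zero (by rw [one_smul]; exact hiso g hg)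
      (fun l C hC => by
        obtain ⟨o, ho, e⟩ := hop l C hC
        exact ⟨g * o * g⁻¹, mul_mem (mul_mem hg ho) (inv_mem hg), by
          rw [Units.val_mul, Units.val_mul, e, Matrix.mul_assoc, ← Units.val_mul, inv_mul_cancel, Units.val_one,
            Matrix.mul_one]⟩) with h | ⟨i, D, hns, hD⟩
  · exact absurd h hgT
  have hperm : PairTrans M i := fun a a' p p' ha ha' hp hp' hiff => by
    have hmem : ∀ σ : Equiv.Perm (Fin t), ∃ g ∈ M, g.1 = permM σ := fun σ =>
      ⟨permU σ, hsub _ (permU_mem σ) (by rw [permU_coe]; exact permM_isometry σ), permU_coe σ⟩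
    set τ := Equiv.swap a p with hτ
    have hτi : τ i = i := Equiv.swap_apply_of_ne_of_ne ha.symm hp.symm
    by_cases haa : a = a'
    · refine ⟨τ, hτi, Or.inl ⟨Equiv.swap_apply_left a p, ?_⟩, hmem _⟩
      rw [← haa, ← hiff.1 haa, Equiv.swap_apply_left]
    · have hbi : τ a' ≠ i := fun h => ha' (τ.injective (h.trans hτi.symm))
      refine ⟨Equiv.swap (τ a') p' * τ, ?_, Or.inl ⟨?_, ?_⟩, hmem _⟩
      · rw [Equiv.Perm.mul_apply, hτi, Equiv.swap_apply_of_ne_of_ne hbi.symm hp'.symm]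
      · rw [Equiv.Perm.mul_apply, hτ, Equiv.swap_apply_left, Equiv.swap_apply_of_ne_of_ne]
        · intro h
          rw [← Equiv.swap_apply_left a p] at h
          exact haa (τ.injective (by simpa [hτ] using h))
        · exact fun h => haa (hiff.2 h)
      · rw [Equiv.Perm.mul_apply, Equiv.swap_apply_left]
  have htwo : (2 : F) ≠ 0 := h2
  have hall : ∀ D' : TMat F (Rest i) k, adjH (gramT (Rest i) J) D' = D' → LongAt J M i D' := fun D' hD' => by
    have h := hM.long_all hk hperm hns hD ((2 : F)⁻¹ • D')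
    rwa [adjH_smul, hD', ← two_smul F, smul_smul, mul_inv_cancel₀ htwo, one_smul] at h
  have hsym : (gramT (Rest i) J)ᵀ = gramT (Rest i) J := by
    rw [gramT_transpose hJ]
    have : Even (Fintype.card (Rest i)) := by
      rw [show Fintype.card (Rest i) = t - 1 by simp]
      obtain ⟨r, hr⟩ := ht
      exact ⟨r, by omega⟩
    rw [this.neg_one_pow, one_smul]
  set x' : Fin k × (Rest i → Fin k) → F := x ∘ (Equiv.funSplitAt i (Fin k)).symm with hx'
  have h := (hM.over_split i).transvection_mem h2 hsym (fun D hD' => long_splitGroup.2 (hall D hD')) x' c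
  rw [← inM_splitGroup (i := i), map_smul]
  convert h using 2
  ext p q
  rw [split_apply, vecMulVec_apply, vecMulVec_apply, hx', ← split_gramT]
  congr 1
  simp only [Matrix.vecMul, dotProduct, Function.comp_apply, split_apply]
  exact ((Equiv.funSplitAt i (Fin k)).symm.sum_comp fun a => x a * gramT (Fin t) J a ((Equiv.funSplitAt i (Fin k)).symm q)).symm

/-! ### The statement's coordinates -/

theorem skewGram_gramMatrix {f : (Fin k → F) → (Fin k → F) → F} (h2 : (2 : F) ≠ 0)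
    (hf : Cfsg.Geo.IsSymplecticForm f) : SkewGram (Cfsg.Geo.gramMatrix f) := by
  refine SkewGram.of_two h2 (Matrix.ext fun a b => hf.skew _ _) (isUnit_iff_ne_zero.2 fun h0 => ?_)
  obtain ⟨u, hu, hu0⟩ := Matrix.exists_vecMul_eq_zero_iff.2 h0
  obtain ⟨-, v, hv⟩ := hf.nondegenerate u hu
  let B : (Fin k → F) →ₗ[F] (Fin k → F) →ₗ[F] F :=
    LinearMap.mk₂ F f hf.bilinear.add_left (fun c x y => hf.bilinear.smul_left c x y) hf.bilinear.add_right
      (fun c x y => hf.bilinear.smul_right c x y)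
  refine hv ?_
  show B u v = 0
  rw [pi_eq_sum_univ' v, map_sum]
  refine Finset.sum_eq_zero fun b _ => ?_
  rw [map_smul]
  suffices B u (Pi.single b 1) = 0 by rw [this, smul_zero]
  have := congrFun hu0 b
  rw [pi_eq_sum_univ' u, map_sum, LinearMap.sum_apply]
  simpa [B, Matrix.vecMul, dotProduct, Cfsg.Geo.gramMatrix] using this

variable [Fintype F] {m t : ℕ}

/-- The stabiliser of a tensor power of symplectic forms is maximal in the symplectic group. -/
theorem isMaximal_sp (hm : 1 ≤ m) (hodd : Odd (Fintype.card F)) (ht : Odd t) (ht3 : 3 ≤ t)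
    (hex : ¬ (Fintype.card F = 3 ∧ k = 2)) (e : (Fin m ⊕ Fin m) ≃ (Fin t → Fin k))
    (P : GL (Fin m ⊕ Fin m) F) (f₁ : (Fin k → F) → (Fin k → F) → F) (hf₁ : Cfsg.Geo.IsSymplecticForm f₁)
    (hT : Cfsg.Geo.IsTensorPowerFormStructure id (Cfsg.sympForm m F) f₁ e P) :
    Cfsg.Geo.IsMaximalIn (Cfsg.spGL m F) (Cfsg.Geo.tensorWreathSubgroup k t e P ⊓ Cfsg.spGL m F) := by
  classical
  have h2 : (2 : F) ≠ 0 := by
    intro h
    obtain ⟨r, hr⟩ := hodd
    have h1 : ((Fintype.card F : ℕ) : F) = 0 := FiniteField.cast_card_eq_zero F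
    rw [hr, Nat.cast_add, Nat.cast_mul, Nat.cast_ofNat, h, zero_mul, zero_add, Nat.cast_one] at h1
    exact one_ne_zero h1
  set J₁ := Cfsg.Geo.gramMatrix f₁ with hJ₁
  have hJ : SkewGram J₁ := skewGram_gramMatrix h2 hf₁
  have hcard : 2 * m = k ^ t := by
    have := Fintype.card_congr e
    simpa [two_mul] using this
  have hk : 2 ≤ k := by
    by_contra hk
    have : k ^ t ≤ 1 := by
      calc k ^ t ≤ 1 ^ t := Nat.pow_le_pow_left (by omega) t
        _ = 1 := one_pow t
    omega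
  have hsize : 3 ≤ k ∨ 4 ≤ Fintype.card F := by
    by_cases h3 : 3 ≤ k
    · exact Or.inl h3
    · refine Or.inr ?_
      have := Fintype.one_lt_card (α := F)
      obtain ⟨r, hr⟩ := hodd
      have : Fintype.card F ≠ 3 := fun h => hex ⟨h, by omega⟩
      omega
  obtain ⟨c, hc0, hc⟩ := hT
  set Jm := Matrix.J (Fin m) F with hJm
  set R := Matrix.reindexAlgEquiv F F e.symm
  have hform : (P.1)ᵀ * Jm * P.1 = R (c • gramT (Fin t) J₁) := by
    ext u v
    have h := hc (Pi.single (e u) 1) (Pi.single (e v) 1)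
    have hs : ∀ w, (Pi.single (e w) (1 : F) : (Fin t → Fin k) → F) ∘ e = Pi.single w 1 := fun w => by
      funext w'
      simp [Pi.single_apply]
    rw [hs, hs, Cfsg.sympForm, ← Matrix.vecMul_transpose, ← Matrix.dotProduct_mulVec, Matrix.mulVec_mulVec,
      Matrix.mulVec_mulVec, Finset.sum_eq_single (e u) (fun a _ ha => Finset.sum_eq_zero fun b _ => by
        rw [Pi.single_eq_of_ne ha, zero_mul, zero_mul]) (fun h => absurd (Finset.mem_univ _) h),
      Finset.sum_eq_single (e v) (fun b _ hb => by rw [Pi.single_eq_of_ne hb, id_eq, mul_zero])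
        (fun h => absurd (Finset.mem_univ _) h), Pi.single_eq_same, Pi.single_eq_same, one_mul, id_eq, mul_one] at h
    simpa [single_dotProduct, R, gramT, tens_apply] using h
  set T := Cfsg.Geo.tensorWreathSubgroup k t e P with hTdef
  set S := Cfsg.spGL m F with hS
  set φ : GL (Fin t → Fin k) F →* GL (Fin m ⊕ Fin m) F :=
    (MulAut.conj P).toMonoidHom.comp (Cfsg.Geo.glReindex e.symm).toMonoidHom with hφ
  have hφval : ∀ x, (φ x).1 = P.1 * R x.1 * (P⁻¹).1 := fun x => rfl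
  have hPi : (P⁻¹).1 * P.1 = 1 := by rw [← Units.val_mul, inv_mul_cancel, Units.val_one]
  have hPi' : P.1 * (P⁻¹).1 = 1 := by rw [← Units.val_mul, mul_inv_cancel, Units.val_one]
  have hRt : ∀ X, R Xᵀ = (R X)ᵀ := fun X => rfl
  have hmemS : ∀ x, φ x ∈ S ↔ x.1ᵀ * gramT (Fin t) J₁ * x.1 = gramT (Fin t) J₁ := fun x => by
    rw [hS, mem_spGL_iff, SymplecticGroup.mem_iff', ← hJm, hφval]
    have e1 : (P.1 * R x.1 * (P⁻¹).1)ᵀ * Jm * (P.1 * R x.1 * (P⁻¹).1) =
        ((P⁻¹).1)ᵀ * R (c • (x.1ᵀ * gramT (Fin t) J₁ * x.1)) * (P⁻¹).1 := by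
      rw [show c • (x.1ᵀ * gramT (Fin t) J₁ * x.1) = x.1ᵀ * (c • gramT (Fin t) J₁) * x.1 by
        rw [Matrix.mul_smul, Matrix.smul_mul], map_mul, map_mul, hRt, ← hform]
      simp only [Matrix.transpose_mul, Matrix.mul_assoc]
    have e2 : Jm = ((P⁻¹).1)ᵀ * R (c • gramT (Fin t) J₁) * (P⁻¹).1 := by
      rw [← hform]
      simp only [← Matrix.mul_assoc, ← Matrix.transpose_mul, hPi', Matrix.transpose_one, Matrix.one_mul]
      rw [Matrix.mul_assoc, hPi', Matrix.mul_one]
    rw [e1]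
    refine ⟨fun h => ?_, fun h => by rw [h, ← e2]⟩
    have hcancel : ∀ Z : Matrix (Fin m ⊕ Fin m) (Fin m ⊕ Fin m) F,
        P.1ᵀ * (((P⁻¹).1)ᵀ * Z * (P⁻¹).1) * P.1 = Z := fun Z => by
      rw [Matrix.mul_assoc ((P⁻¹).1)ᵀ, ← Matrix.mul_assoc P.1ᵀ ((P⁻¹).1)ᵀ, ← Matrix.transpose_mul, hPi,
        Matrix.transpose_one, Matrix.one_mul, Matrix.mul_assoc, hPi, Matrix.mul_one]
    have h' := congrArg (fun Z => P.1ᵀ * Z * P.1) (h.trans e2)
    simp only [hcancel] at h'
    exact smul_right_injective _ hc0 (R.injective h')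
  have hTeq : ∀ x, φ x ∈ T ↔ x ∈ wreathT F (Fin t) k := fun x => by
    rw [hTdef, Cfsg.Geo.tensorWreathSubgroup, tensorWreathStandard_eq, Subgroup.map_map]
    refine ⟨fun h => ?_, fun h => Subgroup.mem_map_of_mem _ h⟩
    obtain ⟨y, hy, hyx⟩ := Subgroup.mem_map.1 h
    rwa [((MulAut.conj P).injective.comp (Cfsg.Geo.glReindex e.symm).injective) hyx] at hy
  have hsurj : ∀ g, ∃ x, φ x = g := fun g =>
    ⟨(Cfsg.Geo.glReindex e.symm).symm ((MulAut.conj P).symm g), by simp [hφ, mul_assoc]⟩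
  -- transvections in both coordinates
  have htv : ∀ (v : Fin m ⊕ Fin m → F) (s : F) (x : GL (Fin t → Fin k) F),
      x.1 = 1 + (-(c * s)) • vecMulVec (((P⁻¹).1 *ᵥ v) ∘ e.symm) ((((P⁻¹).1 *ᵥ v) ∘ e.symm) ᵥ* gramT (Fin t) J₁) →
        (φ x).1 = Cfsg.sympTransvection m v s := by
    intro v s x hx
    set w := (P⁻¹).1 *ᵥ v
    set y := (w ∘ e.symm) ᵥ* gramT (Fin t) J₁
    have hy : c • (y ∘ e) = w ᵥ* (P.1ᵀ * Jm * P.1) := by
      rw [hform]
      funext q
      simp only [Pi.smul_apply, smul_eq_mul, y, Function.comp_apply, Matrix.vecMul, dotProduct, Finset.mul_sum]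
      exact Fintype.sum_equiv e.symm _ _ fun a => by simp [R]; ring
    have hyP : c • ((y ∘ e) ᵥ* (P⁻¹).1) = v ᵥ* Jm := by
      rw [← Matrix.smul_vecMul, hy, Matrix.vecMul_vecMul, Matrix.mul_assoc, hPi', Matrix.mul_one,
        ← Matrix.vecMul_vecMul, Matrix.vecMul_transpose, Matrix.mulVec_mulVec, hPi', Matrix.one_mulVec]
    have hvJ : v ᵥ* Jm = -(Jm *ᵥ v) := by
      rw [← Matrix.mulVec_transpose, hJm, Matrix.J_transpose, Matrix.neg_mulVec]
    have hR : R (vecMulVec (w ∘ e.symm) y) = vecMulVec w (y ∘ e) := by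
      ext p q
      simp [R, vecMulVec_apply]
    rw [hφval, hx, map_add, map_one, map_smul, hR, Matrix.mul_add, Matrix.mul_one, Matrix.add_mul, hPi',
      Matrix.mul_smul, Matrix.smul_mul, Matrix.mul_vecMulVec, Matrix.vecMulVec_mul, Matrix.mulVec_mulVec, hPi',
      Matrix.one_mulVec, Cfsg.sympTransvection, ← hJm, show Jm *ᵥ v = -(c • ((y ∘ e) ᵥ* (P⁻¹).1)) by
        rw [hyP, hvJ, neg_neg]]
    congr 1
    ext p q
    simp [vecMulVec_apply]
    ring
  refine ⟨lt_of_le_of_ne inf_le_right fun h => ?_, fun M hHM hMS => ?_⟩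
  · -- a transvection outside the stabiliser
    haveI : Nonempty (Fin m ⊕ Fin m) := ⟨Sum.inl ⟨0, by omega⟩⟩
    obtain ⟨v, hv⟩ := exists_ne (0 : Fin m ⊕ Fin m → F)
    set A : symplecticGroup (Fin m) F := ⟨_, sympTransvection_mem m v 1⟩
    set g := (spGLEquiv m A).1
    have hgS : g ∈ S := (spGLEquiv m A).2
    obtain ⟨x, hx⟩ := hsurj g
    set w := ((P⁻¹).1 *ᵥ v) ∘ e.symm with hw
    set y := w ᵥ* gramT (Fin t) J₁
    have hw0 : w ≠ 0 := fun h0 => hv (by
      have : (P⁻¹).1 *ᵥ v = 0 := funext fun q => by simpa [hw] using congrFun h0 (e q)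
      have h3 := congrArg (P.1 *ᵥ ·) this
      simpa [Matrix.mulVec_mulVec, hPi'] using h3)
    have hyw : y ⬝ᵥ w = 0 := by
      have h3 : y ⬝ᵥ w = -(y ⬝ᵥ w) := by
        calc y ⬝ᵥ w = w ⬝ᵥ gramT (Fin t) J₁ *ᵥ w := (dotProduct_mulVec _ _ _).symm
          _ = w ⬝ᵥ ((gramT (Fin t) J₁)ᵀ *ᵥ (-w)) := by
            rw [gramT_transpose hJ, Fintype.card_fin, ht.neg_one_pow, neg_one_smul, Matrix.neg_mulVec,
              Matrix.mulVec_neg, neg_neg]
          _ = -(y ⬝ᵥ w) := by rw [Matrix.mulVec_transpose, Matrix.neg_vecMul, dotProduct_neg, dotProduct_comm]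
      have h4 : (2 : F) * (y ⬝ᵥ w) = 0 := by linear_combination h3
      exact (mul_eq_zero.1 h4).resolve_left h2
    have h0 : (-(c * 1)) • vecMulVec w y * ((-(c * 1)) • vecMulVec w y) = 0 := by
      rw [Matrix.smul_mul, Matrix.mul_smul, vecMulVec_mul_vecMulVec, hyw, zero_smul, vecMulVec_zero, smul_zero,
        smul_zero]
    have hinv : ∀ N : Matrix (Fin t → Fin k) (Fin t → Fin k) F, N * N = 0 →
        (1 + N) * (1 - N) = 1 ∧ (1 - N) * (1 + N) = 1 := fun N hN =>
      ⟨by noncomm_ring [hN], by noncomm_ring [hN]⟩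
    let x₀ : GL (Fin t → Fin k) F := ⟨1 + (-(c * 1)) • vecMulVec w y, 1 - (-(c * 1)) • vecMulVec w y,
      (hinv _ h0).1, (hinv _ h0).2⟩
    have hx₀ : φ x₀ = g := Units.ext (htv v 1 x₀ rfl)
    have hT' : φ x₀ ∈ T ⊓ S := by rw [h, hx₀]; exact hgS
    exact transvection_not_mem_wreathT hJ hk (by simp; omega) hw0 (neg_ne_zero.2 (mul_ne_zero hc0 one_ne_zero))
      (g := x₀) rfl ((hmemS x₀).1 hT'.2) hyw ((hTeq x₀).1 hT'.1)
  · by_cases hle : M.comap φ ≤ wreathT F (Fin t) k
    · refine Or.inl (le_antisymm (fun g hg => ⟨?_, hMS hg⟩) hHM)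
      obtain ⟨x, rfl⟩ := hsurj g
      exact (hTeq x).2 (hle hg)
    · refine Or.inr (le_antisymm hMS fun g hg => ?_)
      obtain ⟨A, hA⟩ : ∃ A, (spGLEquiv m A).1 = g := ⟨(spGLEquiv m).symm ⟨g, hg⟩, by rw [MulEquiv.apply_symm_apply]⟩
      subst hA
      suffices h : Subgroup.comap ((Cfsg.spGL m F).subtype.comp (spGLEquiv (F := F) m).toMonoidHom) M = ⊤ by
        exact Subgroup.mem_comap.1 (h ▸ Subgroup.mem_top A)
      rw [eq_top_iff, ← closure_sympTransvection, Subgroup.closure_le]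
      rintro B ⟨v, s, hB⟩
      obtain ⟨x, hx, hxe⟩ := transvection_mem_of_not_le ht h2 hJ hk hsize (M := M.comap φ)
        (fun x hx => (hmemS x).1 (hMS hx)) (fun x hx hiso => hHM ⟨(hTeq x).2 hx, (hmemS x).2 hiso⟩) hle
        (((P⁻¹).1 *ᵥ v) ∘ e.symm) (-(c * s))
      show (spGLEquiv m B).1 ∈ M
      rw [show (spGLEquiv m B).1 = φ x from Units.ext (by rw [htv v s x hxe, spGLEquiv_coe, hB])]
      exact hx

end CfsgLib.Classical.WreathMaxSp
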