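import Cfsg.Agent.Lib.Classical.WreathMaxSp.Tensor

/-!
# An overgroup that fuses no root element out of the wreath stabiliser
-/

set_option autoImplicit false
set_option linter.unusedSectionVars false

open Matrix Module CfsgLib.Classical.WreathMax
open scoped Kronecker

namespace CfsgLib.Classical.WreathMaxSp

variable {F : Type*} [Field F] {κ : Type} [Fintype κ] [DecidableEq κ] {k : ℕ}
  {J : Matrix (Fin k) (Fin k) F} {M : Subgroup (GL (κ → Fin k) F)}

/-- No root element is conjugate into the wreath stabiliser by an element outside it. -/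
def NoFuseSp (J : Matrix (Fin k) (Fin k) F) (M : Subgroup (GL (κ → Fin k) F)) : Prop :=
  ∀ g ∈ M, g ∉ wreathT F κ k → ∀ (i : κ) (b : Fin k → F), b ≠ 0 → ∀ c : F, c ≠ 0 →
    ∀ r : GL (κ → Fin k) F, r.1 = 1 + c • op i (nilp J b) → g⁻¹ * r * g ∉ wreathT F κ k

theorem two_lt_card [Fintype F] (h2 : (2 : F) ≠ 0) : 2 < Fintype.card F := by
  classical
  refine Fintype.two_lt_card_iff.2 ⟨0, 1, -1, zero_ne_one, (neg_ne_zero.2 one_ne_zero).symm, fun e => h2 ?_⟩
  linear_combination e

/-- A root group of a factor. -/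
def rootLine (J : Matrix (Fin k) (Fin k) F) (M : Subgroup (GL (κ → Fin k) F)) (hJ : SkewGram J) (i : κ)
    (b : Fin k → F) : Subgroup M where
  carrier := {r | ∃ c : F, (r : GL (κ → Fin k) F).1 = 1 + c • op i (nilp J b)}
  one_mem' := ⟨0, by simp⟩
  mul_mem' := by
    rintro r r' ⟨c, e⟩ ⟨c', e'⟩
    refine ⟨c + c', ?_⟩
    rw [Subgroup.coe_mul, Units.val_mul, e, e', Matrix.add_mul, Matrix.mul_add, Matrix.mul_add, Matrix.smul_mul,
      Matrix.mul_smul, Matrix.smul_mul, Matrix.mul_smul, ← map_mul, hJ.nilp_sq, op_zero]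
    simp [add_smul]
    abel
  inv_mem' := by
    rintro r ⟨c, e⟩
    refine ⟨-c, ?_⟩
    have h0 : (c • op i (nilp J b) : TMat F κ k) * (c • op i (nilp J b)) = 0 := by
      rw [Matrix.smul_mul, Matrix.mul_smul, ← map_mul, hJ.nilp_sq, op_zero, smul_zero, smul_zero]
    rw [Subgroup.coe_inv, InM.inv_eq e h0, neg_smul, sub_eq_add_neg]

/-- A sum of one-factor operators with square zero is a one-factor operator. -/
theorem sum_op_eq_op_of_sq [Nonempty κ] (h2 : (2 : F) ≠ 0) (A : κ → Matrix (Fin k) (Fin k) F)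
    (hsq : (∑ l, op l (A l)) * (∑ l, op l (A l)) = (0 : TMat F κ k)) :
    ∃ j B, ∑ l, op l (A l) = (op j B : TMat F κ k) := by
  classical
  have hone : ∀ i j, i ≠ j → (∀ c : F, A i ≠ c • 1) → ∃ c : F, A j = c • 1 := by
    intro i j hij hi
    by_contra hj
    push Not at hj
    set B : TMat F (Rest i) k := ∑ l : Rest i, op l (A l) with hB
    have hBne : ∀ c : F, B ≠ c • 1 := fun c hc => by
      obtain ⟨d, hd⟩ := scalar_of_sum_op Finset.univ (fun l : Rest i => A l) hc (Finset.mem_univ ⟨j, hij.symm⟩)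
      exact hj d hd
    obtain ⟨w, hw⟩ := exists_not_eigen hBne
    obtain ⟨u, hu⟩ := exists_not_eigen hi
    have hsplit : split i (∑ l, op l (A l)) = A i ⊗ₖ (1 : TMat F (Rest i) k) + (1 : Matrix (Fin k) (Fin k) F) ⊗ₖ B := by
      rw [← Finset.add_sum_erase _ _ (Finset.mem_univ i), map_add, split_op_self, map_sum, hB,
        Finset.sum_subtype (p := fun l => l ≠ i) (Finset.univ.erase i) (by simp)]
      congr 1
      rw [show (1 : Matrix (Fin k) (Fin k) F) ⊗ₖ (∑ l : Rest i, op l (A l)) =
          ∑ l : Rest i, (1 : Matrix (Fin k) (Fin k) F) ⊗ₖ op l (A l) by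
        ext p q
        simp [Matrix.sum_apply, Finset.mul_sum]]
      exact Finset.sum_congr rfl fun l _ => split_op_other l.2 _
    have h0 := congrArg (fun Y => split i Y *ᵥ tv u w) hsq
    simp only [map_mul, map_zero, hsplit, ← Matrix.mulVec_mulVec, Matrix.add_mulVec, kronecker_mulVec_tv,
      Matrix.mulVec_add, Matrix.one_mulVec, Matrix.zero_mulVec] at h0
    obtain ⟨θ, hθ, hθu⟩ := Submodule.exists_dual_map_eq_bot_of_notMem hu inferInstance
    have hθ0 : θ u = 0 := by
      have := Submodule.mem_map_of_mem (f := θ) (Submodule.mem_span_singleton_self u)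
      rwa [hθu, Submodule.mem_bot] at this
    have h1 := congrArg (slant (ι := Rest i → Fin k) θ) h0
    simp only [map_add, slant_tv, map_zero, hθ0, zero_smul, add_zero] at h1
    refine hw (Submodule.mem_span_singleton.2 ⟨-(θ (A i *ᵥ (A i *ᵥ u))) / (2 * θ (A i *ᵥ u)), ?_⟩)
    funext x
    have := congrFun h1 x
    simp only [Pi.add_apply, Pi.smul_apply, smul_eq_mul, Pi.zero_apply] at this ⊢
    field_simp
    linear_combination -this
  by_cases hall : ∀ i, ∃ c : F, A i = c • 1
  · choose c hc using hall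
    refine ⟨Classical.arbitrary κ, (∑ l, c l) • 1, ?_⟩
    simp only [hc, op_smul, map_one, Finset.sum_smul]
    simp [op_sum, op_smul]
  · push Not at hall
    obtain ⟨i, hi⟩ := hall
    have : ∀ l, ∃ c : F, l ≠ i → A l = c • 1 := fun l => by
      by_cases hl : l = i
      · exact ⟨0, fun h => absurd hl h⟩
      · obtain ⟨c, hc⟩ := hone i l (Ne.symm hl) hi
        exact ⟨c, fun _ => hc⟩
    choose c hc using this
    refine ⟨i, A i + (∑ l ∈ Finset.univ.erase i, c l) • 1, ?_⟩
    rw [op_add, op_smul, map_one, Finset.sum_smul, ← Finset.add_sum_erase _ _ (Finset.mem_univ i)]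
    congr 1
    exact Finset.sum_congr rfl fun l hl => by rw [hc l (Finset.ne_of_mem_erase hl), op_smul, map_one]

theorem split_op_nilp (i : κ) (b : Fin k → F) :
    split i (op i (nilp J b)) = root J b (1 : TMat F (Rest i) k) := by
  rw [split_op_self, root, rect_eq_kron]
  rfl

variable [Fintype F]

/-- Without fusion the overgroup lies in the wreath stabiliser. -/
theorem le_of_noFuseSp [Nonempty κ] (hM : TOver J M) (hk : 2 ≤ k) (hsize : 3 ≤ k ∨ 4 ≤ Fintype.card F)
    (hNF : NoFuseSp J M) : M ≤ wreathT F κ k := by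
  classical
  intro g hg
  by_contra hgT
  have hJ := hM.jGram
  obtain ⟨i₀⟩ := ‹Nonempty κ›
  set relT := relTr M (wreathT F κ k) ptrSum
    (fun h _ hT Y => by rw [Ad_apply, Ad_apply, ptrSum_conj hT]) with hP
  set D := relT - ptrSum with hD
  -- images of fixed vectors
  have hnorm : ∀ (i : κ) (b : Fin k → F) (x : TMat F κ k), b ≠ 0 →
      op i (nilp J b) * x = x * op i (nilp J b) →
        ∃ Z, D x = (∑ c : F, c) • (op i (nilp J b) * Z - Z * op i (nilp J b)) -
          (∑ c : F, c * c) • (op i (nilp J b) * Z * op i (nilp J b)) := by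
    intro i b x hb hx
    set N := (op i (nilp J b) : TMat F κ k) with hN
    have hNN : N * N = 0 := hM.op_nilp_sq i b
    let L : TMat F κ k →ₗ[F] TMat F κ k :=
      (∑ c : F, c) • (LinearMap.mulLeft F N - LinearMap.mulRight F N) -
        (∑ c : F, c * c) • (LinearMap.mulLeft F N ∘ₗ LinearMap.mulRight F N)
    haveI := Fintype.ofFinite (rootLine J M hJ i b)
    have hex : ∀ c : F, ∃ r : rootLine J M hJ i b, (r : M).1.1 = 1 + c • N := fun c => by
      obtain ⟨g', hg', -, e⟩ := hM.exists_root i b c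
      exact ⟨⟨⟨g', hg'⟩, c, e⟩, e⟩
    choose φ hφ using hex
    have hNne : N ≠ 0 := fun h => by
      have h1 := op_injective (by omega) i (h.trans (op_zero i).symm)
      obtain ⟨v, hv⟩ := hJ.exists_pair hb
      have h2 := congrArg (· *ᵥ v) h1
      simp only [nilp_mulVec, hv, one_smul, Matrix.zero_mulVec] at h2
      exact hb h2
    have hbij : Function.Bijective φ := by
      refine ⟨fun c c' h => ?_, fun r => ?_⟩
      · have h1 := hφ c
        rw [h, hφ c'] at h1
        exact (smul_left_injective F hNne (add_left_cancel h1)).symm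
      · obtain ⟨c, e⟩ := r.2
        exact ⟨c, Subtype.ext (Subtype.ext (Units.ext ((hφ c).trans e.symm)))⟩
    have h := relTr_sub_mem (M := M) (T := wreathT F κ k) (φ := ptrSum)
      (fun h _ hT Y => by rw [Ad_apply, Ad_apply, ptrSum_conj hT]) (rootLine J M hJ i b)
      (fun r hr => ?_) (fun r hr hne => ?_) (LinearMap.range L) (fun Z => ?_) (x := x) (fun r hr => ?_)
    · obtain ⟨Z, hZ⟩ := h
      refine ⟨Z, ?_⟩
      rw [hD, LinearMap.sub_apply, hP, ← hZ]
      simp [L, Matrix.mul_assoc]
    · obtain ⟨c, e⟩ := hr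
      exact op_mem_wreathT i (A := 1 + c • nilp J b) (by rw [e, op_add, map_one, op_smul])
    · obtain ⟨c, e⟩ := hr
      intro g' hg' hg'T
      refine hNF g' hg' hg'T i b hb c (fun h0 => hne (Subtype.ext (Units.ext ?_))) r.1 e
      rw [e, h0, zero_smul, add_zero]
      rfl
    · rw [← (Equiv.ofBijective φ hbij).sum_comp]
      refine ⟨Z, ?_⟩
      have hterm : ∀ c : F, Ad (φ c : M).1 Z = Z + c • (N * Z - Z * N) - (c * c) • (N * Z * N) := fun c => by
        rw [Ad_apply, hφ, InM.inv_eq (hφ c) (by rw [Matrix.smul_mul, Matrix.mul_smul, hNN, smul_zero, smul_zero])]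
        simp only [Matrix.add_mul, Matrix.mul_sub, Matrix.one_mul, Matrix.mul_one, Matrix.smul_mul, Matrix.mul_smul,
          smul_sub, smul_add, smul_smul]
        abel
      simp only [Equiv.ofBijective_apply, hterm, Finset.sum_sub_distrib, Finset.sum_add_distrib, Finset.sum_const,
        Finset.card_univ, ← Finset.sum_smul, L, LinearMap.smul_apply, LinearMap.sub_apply, LinearMap.comp_apply,
        LinearMap.mulLeft_apply, LinearMap.mulRight_apply, Matrix.mul_assoc]
      rw [← Nat.cast_smul_eq_nsmul F, FiniteField.cast_card_eq_zero, zero_smul, zero_add]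
    · obtain ⟨c, e⟩ := hr
      rw [Ad_apply, e]
      rw [show (1 + c • N) * x = x * (1 + c • N) by
        rw [Matrix.add_mul, Matrix.mul_add, Matrix.one_mul, Matrix.mul_one, Matrix.smul_mul, Matrix.mul_smul, hx],
        ← e, Matrix.mul_assoc, ← Units.val_mul, mul_inv_cancel, Units.val_one, Matrix.mul_one]
  -- vectors killed by `D`
  have hkill : ∀ (i : κ) (v w : Fin k → F), v ≠ 0 → fJ J v w = 0 → ∀ W : TMat F (Rest i) k,
      D ((split i).symm (rect J v w W)) = 0 := by
    intro i v w hv hvw W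
    set x := (split i).symm (rect J v w W) with hx
    have hfix : ∀ b, fJ J b v = 0 → fJ J b w = 0 → op i (nilp J b) * x = x * op i (nilp J b) := fun b hbv hbw => by
      refine (split i).injective ?_
      rw [map_mul, map_mul, hx, AlgEquiv.apply_symm_apply, split_op_nilp, root, rect_mul, rect_mul, hbv,
        hJ.swap w b, hbw, neg_zero, zero_smul, zero_smul]
    by_cases h5 : 5 ≤ k
    · -- the slices vanish against every pair of vectors
      refine (split i).injective ?_
      rw [map_zero]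
      refine ext_inj fun u' => ?_
      rw [Matrix.zero_mul]
      refine eq_zero_of_proj hJ fun u => ?_
      obtain ⟨b, hb0, hbv, hbw, hub, hbu⟩ : ∃ b, b ≠ 0 ∧ fJ J b v = 0 ∧ fJ J b w = 0 ∧ fJ J u b = 0 ∧
          fJ J b u' = 0 := by
        let φ : (Fin k → F) →ₗ[F] (F × F) × (F × F) :=
          { toFun := fun b => ((fJ J b v, fJ J b w), (fJ J u b, fJ J b u'))
            map_add' := fun x y => by simp [fJ_add_left, fJ_add_right]
            map_smul' := fun c x => by simp [fJ_smul_left, fJ_smul_right] }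
        have h2 := φ.finrank_range_add_finrank_ker
        have h4 : finrank F (LinearMap.range φ) ≤ 4 := (Submodule.finrank_le _).trans (by simp)
        rw [finrank_fin_fun] at h2
        obtain ⟨⟨b, hb⟩, hb0⟩ := Module.finrank_pos_iff_exists_ne_zero.1 (show 0 < finrank F (LinearMap.ker φ) by omega)
        have hb' : φ b = 0 := hb
        simp only [φ, LinearMap.coe_mk, AddHom.coe_mk, Prod.mk_eq_zero] at hb'
        exact ⟨b, fun e => hb0 (Subtype.ext e), hb'.1.1, hb'.1.2, hb'.2.1, hb'.2.2⟩
      obtain ⟨Z, hZ⟩ := hnorm i b x hb0 (hfix b hbv hbw)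
      rw [hZ, map_sub, map_smul, map_smul, map_sub, map_mul, map_mul, map_mul, map_mul, split_op_nilp, root, rect,
        Matrix.mul_one]
      have eL : ∀ Y : Matrix (Fin k × (Rest i → Fin k)) (Rest i → Fin k) F,
          (proj J u : Matrix (Rest i → Fin k) _ F) * ((inj b : Matrix _ (Rest i → Fin k) F) *
            ((proj J b : Matrix (Rest i → Fin k) _ F) * Y)) = 0 := fun Y => by
        rw [proj_inj_assoc, hub, zero_smul]
      have eR : (proj J b : Matrix (Rest i → Fin k) _ F) * (inj u' : Matrix _ (Rest i → Fin k) F) = 0 := by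
        rw [proj_mul_inj, hbu, zero_smul]
      simp only [Matrix.sub_mul, Matrix.mul_sub, Matrix.smul_mul, Matrix.mul_smul, Matrix.mul_assoc, eL, eR,
        Matrix.mul_zero, smul_zero, sub_zero]
    have htwo : (2 : F) ≠ 0 := hJ.two_of_small (by omega)
    have hsum1 : ∑ c : F, c = 0 := by
      simpa using FiniteField.sum_pow_lt_card_sub_one F 1 (by have := two_lt_card htwo; omega)
    obtain ⟨Z₀, hZ₀⟩ := hnorm i v x hv (hfix v (hJ.alt v) hvw)
    obtain ⟨Z, hZ⟩ : ∃ Z, D x = (∑ c : F, c * c) • (op i (nilp J v) * Z * op i (nilp J v)) :=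
      ⟨-Z₀, by rw [hZ₀, hsum1, zero_smul, zero_sub, Matrix.mul_neg, Matrix.neg_mul, smul_neg]⟩
    rcases eq_or_ne (∑ c : F, c * c) 0 with h0 | h0
    · rw [hZ, h0, zero_smul]
    have h3 : 3 ≤ k := hsize.resolve_right fun h4 => h0 (by
      simp only [← pow_two]
      exact FiniteField.sum_pow_lt_card_sub_one F 2 (by omega))
    obtain ⟨b, hbv, hbw, hbi⟩ : ∃ b, fJ J b v = 0 ∧ fJ J b w = 0 ∧ ∀ c : F, b ≠ c • v := by
      by_cases hw : ∃ c : F, w = c • v
      · obtain ⟨c, rfl⟩ := hw
        obtain ⟨b, hb, hbi⟩ := hJ.exists_orth h3 hv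
        have hbv : fJ J b v = 0 := by rw [hJ.swap, hb, neg_zero]
        exact ⟨b, hbv, by rw [fJ_smul_right, hbv, mul_zero], hbi⟩
      · push Not at hw
        exact ⟨w, by rw [hJ.swap, hvw, neg_zero], hJ.alt w, hw⟩
    obtain ⟨Z₁, hZ₁⟩ := hnorm i b x (fun e => hbi 0 (by rw [e, zero_smul])) (hfix b hbv hbw)
    obtain ⟨Z', hZ'⟩ : ∃ Z, D x = (∑ c : F, c * c) • (op i (nilp J b) * Z * op i (nilp J b)) :=
      ⟨-Z₁, by rw [hZ₁, hsum1, zero_smul, zero_sub, Matrix.mul_neg, Matrix.neg_mul, smul_neg]⟩
    obtain ⟨u, hvu, hbu⟩ : ∃ u, fJ J v u = 1 ∧ fJ J b u = 0 :=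
      hJ.indep_dual (b := b) (w := v) (fun e => hbi 0 (by rw [e, zero_smul])) fun c e => by
        rcases eq_or_ne c 0 with rfl | hc
        · exact hv (by rw [e, zero_smul])
        · exact hbi c⁻¹ (by rw [e, smul_smul, inv_mul_cancel₀ hc, one_smul])
    set S₁ := (proj J v : Matrix (Rest i → Fin k) _ F) * split i Z * (inj v : Matrix _ (Rest i → Fin k) F)
    set S₂ := (proj J b : Matrix (Rest i → Fin k) _ F) * split i Z' * (inj b : Matrix _ (Rest i → Fin k) F)
    have hslice : ∀ (b : Fin k → F) (Z : TMat F κ k), split i (op i (nilp J b) * Z * op i (nilp J b)) =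
        root J b ((proj J b : Matrix (Rest i → Fin k) _ F) * split i Z * (inj b : Matrix _ (Rest i → Fin k) F)) :=
      fun b Z => by
        rw [map_mul, map_mul, split_op_nilp, root, root, rect, rect, Matrix.mul_one]
        simp only [Matrix.mul_assoc]
    have h1 := congrArg (split i) hZ
    have h2 := congrArg (split i) hZ'
    rw [map_smul, hslice] at h1 h2
    have key := congrArg (fun Y => (proj J u : Matrix (Rest i → Fin k) _ F) * Y * (inj u : Matrix _ (Rest i → Fin k) F))
      (h1.symm.trans h2)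
    simp only [root, rect, Matrix.mul_smul, Matrix.smul_mul, Matrix.mul_assoc, proj_inj_assoc, proj_mul_inj, hvu,
      hJ.swap u v, hbu, hJ.swap u b, neg_zero, zero_smul, smul_zero, one_smul, neg_smul, Matrix.mul_one,
      Matrix.mul_zero, Matrix.zero_mul, Matrix.neg_mul, Matrix.mul_neg, neg_neg, smul_neg] at key
    refine (split i).injective ?_
    rw [h1, map_zero, ← root_smul]
    have : (∑ c : F, c * c) • ((proj J v : Matrix (Rest i → Fin k) _ F) * split i Z *
        (inj v : Matrix _ (Rest i → Fin k) F)) = 0 := by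
      simpa [Matrix.mul_assoc] using key
    rw [this, root, rect_zero]
  have hsa : ∀ Y Z, (D Y * Z).trace = (Y * D Z).trace := fun Y Z => by
    simp only [hD, LinearMap.sub_apply, Matrix.sub_mul, Matrix.mul_sub, Matrix.trace_sub, hP,
      trace_relTr_mul _ trace_ptrSum_mul, trace_ptrSum_mul]
  have himg : ∀ Y, ∃ c : F, D Y = c • 1 := fun Y => eq_smul_one_of_split' fun i => by
    have hsc : ∀ u v : Rest i → Fin k, ∃ c : F,
        (Matrix.of fun a c => split i (D Y) (a, u) (c, v)) = c • 1 := fun u v => scalar_of_orth hJ fun p q hpq => by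
      rcases eq_or_ne p 0 with rfl | hp
      · simp [fJ_zero_right]
      have h := hsa ((split i).symm (rect J p q (Matrix.single v u (1 : F)))) Y
      rw [hkill i p q hp hpq, Matrix.zero_mul, Matrix.trace_zero, ← trace_split i, map_mul,
        AlgEquiv.apply_symm_apply, rect_eq_kron] at h
      rw [← beta_dot, h]
      simp only [Matrix.trace, Matrix.diag, Matrix.mul_apply, Fintype.sum_prod_type, Matrix.kroneckerMap_apply,
        vecMulVec_apply, Matrix.single_apply, mul_ite, mul_one, mul_zero, ite_mul, zero_mul, ite_and,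
        Finset.sum_ite_eq, Finset.sum_ite_eq', Finset.sum_ite_irrel, Finset.sum_const_zero, Finset.mem_univ, if_true,
        dotProduct, Matrix.mulVec, Matrix.of_apply, Finset.mul_sum]
      rw [Finset.sum_comm]
      exact Finset.sum_congr rfl fun c _ => Finset.sum_congr rfl fun a _ => by ring
    choose W hW using hsc
    refine ⟨Matrix.of W, ?_⟩
    ext ⟨a, u⟩ ⟨c, v⟩
    have := congrFun (congrFun (hW u v) a) c
    rw [Matrix.of_apply] at this
    rw [this, Matrix.smul_apply, Matrix.kroneckerMap_apply, smul_eq_mul, mul_comm, Matrix.of_apply]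
  -- the image of a root
  set o : Fin k := ⟨0, by omega⟩
  set b : Fin k → F := Pi.single o 1
  have hb : b ≠ 0 := by simp [b]
  set x := tens (fun l => if l = i₀ then nilp J b else Matrix.single o o (1 : F)) with hx
  have hπx : ptrSum x = op i₀ (nilp J b) := by
    rw [ptrSum_apply, Finset.sum_eq_single i₀]
    · rw [hx, ptr_tens, if_pos rfl, Finset.prod_eq_one, one_smul]
      intro l _
      simp [l.2]
    · intro l _ hl
      rw [hx, ptr_tens, Finset.prod_eq_zero (Finset.mem_univ (⟨i₀, Ne.symm hl⟩ : Rest l)), zero_smul, op_zero]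
      rw [if_pos rfl, nilp, Matrix.trace_vecMulVec, dotProduct_comm, beta_dot, hJ.alt]
    · simp
  have hPx : relT x = op i₀ (nilp J b) := by
    have hxs : x = (split i₀).symm (rect J b b (tens fun _ : Rest i₀ => Matrix.single o o (1 : F))) := by
      rw [AlgEquiv.eq_symm_apply, hx, split_tens, rect_eq_kron, if_pos rfl]
      congr 2
      funext l
      rw [if_neg l.2]
    have := hkill i₀ b b hb (hJ.alt b) (tens fun _ : Rest i₀ => Matrix.single o o (1 : F))
    rw [← hxs, hD, LinearMap.sub_apply, sub_eq_zero] at this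
    rw [this, hπx]
  obtain ⟨r, hrM, -, hr⟩ := hM.exists_root i₀ b 1
  rw [one_smul] at hr
  obtain ⟨c, hc⟩ := himg (Ad g x)
  have hY : Ad g (op i₀ (nilp J b)) = ∑ l, op l (ptr l (Ad g x) + if l = i₀ then c • 1 else 0) := by
    rw [← hPx, hP, ← relTr_Ad _ hg]
    rw [hD, LinearMap.sub_apply, sub_eq_iff_eq_add] at hc
    rw [← hP, hc, ptrSum_apply]
    simp only [op_add, Finset.sum_add_distrib]
    rw [Finset.sum_eq_single (f := fun l => op l (if l = i₀ then c • (1 : Matrix (Fin k) (Fin k) F) else 0)) i₀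
      (fun l _ hl => by rw [if_neg hl, op_zero]) (by simp), if_pos rfl, op_smul, map_one, add_comm]
  have hsq : Ad g (op i₀ (nilp J b)) * Ad g (op i₀ (nilp J b)) = 0 := by
    rw [Ad_apply]
    calc g.1 * op i₀ (nilp J b) * g⁻¹.1 * (g.1 * op i₀ (nilp J b) * g⁻¹.1)
        = g.1 * (op i₀ (nilp J b) * (g⁻¹.1 * g.1) * op i₀ (nilp J b)) * g⁻¹.1 := by simp only [Matrix.mul_assoc]
      _ = 0 := by
        rw [← Units.val_mul, inv_mul_cancel, Units.val_one, Matrix.mul_one, hM.op_nilp_sq, Matrix.mul_zero,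
          Matrix.zero_mul]
  rw [hY] at hsq
  obtain ⟨j, B, hB⟩ : ∃ j B, ∑ l, op l (ptr l (Ad g x) + if l = i₀ then c • 1 else 0) = (op j B : TMat F κ k) := by
    rcases hJ.big with h2 | h6
    · exact sum_op_eq_op_of_sq h2 _ hsq
    · refine sum_op_eq_op (by omega) _ i₀ ?_
      rw [← hY, Ad_apply]
      exact ((Matrix.rank_mul_le_left _ _).trans (Matrix.rank_mul_le_right _ _)).trans (rank_op_rankOne_le i₀ _ _)
  refine hNF g⁻¹ (inv_mem hg) (fun h => hgT (by simpa using inv_mem h)) i₀ b hb 1 one_ne_zero r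
    (by rw [hr, one_smul]) ?_
  rw [inv_inv]
  refine op_mem_wreathT j (A := 1 + B) ?_
  rw [Units.val_mul, Units.val_mul, hr, Matrix.mul_add, Matrix.mul_one, Matrix.add_mul, ← Units.val_mul,
    mul_inv_cancel, Units.val_one, ← Ad_apply, hY, hB, op_add, map_one]
where
  eq_smul_one_of_split' {Z : TMat F κ k}
      (h : ∀ i, ∃ W, split i Z = (1 : Matrix (Fin k) (Fin k) F) ⊗ₖ W) : ∃ c : F, Z = c • 1 := by
    rcases isEmpty_or_nonempty (κ → Fin k) with hJ | hJ
    · exact ⟨0, Subsingleton.elim _ _⟩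
    obtain ⟨x₀⟩ := hJ
    have hoff : ∀ x y, x ≠ y → Z x y = 0 := fun x y hxy => by
      obtain ⟨i, hi⟩ := Function.ne_iff.1 hxy
      obtain ⟨W, hW⟩ := h i
      have := congrFun (congrFun hW (Equiv.funSplitAt i (Fin k) x)) (Equiv.funSplitAt i (Fin k) y)
      rw [split_apply, Equiv.symm_apply_apply, Equiv.symm_apply_apply, Matrix.kroneckerMap_apply] at this
      rw [this, Matrix.one_apply_ne (show (Equiv.funSplitAt i (Fin k) x).1 ≠ (Equiv.funSplitAt i (Fin k) y).1 from hi),
        zero_mul]
    have hstep : ∀ (x : κ → Fin k) i a, Z x x = Z (Function.update x i a) (Function.update x i a) := fun x i a => by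
      obtain ⟨W, hW⟩ := h i
      have h1 := congrFun (congrFun hW (Equiv.funSplitAt i (Fin k) x)) (Equiv.funSplitAt i (Fin k) x)
      have h2 := congrFun (congrFun hW (Equiv.funSplitAt i (Fin k) (Function.update x i a)))
        (Equiv.funSplitAt i (Fin k) (Function.update x i a))
      rw [split_apply, Equiv.symm_apply_apply, Matrix.kroneckerMap_apply, Matrix.one_apply_eq, one_mul] at h1 h2
      rw [h1, h2]
      congr 1 <;> funext l <;> simp [Equiv.funSplitAt, Equiv.piSplitAt, l.2]
    have hdia : ∀ x, Z x x = Z x₀ x₀ := fun x => by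
      suffices hs : ∀ s : Finset κ, Z x x = Z (fun l => if l ∈ s then x₀ l else x l) (fun l => if l ∈ s then x₀ l else x l) by
        simpa using hs Finset.univ
      intro s
      induction s using Finset.induction with
      | empty => simp
      | @insert a s ha ih =>
        rw [ih, hstep _ a (x₀ a)]
        congr 1 <;> funext l <;>
          · by_cases hl : l = a
            · subst hl; simp
            · simp [hl]
    refine ⟨Z x₀ x₀, ?_⟩
    ext x y
    by_cases hxy : x = y
    · subst hxy; rw [hdia, Matrix.smul_apply, Matrix.one_apply_eq, smul_eq_mul, mul_one]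
    · rw [hoff x y hxy, Matrix.smul_apply, Matrix.one_apply_ne hxy, smul_zero]

end CfsgLib.Classical.WreathMaxSp
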