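import Cfsg.Agent.Lib.Classical.WreathMax.PermType
import Cfsg.Agent.Lib.Classical.WreathMaxSp.NoFuse

/-!
# Elements of the wreath stabiliser that behave like root elements are root elements
-/

set_option autoImplicit false
set_option linter.unusedSectionVars false

open Matrix Module CfsgLib.Classical.WreathMax
open scoped Kronecker

namespace CfsgLib.Classical.WreathMaxSp

variable {F : Type*} [Field F] {κ : Type} [Fintype κ] [DecidableEq κ] {k : ℕ}

/-- The pure tensor of a family of vectors. -/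
def pv (u : κ → Fin k → F) : (κ → Fin k) → F := fun x => ∏ l, u l (x l)

theorem tens_mulVec_pv (C : κ → Matrix (Fin k) (Fin k) F) (u : κ → Fin k → F) :
    tens C *ᵥ pv u = pv fun l => C l *ᵥ u l := by
  funext x
  simp only [Matrix.mulVec, dotProduct, pv, tens_apply, Fintype.prod_sum, ← Finset.prod_mul_distrib]

theorem permM_mulVec_pv (σ : Equiv.Perm κ) (u : κ → Fin k → F) :
    permM σ *ᵥ pv u = pv fun l => u (σ⁻¹ l) := by
  funext x
  rw [permM_mulVec]
  exact Fintype.prod_equiv σ _ _ fun l => by simp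

theorem pv_dot (φ u : κ → Fin k → F) : pv φ ⬝ᵥ pv u = ∏ l, φ l ⬝ᵥ u l := by
  simp only [dotProduct, pv, Fintype.prod_sum, ← Finset.prod_mul_distrib]

theorem pv_ne_zero {u : κ → Fin k → F} (h : ∀ l, u l ≠ 0) : pv u ≠ 0 := by
  choose a ha using fun l => Function.ne_iff.1 (h l)
  exact Function.ne_iff.2 ⟨a, Finset.prod_ne_zero_iff.2 fun l _ => by simpa using ha l⟩

theorem exists_dot_sep {u u' : Fin k → F} (h : u ∉ F ∙ u') : ∃ φ : Fin k → F, φ ⬝ᵥ u = 1 ∧ φ ⬝ᵥ u' = 0 := by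
  obtain ⟨θ, hθ, hθu⟩ := Submodule.exists_dual_map_eq_bot_of_notMem h inferInstance
  have h0 : θ u' = 0 := by
    have := Submodule.mem_map_of_mem (f := θ) (Submodule.mem_span_singleton_self u')
    rwa [hθu, Submodule.mem_bot] at this
  have hγ : ∀ w, (fun a => (θ u)⁻¹ * θ (Pi.single a 1)) ⬝ᵥ w = (θ u)⁻¹ * θ w := fun w => by
    conv_rhs => rw [pi_eq_sum_univ' w]
    simp [dotProduct, map_sum, Finset.mul_sum, mul_comm, mul_assoc, mul_left_comm]
  exact ⟨_, by rw [hγ, inv_mul_cancel₀ hθ], by rw [hγ, h0, mul_zero]⟩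

theorem exists_avoid {V : Type*} [AddCommGroup V] [Module F V] {L₁ L₂ : Submodule F V} (h₁ : L₁ ≠ ⊤) (h₂ : L₂ ≠ ⊤) :
    ∃ y, y ∉ L₁ ∧ y ∉ L₂ := by
  obtain ⟨y₁, -, hy₁⟩ := SetLike.exists_of_lt h₁.lt_top
  obtain ⟨y₂, -, hy₂⟩ := SetLike.exists_of_lt h₂.lt_top
  by_cases a : y₁ ∈ L₂
  · by_cases b : y₂ ∈ L₁
    · exact ⟨y₁ + y₂, fun h => hy₁ (by simpa using L₁.sub_mem h b), fun h => hy₂ (by simpa using L₂.sub_mem h a)⟩
    · exact ⟨y₂, b, hy₂⟩
  · exact ⟨y₁, hy₁, a⟩

theorem span_ne_top (hk : 2 ≤ k) (u : Fin k → F) : F ∙ u ≠ (⊤ : Submodule F (Fin k → F)) := fun h => by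
  rcases eq_or_ne u 0 with rfl | hu
  · rw [Submodule.span_zero_singleton] at h
    haveI : Nonempty (Fin k) := ⟨⟨0, by omega⟩⟩
    exact bot_ne_top h
  · have h1 := congrArg (fun S : Submodule F (Fin k → F) => finrank F S) h
    simp only [finrank_span_singleton hu, finrank_top, finrank_fin_fun] at h1
    omega

/-- A combination of two pure tensors differing in two factors is not pure. -/
theorem not_two_differ {α β : F} (hα : α ≠ 0) (hβ : β ≠ 0) {u u' w : κ → Fin k → F}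
    (h : α • pv u + β • pv u' = pv w) (hu : ∀ l, u l ≠ 0) (hu' : ∀ l, u' l ≠ 0) {a b : κ} (hab : a ≠ b)
    (ha : u a ∉ F ∙ u' a) (hb : u b ∉ F ∙ u' b) : False := by
  have flip : ∀ {p q : Fin k → F}, q ≠ 0 → p ∉ F ∙ q → q ∉ F ∙ p := fun {p q} hq hp hc => by
    obtain ⟨c, hc⟩ := Submodule.mem_span_singleton.1 hc
    rcases eq_or_ne c 0 with rfl | hc0
    · exact hq (by rw [← hc, zero_smul])
    · exact hp (Submodule.mem_span_singleton.2 ⟨c⁻¹, by rw [← hc, smul_smul, inv_mul_cancel₀ hc0, one_smul]⟩)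
  obtain ⟨p, hp1, hp0⟩ := exists_dot_sep ha
  obtain ⟨p', hp'1, hp'0⟩ := exists_dot_sep (flip (hu' a) ha)
  obtain ⟨q, hq1, hq0⟩ := exists_dot_sep hb
  obtain ⟨q', hq'1, hq'0⟩ := exists_dot_sep (flip (hu' b) hb)
  have hex : ∀ l, ∃ r : Fin k → F, r ⬝ᵥ u l ≠ 0 ∧ r ⬝ᵥ u' l ≠ 0 := fun l => by
    obtain ⟨c₁, hc₁⟩ := Function.ne_iff.1 (hu l)
    obtain ⟨c₂, hc₂⟩ := Function.ne_iff.1 (hu' l)
    by_cases h1 : u' l c₁ = 0
    · by_cases h2 : u l c₂ = 0
      · refine ⟨Pi.single c₁ 1 + Pi.single c₂ 1, ?_, ?_⟩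
        · simpa [add_dotProduct, h2] using hc₁
        · simpa [add_dotProduct, h1] using hc₂
      · exact ⟨Pi.single c₂ 1, by simpa using h2, by simpa using hc₂⟩
    · exact ⟨Pi.single c₁ 1, by simpa using hc₁, by simpa using h1⟩
  choose r hr hr' using hex
  let φ : (Fin k → F) → (Fin k → F) → κ → Fin k → F := fun s s' l => if l = a then s else if l = b then s' else r l
  have heval : ∀ s s', pv (φ s s') ⬝ᵥ pv w =
      α * ((s ⬝ᵥ u a) * (s' ⬝ᵥ u b) * ∏ l ∈ (Finset.univ.erase a).erase b, r l ⬝ᵥ u l) +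
        β * ((s ⬝ᵥ u' a) * (s' ⬝ᵥ u' b) * ∏ l ∈ (Finset.univ.erase a).erase b, r l ⬝ᵥ u' l) ∧
      pv (φ s s') ⬝ᵥ pv w = (s ⬝ᵥ w a) * (s' ⬝ᵥ w b) * ∏ l ∈ (Finset.univ.erase a).erase b, r l ⬝ᵥ w l := by
    intro s s'
    have hprod : ∀ v : κ → Fin k → F, pv (φ s s') ⬝ᵥ pv v =
        (s ⬝ᵥ v a) * (s' ⬝ᵥ v b) * ∏ l ∈ (Finset.univ.erase a).erase b, r l ⬝ᵥ v l := fun v => by
      rw [pv_dot, ← Finset.mul_prod_erase Finset.univ _ (Finset.mem_univ a),
        ← Finset.mul_prod_erase (Finset.univ.erase a) _ (Finset.mem_erase.2 ⟨hab.symm, Finset.mem_univ b⟩),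
        ← mul_assoc]
      refine congrArg₂ (· * ·) (by simp [φ, hab.symm]) (Finset.prod_congr rfl fun l hl => ?_)
      simp only [Finset.mem_erase] at hl
      simp [φ, hl.1, hl.2.1]
    refine ⟨?_, hprod w⟩
    rw [← h, dotProduct_add, dotProduct_smul, dotProduct_smul, hprod, hprod, smul_eq_mul, smul_eq_mul]
  obtain ⟨e1, f1⟩ := heval p q
  obtain ⟨e2, f2⟩ := heval p' q'
  obtain ⟨e3, f3⟩ := heval p q'
  obtain ⟨e4, f4⟩ := heval p' q
  rw [hp1, hq1, hp0, zero_mul, zero_mul, mul_zero, add_zero, one_mul, one_mul, f1] at e1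
  rw [hp'0, hp'1, hq'1, zero_mul, zero_mul, mul_zero, zero_add, one_mul, one_mul, f2] at e2
  simp only [hp0, hq'0, mul_zero, zero_mul, add_zero, f3] at e3
  simp only [hp'0, hq0, mul_zero, zero_mul, add_zero, f4] at e4
  have hP : ∏ l ∈ (Finset.univ.erase a).erase b, r l ⬝ᵥ u l ≠ 0 := Finset.prod_ne_zero_iff.2 fun l _ => hr l
  have hP' : ∏ l ∈ (Finset.univ.erase a).erase b, r l ⬝ᵥ u' l ≠ 0 := Finset.prod_ne_zero_iff.2 fun l _ => hr' l
  set R := ∏ l ∈ (Finset.univ.erase a).erase b, r l ⬝ᵥ w l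
  refine mul_ne_zero (mul_ne_zero hα hP) (mul_ne_zero hβ hP') ?_
  rw [← e1, ← e2, show p ⬝ᵥ w a * q ⬝ᵥ w b * R * (p' ⬝ᵥ w a * q' ⬝ᵥ w b * R) =
    (p ⬝ᵥ w a * q' ⬝ᵥ w b * R) * (p' ⬝ᵥ w a * q ⬝ᵥ w b * R) by ring, e3, zero_mul]

variable {J : Matrix (Fin k) (Fin k) F}

/-- The only elements of the stabiliser behaving like root elements are root elements. -/
theorem classify_root (hJ : SkewGram J) (hk : 2 ≤ k) (i₀ : κ) {h : GL (κ → Fin k) F} (hT : h ∈ wreathT F κ k)
    (h1 : h ≠ 1) (hiso : h.1ᵀ * gramT κ J * h.1 = gramT κ J) (hq : (h.1 - 1) * (h.1 - 1) = 0)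
    (hr : (h.1 - 1).rank ≤ Fintype.card (Rest i₀ → Fin k)) :
    ∃ (j : κ) (x : Fin k → F) (c : F), x ≠ 0 ∧ c ≠ 0 ∧ h.1 = 1 + c • op j (nilp J x) := by
  classical
  obtain ⟨σ, C, hh⟩ := hT
  obtain ⟨j, B, hB⟩ : ∃ j B, h.1 = op j B := by
    by_cases h4 : 4 ≤ k
    · obtain rfl := perm_eq_one_of_four h4 i₀ hh hr
      rw [map_one, mul_one] at hh
      obtain ⟨j, b, β, -, -, -, e⟩ := classify_one (by omega) i₀ hh h1 hq hr
      exact ⟨j, 1 + vecMulVec b β, by rw [e, op_add, map_one]⟩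
    have htwo : (2 : F) ≠ 0 := hJ.two_of_small (by omega)
    have hC : ∀ l (v : Fin k → F), v ≠ 0 → (C l).1 *ᵥ v ≠ 0 := fun l v hv h0 => hv (by
      have := congrArg (((C l)⁻¹ : GL (Fin k) F).1 *ᵥ ·) h0
      simpa [Matrix.mulVec_mulVec, ← Units.val_mul] using this)
    have key : ∀ u : κ → Fin k → F, (∀ l, u l ≠ 0) → ∀ a b, a ≠ b → u a ∉ F ∙ ((C a).1 *ᵥ u (σ⁻¹ a)) →
        u b ∉ F ∙ ((C b).1 *ᵥ u (σ⁻¹ b)) → False := by
      intro u hu a b hab ha hb
      have e1 : h.1 *ᵥ pv u = pv fun l => (C l).1 *ᵥ u (σ⁻¹ l) := by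
        rw [hh, Units.val_mul, tensU_coe, permU_coe, ← Matrix.mulVec_mulVec, permM_mulVec_pv, tens_mulVec_pv]
      set u' : κ → Fin k → F := fun l => (C l).1 *ᵥ u (σ⁻¹ l) with hu'
      have e2 : h.1 *ᵥ pv u' = pv fun l => (C l).1 *ᵥ u' (σ⁻¹ l) := by
        rw [hh, Units.val_mul, tensU_coe, permU_coe, ← Matrix.mulVec_mulVec, permM_mulVec_pv, tens_mulVec_pv]
      have e3 := congrArg (· *ᵥ pv u) hq
      simp only [Matrix.sub_mul, Matrix.mul_sub, Matrix.one_mul, Matrix.mul_one, Matrix.sub_mulVec, Matrix.zero_mulVec,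
        ← Matrix.mulVec_mulVec, Matrix.one_mulVec, e1, e2] at e3
      refine not_two_differ (α := -1) (β := 2) (neg_ne_zero.2 one_ne_zero) htwo (u := u) (u' := u')
        (w := fun l => (C l).1 *ᵥ u' (σ⁻¹ l)) ?_ hu (fun l => hC l _ (hu _)) hab ha hb
      rw [two_smul, neg_one_smul, ← sub_eq_zero, ← neg_eq_zero]
      rw [← e3]
      abel
    have hσ : σ = 1 := by
      by_contra hσ
      obtain ⟨a, ha⟩ : ∃ a, σ a ≠ a := by
        by_contra hc
        push Not at hc
        exact hσ (Equiv.ext hc)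
      have hb : σ⁻¹ a ≠ a := fun e => ha (by conv_lhs => rw [← e]
                                             simp)
      haveI : Nonempty (Fin k) := ⟨⟨0, by omega⟩⟩
      obtain ⟨v₀, hv₀⟩ := exists_ne (0 : Fin k → F)
      obtain ⟨y, hy1, hy2⟩ := exists_avoid (span_ne_top hk ((C a).1 *ᵥ v₀))
        (span_ne_top hk (((C (σ a))⁻¹ : GL (Fin k) F).1 *ᵥ v₀))
      have hy0 : y ≠ 0 := fun e => hy1 (e ▸ Submodule.zero_mem _)
      refine key (fun l => if l = a then y else v₀) (fun l => by by_cases hl : l = a <;> simp [hl, hy0, hv₀]) a (σ a)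
        (Ne.symm ha) ?_ ?_
      · simpa only [if_true, if_pos, if_neg hb] using hy1
      · simp only [if_neg ha]
        intro hc
        obtain ⟨c, hc⟩ := Submodule.mem_span_singleton.1 hc
        rw [show σ⁻¹ (σ a) = a by simp, if_pos rfl] at hc
        refine hy2 (Submodule.mem_span_singleton.2 ⟨c⁻¹, ?_⟩)
        have hc0 : c ≠ 0 := fun e => hv₀ (by rw [← hc, e, zero_smul])
        rw [← hc, Matrix.mulVec_smul, Matrix.mulVec_mulVec, ← Units.val_mul, inv_mul_cancel, Units.val_one,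
          Matrix.one_mulVec, smul_smul, inv_mul_cancel₀ hc0, one_smul]
    subst hσ
    rw [map_one, mul_one] at hh
    have hone : ∀ a b, a ≠ b → (∀ c : F, (C a).1 ≠ c • 1) → ∃ c : F, (C b).1 = c • 1 := by
      intro a b hab ha
      by_contra hb
      push Not at hb
      obtain ⟨ua, hua⟩ := exists_not_eigen ha
      obtain ⟨ub, hub⟩ := exists_not_eigen hb
      have hua0 : ua ≠ 0 := fun e => hua (by rw [e, Matrix.mulVec_zero]; exact Submodule.zero_mem _)
      have hub0 : ub ≠ 0 := fun e => hub (by rw [e, Matrix.mulVec_zero]; exact Submodule.zero_mem _)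
      refine key (fun l => if l = a then ua else ub) (fun l => by by_cases hl : l = a <;> simp [hl, hua0, hub0]) a b
        hab ?_ ?_
      · simp only [inv_one, Equiv.Perm.one_apply, if_pos]
        intro hc
        obtain ⟨c, hc⟩ := Submodule.mem_span_singleton.1 hc
        exact hua (Submodule.mem_span_singleton.2 ⟨c⁻¹, by
          have hc0 : c ≠ 0 := fun e => hua0 (by rw [← hc, e, zero_smul])
          conv_lhs => arg 2; rw [← hc]
          rw [smul_smul, inv_mul_cancel₀ hc0, one_smul]⟩)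
      · simp only [inv_one, Equiv.Perm.one_apply, if_neg hab.symm]
        intro hc
        obtain ⟨c, hc⟩ := Submodule.mem_span_singleton.1 hc
        exact hub (Submodule.mem_span_singleton.2 ⟨c⁻¹, by
          have hc0 : c ≠ 0 := fun e => hub0 (by rw [← hc, e, zero_smul])
          conv_lhs => arg 2; rw [← hc]
          rw [smul_smul, inv_mul_cancel₀ hc0, one_smul]⟩)
    rw [hh, tensU_coe]
    by_cases hall : ∀ a, ∃ c : F, (C a).1 = c • 1
    · choose c hc using hall
      refine ⟨i₀, (∏ l, c l) • 1, ?_⟩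
      rw [show (fun l => (C l).1) = fun l => c l • (1 : Matrix (Fin k) (Fin k) F) from funext hc, tens_smul,
        op_smul, map_one]
      congr 1
      exact map_one tens
    · push Not at hall
      obtain ⟨j, hj⟩ := hall
      choose c hc using fun l (hl : l ≠ j) => hone j l (Ne.symm hl) hj
      refine ⟨j, (∏ l, if hl : l = j then 1 else c l hl) • (C j).1, ?_⟩
      rw [op_smul, op_eq_tens, ← tens_smul]
      congr 1
      funext l
      by_cases hl : l = j
      · subst hl; simp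
      · simp [hl, hc l hl]
  set A := B - 1 with hA
  have hN : h.1 - 1 = op j A := by rw [hA, op_sub, map_one, hB]
  have hA2 : A * A = 0 := op_injective (by omega) j (by rw [map_mul, ← hN, hq, op_zero])
  have hA0 : A ≠ 0 := fun e => h1 (Units.ext (by
    rw [e, op_zero, sub_eq_zero] at hN
    exact hN))
  have hskew : Aᵀ * J = -(J * A) := by
    refine (op_skew_iff hJ (by omega) j A).1 ?_
    have h2 := congrArg (· * (1 - op j A)) hiso
    have hh1 : h.1 = 1 + op j A := by rw [← hN]; abel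
    have hz : (op j A : TMat F κ k) * op j A = 0 := by rw [← map_mul, hA2, op_zero]
    simp only [hh1, Matrix.mul_assoc] at h2
    rw [show ((1 : TMat F κ k) + op j A) * (1 - op j A) = 1 by noncomm_ring [hz], Matrix.mul_one, Matrix.transpose_add,
      Matrix.transpose_one, Matrix.add_mul, Matrix.one_mul, Matrix.mul_sub, Matrix.mul_one, sub_eq_add_neg] at h2
    exact add_left_cancel h2
  have hrank1 : ∀ u₁ u₂, A *ᵥ u₁ ≠ 0 → A *ᵥ u₂ ∈ F ∙ (A *ᵥ u₁) := by
    intro u₁ u₂ hu₁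
    by_contra hu₂
    have hrk : (A ⊗ₖ (1 : TMat F (Rest j) k)).rank ≤ Fintype.card (Rest i₀ → Fin k) := by
      rw [← split_op_self, rank_split, ← hN]
      exact hr
    let φ : ((Rest j → Fin k) → F) × ((Rest j → Fin k) → F) →ₗ[F] (Fin k × (Rest j → Fin k) → F) :=
      (A ⊗ₖ (1 : TMat F (Rest j) k)).mulVecLin ∘ₗ LinearMap.coprod
        { toFun := fun w => tv u₁ w
          map_add' := fun w w' => by funext p; simp [tv, mul_add]
          map_smul' := fun c w => by funext p; simp [tv]; ring }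
        { toFun := fun w => tv u₂ w
          map_add' := fun w w' => by funext p; simp [tv, mul_add]
          map_smul' := fun c w => by funext p; simp [tv]; ring }
    have hinj : Function.Injective φ := by
      rw [injective_iff_map_eq_zero]
      rintro ⟨w, w'⟩ h0
      have h' : tv (A *ᵥ u₁) w + tv (A *ᵥ u₂) w' = 0 := by
        rw [← h0]
        simp only [φ, LinearMap.comp_apply, LinearMap.coprod_apply, LinearMap.coe_mk, AddHom.coe_mk,
          Matrix.mulVecLin_apply, Matrix.mulVec_add, kronecker_mulVec_tv, Matrix.one_mulVec]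
      obtain ⟨θ, hθ, hθ0⟩ := Submodule.exists_dual_map_eq_bot_of_notMem hu₂ inferInstance
      have hz : θ (A *ᵥ u₁) = 0 := by
        have := Submodule.mem_map_of_mem (f := θ) (Submodule.mem_span_singleton_self (A *ᵥ u₁))
        rwa [hθ0, Submodule.mem_bot] at this
      have h2 := congrArg (slant (ι := Rest j → Fin k) θ) h'
      simp only [map_add, slant_tv, map_zero, hz, zero_smul, zero_add] at h2
      have hw' := (smul_eq_zero.1 h2).resolve_left hθ
      rw [hw', show tv (A *ᵥ u₂) (0 : (Rest j → Fin k) → F) = 0 from funext fun p => mul_zero _, add_zero] at h'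
      obtain ⟨a, ha⟩ := Function.ne_iff.1 hu₁
      refine Prod.ext (funext fun x => ?_) hw'
      have := congrFun h' (a, x)
      exact (mul_eq_zero.1 this).resolve_left ha
    have hle : LinearMap.range φ ≤ LinearMap.range (A ⊗ₖ (1 : TMat F (Rest j) k)).mulVecLin :=
      LinearMap.range_comp_le_range _ _
    have h2 := Submodule.finrank_mono hle
    rw [LinearMap.finrank_range_of_inj hinj, finrank_prod, Module.finrank_fintype_fun_eq_card] at h2
    rw [Matrix.rank] at hrk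
    have hcard : Fintype.card (Rest j → Fin k) = Fintype.card (Rest i₀ → Fin k) := by
      simp [Fintype.card_subtype_compl, Fintype.card_subtype_eq]
    have hpos : 0 < Fintype.card (Rest i₀ → Fin k) := by
      haveI : Nonempty (Fin k) := ⟨⟨0, by omega⟩⟩
      exact Fintype.card_pos
    omega
  obtain ⟨u₁, hu₁⟩ : ∃ u, A *ᵥ u ≠ 0 := by
    by_contra hno
    push Not at hno
    exact hA0 (Matrix.ext_iff_mulVec.2 fun u => by rw [hno, Matrix.zero_mulVec])
  set x := A *ᵥ u₁ with hx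
  choose z hz using fun v => Submodule.mem_span_singleton.1 (hrank1 u₁ v hu₁)
  have hskew' : ∀ p q, fJ J (A *ᵥ p) q = -fJ J p (A *ᵥ q) := fun p q => by
    rw [fJ, fJ, ← vecMul_transpose, ← dotProduct_mulVec, Matrix.mulVec_mulVec, Matrix.mulVec_mulVec, hskew,
      Matrix.neg_mulVec, dotProduct_neg]
  refine ⟨j, x, -(fJ J u₁ x)⁻¹, hu₁, neg_ne_zero.2 (inv_ne_zero ?_), ?_⟩
  · intro h0
    refine hu₁ (hJ.eq_zero_of_left fun v => ?_)
    rw [hskew', ← hz v, fJ_smul_right, h0, mul_zero, neg_zero]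
  · have hfx : ∀ v, fJ J x v = -(z v * fJ J u₁ x) := fun v => by rw [hx, hskew', ← hz v, fJ_smul_right]
    rw [show h.1 = 1 + op j A by rw [← hN]; abel, ← op_smul]
    congr 2
    refine Matrix.ext_iff_mulVec.2 fun v => ?_
    have hne : fJ J u₁ x ≠ 0 := fun h0 => hu₁ (hJ.eq_zero_of_left fun v => by rw [hfx, h0, mul_zero, neg_zero])
    rw [Matrix.smul_mulVec, nilp_mulVec, smul_smul, hfx, ← hz v]
    congr 1
    field_simp

end CfsgLib.Classical.WreathMaxSp
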