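import Cfsg.Agent.Lib.Classical.WreathMaxSp.Classify

/-!
# Pure tensors in spaces of matrices invariant under the symplectic groups of all factors
-/

set_option autoImplicit false
set_option linter.unusedSectionVars false

open Matrix Module CfsgLib.Classical.WreathMax
open scoped Kronecker

namespace CfsgLib.Classical.WreathMaxSp

variable {F : Type*} [Field F] {κ : Type} [Fintype κ] [DecidableEq κ] {k : ℕ}
  {J : Matrix (Fin k) (Fin k) F}

/-- The space is invariant under the symplectic group of every factor. -/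
def SpInv (J : Matrix (Fin k) (Fin k) F) (S : Submodule F (TMat F κ k)) : Prop :=
  ∀ (l : κ) (C C' : Matrix (Fin k) (Fin k) F), InSp J C → C * C' = 1 → ∀ Z ∈ S, op l C * Z * op l C' ∈ S

/-- The rank two map attached to two vectors. -/
def wedge (J : Matrix (Fin k) (Fin k) F) (b b' : Fin k → F) : Matrix (Fin k) (Fin k) F :=
  vecMulVec b (beta J b') - vecMulVec b' (beta J b)

/-- The factors of the pure tensors to be found. -/
def Kind (J : Matrix (Fin k) (Fin k) F) (X : Matrix (Fin k) (Fin k) F) : Prop :=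
  X = 1 ∨ (∃ b, b ≠ 0 ∧ X = nilp J b) ∨
    ∃ b b', fJ J b b' = 0 ∧ b ≠ 0 ∧ (∀ c : F, b' ≠ c • b) ∧ X = wedge J b b'

/-- `Z` has the factor `X` at `l`. -/
def Fac (l : κ) (X : Matrix (Fin k) (Fin k) F) (Z : TMat F κ k) : Prop := ∃ W, split l Z = X ⊗ₖ W

theorem Fac.sandwich {l l' : κ} (h : l' ≠ l) {X : Matrix (Fin k) (Fin k) F} {Z : TMat F κ k} (hZ : Fac l X Z)
    (A B : Matrix (Fin k) (Fin k) F) : Fac l X (op l' A * Z * op l' B) := by
  obtain ⟨W, hW⟩ := hZ
  refine ⟨op ⟨l', h⟩ A * W * op ⟨l', h⟩ B, ?_⟩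
  rw [map_mul, map_mul, hW, split_op_other h, split_op_other h, ← Matrix.mul_kronecker_mul,
    ← Matrix.mul_kronecker_mul, Matrix.one_mul, Matrix.mul_one]

theorem Fac.add {l : κ} {X : Matrix (Fin k) (Fin k) F} {Z Z' : TMat F κ k} (hZ : Fac l X Z) (hZ' : Fac l X Z') :
    Fac l X (Z + Z') := by
  obtain ⟨W, hW⟩ := hZ
  obtain ⟨W', hW'⟩ := hZ'
  exact ⟨W + W', by rw [map_add, hW, hW', Matrix.kronecker_add]⟩

theorem Fac.sub {l : κ} {X : Matrix (Fin k) (Fin k) F} {Z Z' : TMat F κ k} (hZ : Fac l X Z) (hZ' : Fac l X Z') :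
    Fac l X (Z - Z') := by
  obtain ⟨W, hW⟩ := hZ
  obtain ⟨W', hW'⟩ := hZ'
  exact ⟨W - W', by
    rw [map_sub, hW, hW']
    ext p q
    simp [mul_sub]⟩

theorem InSp.exists_inv' (hJ : SkewGram J) {C : Matrix (Fin k) (Fin k) F} (hC : InSp J C) :
    ∃ C' : Matrix (Fin k) (Fin k) F, C * C' = 1 := by
  have hdet : IsUnit C.det := by
    have h1 := congrArg Matrix.det hC
    rw [Matrix.det_mul, Matrix.det_mul, Matrix.det_transpose] at h1
    refine isUnit_iff_ne_zero.2 fun h0 => ?_
    rw [h0, zero_mul, zero_mul] at h1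
    exact hJ.unit.ne_zero h1.symm
  exact ⟨C⁻¹, Matrix.mul_nonsing_inv C hdet⟩

theorem SkewGram.transvection_inv (hJ : SkewGram J) (c : F) (b : Fin k → F) :
    (1 + c • nilp J b) * (1 - c • nilp J b) = 1 := by
  have h : (c • nilp J b) * (c • nilp J b) = 0 := by
    rw [Matrix.smul_mul, Matrix.mul_smul, hJ.nilp_sq, smul_zero, smul_zero]
  rw [show (1 + c • nilp J b) * (1 - c • nilp J b) = 1 - (c • nilp J b) * (c • nilp J b) by
    rw [Matrix.add_mul, Matrix.mul_sub, Matrix.mul_sub, Matrix.one_mul, Matrix.mul_one, Matrix.one_mul]; abel,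
    h, sub_zero]

theorem SpInv.comm_mem {S : Submodule F (TMat F κ k)} (hS : SpInv J S) (hJ : SkewGram J) (htwo : (2 : F) ≠ 0) (l : κ) (b : Fin k → F)
    {Z : TMat F κ k} (hZ : Z ∈ S) :
    op l (nilp J b) * Z * op l (nilp J b) ∈ S ∧ op l (nilp J b) * Z - Z * op l (nilp J b) ∈ S := by
  set N : TMat F κ k := op l (nilp J b)
  have h1 := hS l _ _ (hJ.inSp_transvection 1 b) (hJ.transvection_inv 1 b) Z hZ
  have h2 := hS l _ _ (hJ.inSp_transvection (-1) b) (hJ.transvection_inv (-1) b) Z hZ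
  rw [op_add, op_sub, op_smul, map_one, one_smul] at h1
  rw [op_add, op_sub, op_smul, map_one, neg_one_smul, sub_neg_eq_add] at h2
  have h3 := S.smul_mem (2 : F)⁻¹ (S.sub_mem (S.add_mem hZ hZ) (S.add_mem h1 h2))
  have e : (Z + Z) - ((1 + N) * Z * (1 - N) + (1 + -N) * Z * (1 + N)) = (2 : F) • (N * Z * N) := by
    rw [two_smul]; noncomm_ring
  rw [e, smul_smul, inv_mul_cancel₀ htwo, one_smul] at h3
  refine ⟨h3, ?_⟩
  have h4 := S.add_mem (S.sub_mem h1 hZ) h3
  convert h4 using 1
  noncomm_ring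

theorem SpInv.delta_mem {S : Submodule F (TMat F κ k)} (hS : SpInv J S) (hJ : SkewGram J) (l : κ) (b : Fin k → F)
    {Z : TMat F κ k} (hZ : Z ∈ S) :
    op l (nilp J b) * Z - Z * op l (nilp J b) - op l (nilp J b) * Z * op l (nilp J b) ∈ S := by
  have h1 := S.sub_mem (hS l _ _ (hJ.inSp_transvection 1 b) (hJ.transvection_inv 1 b) Z hZ) hZ
  rw [op_add, op_sub, op_smul, map_one, one_smul] at h1
  convert h1 using 1
  noncomm_ring

theorem SpInv.pair_mem {S : Submodule F (TMat F κ k)} (hS : SpInv J S) (hJ : SkewGram J) (l : κ) {b b' : Fin k → F}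
    (h : fJ J b b' = 0) {Z : TMat F κ k} (hZ : Z ∈ S) :
    op l (nilp J b) * Z * op l (nilp J b') + op l (nilp J b') * Z * op l (nilp J b) ∈ S := by
  have hNN : ∀ x y : Fin k → F, fJ J x y = 0 → (op l (nilp J x) : TMat F κ k) * op l (nilp J y) = 0 := fun x y h => by
    rw [← map_mul, nilp, nilp, vecMulVec_mul_vecMulVec, beta_dot, h, zero_smul, vecMulVec_zero, op_zero]
  have h1 := S.neg_mem (hS.delta_mem hJ l b (hS.delta_mem hJ l b' hZ))
  have e1 := hNN b b' h
  have e2 := hNN b' b (by rw [hJ.swap, h, neg_zero])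
  have e3 : ∀ W, op l (nilp J b) * (op l (nilp J b') * W) = 0 := fun W => by rw [← Matrix.mul_assoc, e1, Matrix.zero_mul]
  convert h1 using 1
  simp only [Matrix.mul_sub, Matrix.sub_mul, Matrix.mul_assoc, Matrix.neg_mul, Matrix.mul_neg, e2, e3, Matrix.mul_zero,
    Matrix.zero_mul, sub_zero, zero_sub, neg_zero]
  abel

theorem split_op_vecMulVec (l : κ) (b w : Fin k → F) :
    split l (op l (vecMulVec b (beta J w))) = rect J b w (1 : TMat F (Rest l) k) := by
  rw [split_op_self, rect_eq_kron]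

/-- One factor is brought to a pure form. -/
theorem SpInv.step {S : Submodule F (TMat F κ k)} (hS : SpInv J S) (hJ : SkewGram J) {Z : TMat F κ k} (hZ : Z ∈ S)
    (h0 : Z ≠ 0) (l : κ) : ∃ Z' ∈ S, ∃ X, Kind J X ∧ Fac l X Z' ∧ Z' ≠ 0 ∧ (X = 1 → Z' = Z) ∧
      ∀ l' Y, l' ≠ l → Fac l' Y Z → Fac l' Y Z' := by
  classical
  let sl : (Fin k → F) → (Fin k → F) → TMat F (Rest l) k := fun u v =>
    (proj J u : Matrix (Rest l → Fin k) (Fin k × (Rest l → Fin k)) F) * split l Z *
      (inj v : Matrix (Fin k × (Rest l → Fin k)) (Rest l → Fin k) F)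
  have hsand : ∀ b b' : Fin k → F, split l (op l (nilp J b) * Z * op l (nilp J b')) = rect J b b' (sl b b') := by
    intro b b'
    rw [map_mul, map_mul, nilp, nilp, split_op_vecMulVec, split_op_vecMulVec]
    simp only [rect, sl, Matrix.mul_one, Matrix.one_mul, Matrix.mul_assoc]
  by_cases hA : k < 3 ∧ ∃ b, sl b b ≠ 0
  · obtain ⟨hk3, b, hb⟩ := hA
    have htwo : (2 : F) ≠ 0 := hJ.two_of_small (by omega)
    have hb0 : b ≠ 0 := fun e => hb (by simp [sl, e, inj_zero])
    refine ⟨_, (hS.comm_mem hJ htwo l b hZ).1, nilp J b, Or.inr (Or.inl ⟨b, hb0, rfl⟩),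
      ⟨sl b b, by rw [hsand, rect_eq_kron]; rfl⟩, fun e => hb ?_, fun e => absurd e ?_,
      fun l' Y hl' hY => hY.sandwich (Ne.symm hl') _ _⟩
    · have h1 := hsand b b
      rw [e, map_zero] at h1
      obtain ⟨c, hc⟩ := hJ.exists_pair hb0
      have h2 := congrArg (fun W => (proj J c : Matrix (Rest l → Fin k) (Fin k × (Rest l → Fin k)) F) * W *
        (inj c : Matrix (Fin k × (Rest l → Fin k)) (Rest l → Fin k) F)) h1
      simp only [rect, Matrix.mul_zero, Matrix.zero_mul, Matrix.mul_assoc, proj_inj_assoc, proj_mul_inj, hc,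
        hJ.swap c b, one_smul, neg_smul, Matrix.mul_one, Matrix.neg_mul, Matrix.mul_neg] at h2
      exact neg_eq_zero.1 h2.symm
    · intro e1
      have h1 := congrArg (fun A => A * nilp J b) e1
      simp only [hJ.nilp_sq, Matrix.one_mul] at h1
      obtain ⟨c, hc⟩ := hJ.exists_pair hb0
      have h2 := congrArg (· *ᵥ c) h1
      simp only [nilp_mulVec, hc, one_smul, Matrix.zero_mulVec] at h2
      exact hb0 h2.symm
  by_cases hP : ∃ b b', fJ J b b' = 0 ∧ b ≠ 0 ∧ (∀ c : F, b' ≠ c • b) ∧ sl b b' + sl b' b ≠ 0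
  · obtain ⟨b, b', hbb, hb0, hbi, hb⟩ := hP
    have hbs : ∀ c : F, b + b' ≠ c • b := fun c e => hbi (c - 1) (by rw [sub_smul, one_smul, ← e]; abel)
    obtain ⟨C, hC, hCb, hCb'⟩ := hJ.exists_move_pair hb0 hbi hbb hb0 hbs (by rw [fJ_add_right, hJ.alt, hbb, add_zero])
    obtain ⟨C', hCC⟩ := hC.exists_inv' hJ
    set Y := op l (nilp J b) * Z * op l (nilp J b') + op l (nilp J b') * Z * op l (nilp J b) with hY
    have hYS : Y ∈ S := hS.pair_mem hJ l hbb hZ
    have hsY : split l Y = rect J b b' (sl b b') + rect J b' b (sl b' b) := by rw [hY, map_add, hsand, hsand]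
    have hmem := S.sub_mem (hS l C C' hC hCC Y hYS) hYS
    have hrC : ∀ (x y : Fin k → F) (W : TMat F (Rest l) k),
        (C ⊗ₖ (1 : TMat F (Rest l) k)) * rect J x y W * (C' ⊗ₖ (1 : TMat F (Rest l) k)) =
          rect J (C *ᵥ x) (C *ᵥ y) W := fun x y W => by
      rw [kron_mul_rect hC, Matrix.mul_assoc, ← Matrix.mul_kronecker_mul, hCC, Matrix.one_mul,
        Matrix.one_kronecker_one, Matrix.mul_one]
    have hsplit : split l (op l C * Y * op l C' - Y) = nilp J b ⊗ₖ (sl b b' + sl b' b) := by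
      rw [map_sub, map_mul, map_mul, hsY, split_op_self, split_op_self, Matrix.mul_add, Matrix.add_mul, hrC, hrC, hCb,
        hCb', nilp, ← rect_eq_kron, rect_add]
      simp only [rect_add_left, rect_add_right]
      abel
    have hnz : ∀ W : TMat F (Rest l) k, nilp J b ⊗ₖ W = 0 → W = 0 := fun W h1 => by
      obtain ⟨c, hc⟩ := hJ.exists_pair hb0
      rw [nilp, ← rect_eq_kron] at h1
      have h2 := congrArg (fun W => (proj J c : Matrix (Rest l → Fin k) (Fin k × (Rest l → Fin k)) F) * W *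
        (inj c : Matrix (Fin k × (Rest l → Fin k)) (Rest l → Fin k) F)) h1
      simp only [rect, Matrix.mul_zero, Matrix.zero_mul, Matrix.mul_assoc, proj_inj_assoc, proj_mul_inj, hc,
        hJ.swap c b, one_smul, neg_smul, Matrix.mul_one, Matrix.neg_mul, Matrix.mul_neg] at h2
      exact neg_eq_zero.1 h2
    refine ⟨_, hmem, nilp J b, Or.inr (Or.inl ⟨b, hb0, rfl⟩), ⟨_, hsplit⟩, fun e => hb (hnz _ ?_),
      fun e => absurd e ?_, fun l' Y' hl' hY' => ?_⟩
    · rw [← hsplit, e, map_zero]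
    · intro e1
      have h1 := congrArg (· *ᵥ b) e1
      simp only [nilp_mulVec, hJ.alt, zero_smul, Matrix.one_mulVec] at h1
      exact hb0 h1.symm
    · have h1 : Fac l' Y' Y := (hY'.sandwich (Ne.symm hl') _ _).add (hY'.sandwich (Ne.symm hl') _ _)
      exact (h1.sandwich (Ne.symm hl') _ _).sub h1
  push Not at hP
  by_cases hB : ∃ b b', fJ J b b' = 0 ∧ b ≠ 0 ∧ (∀ c : F, b' ≠ c • b) ∧ sl b b' ≠ 0
  · obtain ⟨b, b', hbb, hb0, hbi, hb⟩ := hB
    have hanti : sl b' b = -sl b b' := eq_neg_of_add_eq_zero_right (hP b b' hbb hb0 hbi)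
    have hwedge : split l (op l (nilp J b) * Z * op l (nilp J b') + op l (nilp J b') * Z * op l (nilp J b)) =
        wedge J b b' ⊗ₖ sl b b' := by
      rw [map_add, hsand, hsand, hanti, rect_neg, rect_eq_kron, rect_eq_kron, wedge]
      ext p q
      simp only [Matrix.add_apply, Matrix.neg_apply, Matrix.kroneckerMap_apply, Matrix.sub_apply]
      ring
    refine ⟨op l (nilp J b) * Z * op l (nilp J b') + op l (nilp J b') * Z * op l (nilp J b), ?_, wedge J b b',
      Or.inr (Or.inr ⟨b, b', hbb, hb0, hbi, rfl⟩), ⟨_, hwedge⟩, fun e => hb ?_, fun e => absurd e ?_,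
      fun l' Y hl' hY => (hY.sandwich (Ne.symm hl') _ _).add (hY.sandwich (Ne.symm hl') _ _)⟩
    · exact hS.pair_mem hJ l hbb hZ
    · rw [e, map_zero] at hwedge
      obtain ⟨x, hx1, hx2⟩ := hJ.indep_dual hb0 hbi
      obtain ⟨y, hy1, hy2⟩ := hJ.indep_dual (b := b') (w := b) (fun e => hbi 0 (by rw [e, zero_smul])) (fun c e => by
        rcases eq_or_ne c 0 with rfl | hc
        · exact hb0 (by rw [e, zero_smul])
        · exact hbi c⁻¹ (by rw [e, smul_smul, inv_mul_cancel₀ hc, one_smul]))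
      rw [wedge, ← rect_eq_kron_sub, rect, rect] at hwedge
      have h2 := congrArg (fun W => (proj J y : Matrix (Rest l → Fin k) (Fin k × (Rest l → Fin k)) F) * W *
        (inj x : Matrix (Fin k × (Rest l → Fin k)) (Rest l → Fin k) F)) hwedge
      simp only [Matrix.mul_zero, Matrix.zero_mul, Matrix.mul_sub, Matrix.sub_mul, Matrix.mul_assoc, proj_inj_assoc,
        proj_mul_inj, hx1, hx2, hy1, hy2, hJ.swap y b, hJ.swap y b', zero_smul, neg_zero, one_smul, neg_smul,
        smul_zero, Matrix.mul_one, sub_zero, Matrix.neg_mul, Matrix.mul_neg] at h2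
      exact neg_eq_zero.1 h2.symm
    · intro e1
      have hb'b : fJ J b' b = 0 := by rw [hJ.swap, hbb, neg_zero]
      have h1 := congrArg (fun A => A *ᵥ b) e1
      simp only [wedge, Matrix.sub_mulVec, vecMulVec_mulVec, beta_dot, hJ.alt, hb'b, op_smul_eq_smul, zero_smul,
        sub_zero, Matrix.one_mulVec] at h1
      exact hb0 h1.symm
  push Not at hB
  have hzero : ∀ b b', fJ J b b' = 0 → sl b b' = 0 := by
    have hz0 : ∀ b', sl 0 b' = 0 := fun b' => by
      have hp : (proj J (0 : Fin k → F) : Matrix (Rest l → Fin k) (Fin k × (Rest l → Fin k)) F) = 0 := by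
        rw [← zero_smul F (0 : Fin k → F), proj_smul, zero_smul]
      simp only [sl, hp, Matrix.zero_mul]
    have hself : ∀ b, sl b b = 0 := fun b => by
      rcases Nat.lt_or_ge k 3 with h | h
      · by_contra hc
        exact hA ⟨h, b, hc⟩
      rcases eq_or_ne b 0 with rfl | hb0
      · exact hz0 0
      obtain ⟨w, hbw, hwi⟩ := hJ.exists_orth h hb0
      have h1 := hB b w hbw hb0 hwi
      have h2 := hB b (b + w) (by rw [fJ_add_right, hJ.alt, hbw, add_zero]) hb0
        (fun c e => hwi (c - 1) (by rw [sub_smul, one_smul, ← e]; abel))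
      simp only [sl, inj_add, Matrix.mul_add] at h1 h2 ⊢
      rwa [h1, add_zero] at h2
    intro b b' hbb
    rcases eq_or_ne b 0 with rfl | hb0
    · exact hz0 b'
    by_cases hdep : ∃ c : F, b' = c • b
    · obtain ⟨c, rfl⟩ := hdep
      have h1 := hself b
      simp only [sl, inj_smul, Matrix.mul_smul] at h1 ⊢
      rw [h1, smul_zero]
    · push Not at hdep
      exact hB b b' hbb hb0 hdep
  refine ⟨Z, hZ, 1, Or.inl rfl, ?_, h0, fun _ => rfl, fun _ _ _ h => h⟩
  have hsc : ∀ u v : Rest l → Fin k, ∃ c : F, (Matrix.of fun a c => split l Z (a, u) (c, v)) = c • 1 := fun u v =>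
    scalar_of_orth hJ fun p q hpq => by
      have := congrFun (congrFun (hzero q p (by rw [hJ.swap, hpq, neg_zero])) u) v
      rw [Matrix.zero_apply] at this
      rw [← beta_dot, ← this]
      simp only [sl, proj, inj, Matrix.mul_apply, Matrix.of_apply, Fintype.sum_prod_type, ite_mul, zero_mul, mul_ite,
        mul_zero, Finset.sum_ite_eq, Finset.sum_ite_eq', Finset.mem_univ, if_true, dotProduct, Matrix.mulVec,
        Finset.mul_sum, Finset.sum_mul]
      rw [Finset.sum_comm]
      exact Finset.sum_congr rfl fun a _ => Finset.sum_congr rfl fun c _ => by ring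
  choose W hW using hsc
  refine ⟨Matrix.of W, ?_⟩
  ext ⟨a, u⟩ ⟨c, v⟩
  have := congrFun (congrFun (hW u v) a) c
  rw [Matrix.of_apply] at this
  rw [this, Matrix.smul_apply, Matrix.kroneckerMap_apply, smul_eq_mul, mul_comm, Matrix.of_apply]
where
  rect_eq_kron_sub {l : κ} {b b' : Fin k → F} {D : TMat F (Rest l) k} :
      rect J b b' D - rect J b' b D = (vecMulVec b (beta J b') - vecMulVec b' (beta J b)) ⊗ₖ D := by
    rw [rect_eq_kron, rect_eq_kron]
    ext p q
    simp only [Matrix.sub_apply, Matrix.kroneckerMap_apply]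
    ring

/-- A non-scalar invariant space contains a non-scalar pure tensor. -/
theorem SpInv.exists_pure {S : Submodule F (TMat F κ k)} (hS : SpInv J S) (hJ : SkewGram J) {Z : TMat F κ k}
    (hZ : Z ∈ S) (hns : ∀ c : F, Z ≠ c • 1) :
    ∃ X : κ → Matrix (Fin k) (Fin k) F, (∀ l, Kind J (X l)) ∧ (∃ l, X l ≠ 1) ∧ tens X ∈ S ∧ tens X ≠ 0 := by
  classical
  have key : ∀ s : Finset κ, ∃ Z' ∈ S, ∃ X : κ → Matrix (Fin k) (Fin k) F, Z' ≠ 0 ∧
      (∀ l ∈ s, Kind J (X l) ∧ Fac l (X l) Z') ∧ ((∃ l ∈ s, X l ≠ 1) ∨ ∀ c : F, Z' ≠ c • 1) := by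
    intro s
    induction s using Finset.induction with
    | empty => exact ⟨Z, hZ, fun _ => 1, fun e => hns 0 (by rw [e, zero_smul]), by simp, Or.inr hns⟩
    | @insert a s ha ih =>
      obtain ⟨Z', hZ', X, h0, hX, hor⟩ := ih
      obtain ⟨Z'', hZ'', Y, hY, hfac, h0', hone, hkeep⟩ := hS.step hJ hZ' h0 a
      have hupd : ∀ l ∈ s, Function.update X a Y l = X l := fun l hl =>
        Function.update_of_ne (fun e => ha (by rw [← e]; exact hl)) _ _
      refine ⟨Z'', hZ'', Function.update X a Y, h0', fun l hl => ?_, ?_⟩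
      · rcases Finset.mem_insert.1 hl with rfl | hl
        · rw [Function.update_self]; exact ⟨hY, hfac⟩
        · rw [hupd l hl]
          exact ⟨(hX l hl).1, hkeep l _ (fun e => ha (by rw [← e]; exact hl)) (hX l hl).2⟩
      · by_cases hY1 : Y = 1
        · rw [hone hY1]
          rcases hor with ⟨l, hl, hne⟩ | h
          · exact Or.inl ⟨l, Finset.mem_insert_of_mem hl, by rw [hupd l hl]; exact hne⟩
          · exact Or.inr h
        · exact Or.inl ⟨a, Finset.mem_insert_self a s, by rw [Function.update_self]; exact hY1⟩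
  obtain ⟨Z', hZ', X, h0, hX, hor⟩ := key Finset.univ
  obtain ⟨x₀, y₀, hxy⟩ : ∃ x y, Z' x y ≠ 0 := by
    by_contra hc
    push Not at hc
    exact h0 (Matrix.ext hc)
  have hX0 : ∀ l, X l (x₀ l) (y₀ l) ≠ 0 := fun l e => by
    obtain ⟨W, hW⟩ := (hX l (Finset.mem_univ l)).2
    have := congrFun (congrFun hW (Equiv.funSplitAt l (Fin k) x₀)) (Equiv.funSplitAt l (Fin k) y₀)
    rw [split_apply, Equiv.symm_apply_apply, Equiv.symm_apply_apply, Matrix.kroneckerMap_apply] at this
    exact hxy (by rw [this]; simp [Equiv.funSplitAt, Equiv.piSplitAt, e])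
  have hprod : ∀ (s : Finset κ) (x y : κ → Fin k), Z' x y * ∏ l ∈ s, X l (x₀ l) (y₀ l) =
      Z' (fun l => if l ∈ s then x₀ l else x l) (fun l => if l ∈ s then y₀ l else y l) *
        ∏ l ∈ s, X l (x l) (y l) := by
    intro s
    induction s using Finset.induction with
    | empty => intro x y; simp
    | @insert a s ha ih =>
      intro x y
      rw [Finset.prod_insert ha, Finset.prod_insert ha, mul_left_comm, ih]
      set x' : κ → Fin k := fun l => if l ∈ s then x₀ l else x l
      set y' : κ → Fin k := fun l => if l ∈ s then y₀ l else y l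
      obtain ⟨W, hW⟩ := (hX a (Finset.mem_univ a)).2
      have e : ∀ u v : κ → Fin k, Z' u v = X a (u a) (v a) * W (fun r => u r) (fun r => v r) := fun u v => by
        have := congrFun (congrFun hW (Equiv.funSplitAt a (Fin k) u)) (Equiv.funSplitAt a (Fin k) v)
        rw [split_apply, Equiv.symm_apply_apply, Equiv.symm_apply_apply, Matrix.kroneckerMap_apply] at this
        exact this
      have hins : ∀ u u₀ : κ → Fin k, (fun l => if l ∈ insert a s then u₀ l else u l) =
          Function.update (fun l => if l ∈ s then u₀ l else u l) a (u₀ a) := fun u u₀ => by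
        funext l
        by_cases hl : l = a
        · subst hl; simp
        · simp [hl]
      rw [hins, hins, e x' y', e (Function.update x' a _) (Function.update y' a _), Function.update_self,
        Function.update_self, show x' a = x a by simp [x', ha], show y' a = y a by simp [y', ha],
        show (fun r : Rest a => Function.update x' a (x₀ a) r) = fun r : Rest a => x' r from
          funext fun r => Function.update_of_ne r.2 _ _,
        show (fun r : Rest a => Function.update y' a (y₀ a) r) = fun r : Rest a => y' r from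
          funext fun r => Function.update_of_ne r.2 _ _]
      ring
  have htens : tens X = ((∏ l, X l (x₀ l) (y₀ l)) / Z' x₀ y₀) • Z' := by
    ext x y
    have := hprod Finset.univ x y
    simp only [Finset.mem_univ, if_true] at this
    rw [Matrix.smul_apply, tens_apply, smul_eq_mul, div_mul_eq_mul_div, eq_div_iff hxy]
    linear_combination -this
  refine ⟨X, fun l => (hX l (Finset.mem_univ l)).1, ?_, htens ▸ S.smul_mem _ hZ', ?_⟩
  · rcases hor with ⟨l, -, hl⟩ | h
    · exact ⟨l, hl⟩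
    · by_contra hall
      push Not at hall
      refine h (Z' x₀ y₀ / ∏ l, X l (x₀ l) (y₀ l)) ?_
      rw [show X = 1 from funext hall, map_one] at htens
      rw [show X = 1 from funext hall] at hX0 ⊢
      rw [htens, smul_smul, div_mul_div_cancel₀ (Finset.prod_ne_zero_iff.2 fun l _ => hX0 l), div_self hxy, one_smul]
  · rw [htens]
    exact smul_ne_zero (div_ne_zero (Finset.prod_ne_zero_iff.2 fun l _ => hX0 l) hxy) h0

end CfsgLib.Classical.WreathMaxSp
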