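import Mathlib

/-!
# A symplectic space with a Gram matrix: transvections, transitivity, frames
-/

set_option autoImplicit false
set_option linter.unusedSectionVars false

open Matrix Module

namespace CfsgLib.Classical.WreathMaxSp

variable {F : Type*} [Field F] {k : ℕ}

/-- An invertible alternating Gram matrix; in characteristic two the dimension is at least six. -/
structure SkewGram (J : Matrix (Fin k) (Fin k) F) : Prop where
  skew : Jᵀ = -J
  unit : IsUnit J.det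
  diag : ∀ u : Fin k → F, u ⬝ᵥ J *ᵥ u = 0
  sq : ∀ c : F, ∃ a a' : F, c = a * a + -(a' * a')
  big : (2 : F) ≠ 0 ∨ 6 ≤ k

/-- The form with Gram matrix `J`. -/
def fJ (J : Matrix (Fin k) (Fin k) F) (u v : Fin k → F) : F := u ⬝ᵥ J *ᵥ v

/-- The functional `fJ J u`. -/
def beta (J : Matrix (Fin k) (Fin k) F) (u : Fin k → F) : Fin k → F := u ᵥ* J

/-- The rank one map `x ↦ f(u, x) u`. -/
def nilp (J : Matrix (Fin k) (Fin k) F) (u : Fin k → F) : Matrix (Fin k) (Fin k) F :=
  vecMulVec u (beta J u)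

/-- `C` preserves the form. -/
def InSp (J C : Matrix (Fin k) (Fin k) F) : Prop := Cᵀ * J * C = J

variable {J : Matrix (Fin k) (Fin k) F}

theorem beta_dot (u v : Fin k → F) : beta J u ⬝ᵥ v = fJ J u v := (dotProduct_mulVec u J v).symm

theorem fJ_add_left (u u' v : Fin k → F) : fJ J (u + u') v = fJ J u v + fJ J u' v := add_dotProduct ..

theorem fJ_add_right (u v v' : Fin k → F) : fJ J u (v + v') = fJ J u v + fJ J u v' := by
  rw [fJ, Matrix.mulVec_add, dotProduct_add]; rfl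

theorem fJ_sub_left (u u' v : Fin k → F) : fJ J (u - u') v = fJ J u v - fJ J u' v := sub_dotProduct ..

theorem fJ_sub_right (u v v' : Fin k → F) : fJ J u (v - v') = fJ J u v - fJ J u v' := by
  rw [fJ, Matrix.mulVec_sub, dotProduct_sub]; rfl

theorem fJ_smul_left (c : F) (u v : Fin k → F) : fJ J (c • u) v = c * fJ J u v := smul_dotProduct ..

theorem fJ_smul_right (c : F) (u v : Fin k → F) : fJ J u (c • v) = c * fJ J u v := by
  rw [fJ, Matrix.mulVec_smul, dotProduct_smul]; rfl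

theorem fJ_neg_left (u v : Fin k → F) : fJ J (-u) v = -fJ J u v := neg_dotProduct ..

theorem fJ_zero_left (v : Fin k → F) : fJ J 0 v = 0 := zero_dotProduct _

theorem fJ_zero_right (u : Fin k → F) : fJ J u 0 = 0 := by simp [fJ]

theorem SkewGram.swap (hJ : SkewGram J) (u v : Fin k → F) : fJ J u v = -fJ J v u := by
  rw [fJ, fJ, dotProduct_mulVec, dotProduct_comm v, ← neg_dotProduct, ← Matrix.neg_mulVec, ← hJ.skew,
    Matrix.mulVec_transpose]

theorem SkewGram.alt (hJ : SkewGram J) (u : Fin k → F) : fJ J u u = 0 := hJ.diag u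

/-- Small factors only occur in odd characteristic. -/
theorem SkewGram.two_of_small (hJ : SkewGram J) (h : k < 6) : (2 : F) ≠ 0 :=
  hJ.big.resolve_right (by omega)

/-- In odd characteristic a skew invertible matrix is enough. -/
theorem SkewGram.of_two (h2 : (2 : F) ≠ 0) (hskew : Jᵀ = -J) (hunit : IsUnit J.det) : SkewGram J := by
  refine ⟨hskew, hunit, fun u => ?_, fun c => ⟨(c + 1) / 2, (c - 1) / 2, by field_simp; ring⟩, Or.inl h2⟩
  have h : u ⬝ᵥ J *ᵥ u = -(u ⬝ᵥ J *ᵥ u) := by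
    conv_lhs => rw [dotProduct_mulVec, dotProduct_comm, ← Matrix.mulVec_transpose, hskew, Matrix.neg_mulVec,
      dotProduct_neg]
  have h' : (2 : F) * (u ⬝ᵥ J *ᵥ u) = 0 := by linear_combination h
  exact (mul_eq_zero.1 h').resolve_left h2

/-- In characteristic two over a finite field an alternating invertible matrix is enough. -/
theorem SkewGram.of_char_two [Finite F] (h2 : (2 : F) = 0) (h6 : 6 ≤ k) (hskew : Jᵀ = -J)
    (hdiag : ∀ u : Fin k → F, u ⬝ᵥ J *ᵥ u = 0) (hunit : IsUnit J.det) : SkewGram J := by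
  refine ⟨hskew, hunit, hdiag, fun c => ?_, Or.inr h6⟩
  haveI : CharP F 2 := CharTwo.of_one_ne_zero_of_two_eq_zero one_ne_zero h2
  obtain ⟨a, ha⟩ := FiniteField.isSquare_of_char_two (F := F) ((CharP.ringChar_of_prime_eq_zero Nat.prime_two (by exact_mod_cast h2))) c
  exact ⟨a, 0, by rw [mul_zero, neg_zero, add_zero, ha]⟩

theorem SkewGram.eq_zero_of_left (hJ : SkewGram J) {u : Fin k → F} (h : ∀ v, fJ J u v = 0) : u = 0 := by
  have h1 : u ᵥ* J = 0 := by
    funext a
    have := h (Pi.single a 1)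
    rw [← beta_dot, dotProduct_single, mul_one] at this
    exact this
  exact Matrix.eq_zero_of_vecMul_eq_zero hJ.unit.ne_zero h1

theorem SkewGram.exists_pair (hJ : SkewGram J) {u : Fin k → F} (hu : u ≠ 0) : ∃ v, fJ J u v = 1 := by
  by_contra h
  push Not at h
  refine hu (hJ.eq_zero_of_left fun v => ?_)
  by_contra hv
  exact h ((fJ J u v)⁻¹ • v) (by rw [fJ_smul_right, inv_mul_cancel₀ hv])

theorem SkewGram.eq_of_fJ (hJ : SkewGram J) {u u' : Fin k → F} (h : ∀ v, fJ J u v = fJ J u' v) : u = u' :=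
  sub_eq_zero.1 (hJ.eq_zero_of_left fun v => by rw [fJ_sub_left, h, sub_self])

theorem nilp_mulVec (u x : Fin k → F) : nilp J u *ᵥ x = fJ J u x • u := by
  rw [nilp, vecMulVec_mulVec, beta_dot, op_smul_eq_smul]

theorem SkewGram.nilp_sq (hJ : SkewGram J) (u : Fin k → F) : nilp J u * nilp J u = 0 := by
  rw [nilp, vecMulVec_mul_vecMulVec, beta_dot, hJ.alt, zero_smul, vecMulVec_zero]

theorem nilp_smul (c : F) (u : Fin k → F) : nilp J (c • u) = (c * c) • nilp J u := by
  rw [nilp, nilp, beta, Matrix.smul_vecMul]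
  ext a b
  simp [vecMulVec_apply]
  rw [beta]
  ring

/-- Preserving the form, entrywise. -/
theorem inSp_iff {C : Matrix (Fin k) (Fin k) F} :
    InSp J C ↔ ∀ u v, fJ J (C *ᵥ u) (C *ᵥ v) = fJ J u v := by
  have key : ∀ u v, fJ J (C *ᵥ u) (C *ᵥ v) = u ⬝ᵥ (Cᵀ * J * C) *ᵥ v := fun u v => by
    rw [fJ, ← vecMul_transpose, ← dotProduct_mulVec, Matrix.mulVec_mulVec, Matrix.mulVec_mulVec]
  constructor
  · intro h u v
    rw [key, h]
    rfl
  · intro h
    ext a b
    have := h (Pi.single a 1) (Pi.single b 1)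
    rw [key, fJ] at this
    simpa [single_dotProduct] using this

theorem inSp_one : InSp J (1 : Matrix (Fin k) (Fin k) F) := by simp [InSp]

theorem InSp.mul {C D : Matrix (Fin k) (Fin k) F} (hC : InSp J C) (hD : InSp J D) : InSp J (C * D) := by
  rw [inSp_iff] at *
  intro u v
  rw [← Matrix.mulVec_mulVec, ← Matrix.mulVec_mulVec, hC, hD]

theorem SkewGram.inSp_transvection (hJ : SkewGram J) (c : F) (u : Fin k → F) :
    InSp J (1 + c • nilp J u) := by
  rw [inSp_iff]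
  intro x y
  simp only [Matrix.add_mulVec, Matrix.one_mulVec, Matrix.smul_mulVec, nilp_mulVec, fJ_add_left, fJ_add_right,
    fJ_smul_left, fJ_smul_right, hJ.alt]
  rw [hJ.swap x u]
  ring

/-- Transvections along a subspace move its vectors outside the radical to each other, fixing the orthogonal. -/
theorem SkewGram.exists_move (hJ : SkewGram J) {U : Submodule F (Fin k → F)} {u v : Fin k → F}
    (hu : u ∈ U) (hv : v ∈ U) (hu' : ∃ y ∈ U, fJ J u y ≠ 0) (hv' : ∃ y ∈ U, fJ J v y ≠ 0) :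
    ∃ C, InSp J C ∧ C *ᵥ u = v ∧ ∀ z, (∀ x ∈ U, fJ J x z = 0) → C *ᵥ z = z := by
  have step : ∀ {u v : Fin k → F}, u ∈ U → v ∈ U → fJ J u v ≠ 0 →
      ∃ C, InSp J C ∧ C *ᵥ u = v ∧ ∀ z, (∀ x ∈ U, fJ J x z = 0) → C *ᵥ z = z := fun {u v} hu hv h => by
    refine ⟨_, hJ.inSp_transvection (-(fJ J u v))⁻¹ (v - u), ?_, fun z hz => ?_⟩
    · rw [Matrix.add_mulVec, Matrix.one_mulVec, Matrix.smul_mulVec, nilp_mulVec, fJ_sub_left, hJ.alt, sub_zero,
        hJ.swap v u, smul_smul, inv_mul_cancel₀ (neg_ne_zero.2 h), one_smul, add_sub_cancel]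
    · rw [Matrix.add_mulVec, Matrix.one_mulVec, Matrix.smul_mulVec, nilp_mulVec, hz _ (U.sub_mem hv hu), zero_smul,
        smul_zero, add_zero]
  by_cases h : fJ J u v = 0
  · obtain ⟨y₁, hy₁, h₁⟩ := hu'
    obtain ⟨y₂, hy₂, h₂⟩ := hv'
    obtain ⟨w, hw, hw1, hw2⟩ : ∃ w ∈ U, fJ J u w ≠ 0 ∧ fJ J w v ≠ 0 := by
      by_cases a : fJ J v y₁ = 0
      · by_cases b : fJ J u y₂ = 0
        · exact ⟨y₁ + y₂, U.add_mem hy₁ hy₂, by rwa [fJ_add_right, b, add_zero], by
            rw [hJ.swap, neg_ne_zero, fJ_add_right, a, zero_add]; exact h₂⟩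
        · exact ⟨y₂, hy₂, b, by rw [hJ.swap, neg_ne_zero]; exact h₂⟩
      · exact ⟨y₁, hy₁, h₁, by rw [hJ.swap, neg_ne_zero]; exact a⟩
    obtain ⟨C, hC, hCu, hCz⟩ := step hu hw hw1
    obtain ⟨D, hD, hDw, hDz⟩ := step hw hv hw2
    exact ⟨D * C, hD.mul hC, by rw [← Matrix.mulVec_mulVec, hCu, hDw],
      fun z hz => by rw [← Matrix.mulVec_mulVec, hCz z hz, hDz z hz]⟩
  · exact step hu hv h

theorem SkewGram.transitive (hJ : SkewGram J) {u v : Fin k → F} (hu : u ≠ 0) (hv : v ≠ 0) :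
    ∃ C, InSp J C ∧ C *ᵥ u = v := by
  obtain ⟨y, hy⟩ := hJ.exists_pair hu
  obtain ⟨y', hy'⟩ := hJ.exists_pair hv
  obtain ⟨C, hC, hCu, -⟩ := hJ.exists_move (U := ⊤) Submodule.mem_top Submodule.mem_top
    ⟨y, Submodule.mem_top, by rw [hy]; exact one_ne_zero⟩ ⟨y', Submodule.mem_top, by rw [hy']; exact one_ne_zero⟩
  exact ⟨C, hC, hCu⟩

end CfsgLib.Classical.WreathMaxSp
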