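import Cfsg.Agent.Lib.Classical.WreathMaxSp.Form

/-!
# A tensor product of a symplectic space with a formed space: slices
-/

set_option autoImplicit false
set_option linter.unusedSectionVars false

open Matrix Module
open scoped Kronecker

namespace CfsgLib.Classical.WreathMaxSp

variable {F : Type*} [Field F] {k : ℕ} {ι : Type} [Fintype ι] [DecidableEq ι]

/-- The map `r ↦ v ⊗ r`. -/
def inj (v : Fin k → F) : Matrix (Fin k × ι) ι F := Matrix.of fun p r => if p.2 = r then v p.1 else 0

/-- The contraction with `v` by the form. -/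
def proj (J : Matrix (Fin k) (Fin k) F) (v : Fin k → F) : Matrix ι (Fin k × ι) F :=
  Matrix.of fun r p => if r = p.2 then beta J v p.1 else 0

variable {J : Matrix (Fin k) (Fin k) F}

theorem proj_mul_inj (u v : Fin k → F) :
    proj (ι := ι) J u * inj (ι := ι) v = fJ J u v • (1 : Matrix ι ι F) := by
  ext r s
  rw [← beta_dot, Matrix.smul_apply, Matrix.one_apply, Matrix.mul_apply, Fintype.sum_prod_type]
  simp only [proj, inj, Matrix.of_apply, ite_mul, zero_mul, Finset.sum_ite_eq, Finset.mem_univ, if_true, smul_eq_mul,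
    mul_ite, mul_one, mul_zero]
  by_cases h : r = s <;> simp [h, dotProduct]

theorem proj_inj_assoc {α : Type*} [Fintype α] (u v : Fin k → F) (X : Matrix ι α F) :
    (proj J u : Matrix ι (Fin k × ι) F) * ((inj v : Matrix (Fin k × ι) ι F) * X) = fJ J u v • X := by
  rw [← Matrix.mul_assoc, proj_mul_inj, Matrix.smul_mul, Matrix.one_mul]

theorem inj_mul_proj (u v : Fin k → F) (X : Matrix ι ι F) :
    (inj u : Matrix (Fin k × ι) ι F) * X * (proj J v : Matrix ι (Fin k × ι) F) = vecMulVec u (beta J v) ⊗ₖ X := by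
  ext p q
  simp only [proj, inj, Matrix.mul_apply, Matrix.of_apply, ite_mul, zero_mul, mul_ite, mul_zero, Finset.sum_ite_eq,
    Finset.sum_ite_eq', Finset.mem_univ, if_true, Matrix.kroneckerMap_apply, vecMulVec_apply]
  ring

theorem inj_mul_proj_one (u v : Fin k → F) :
    (inj u : Matrix (Fin k × ι) ι F) * (proj J v : Matrix ι (Fin k × ι) F) =
      vecMulVec u (beta J v) ⊗ₖ (1 : Matrix ι ι F) := by
  rw [← inj_mul_proj, Matrix.mul_one]

theorem inj_add (u v : Fin k → F) : inj (ι := ι) (u + v) = inj u + inj v := by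
  ext p r
  simp only [inj, Matrix.of_apply, Pi.add_apply, Matrix.add_apply]
  split_ifs <;> simp

theorem inj_smul (c : F) (u : Fin k → F) : inj (ι := ι) (c • u) = c • inj u := by
  ext p r
  simp only [inj, Matrix.of_apply, Pi.smul_apply, Matrix.smul_apply]
  split_ifs <;> simp

theorem inj_neg (u : Fin k → F) : inj (ι := ι) (-u) = -inj u := by
  rw [← neg_one_smul F u, inj_smul, neg_one_smul]

theorem inj_zero : inj (ι := ι) (0 : Fin k → F) = 0 := by
  rw [← zero_smul F (0 : Fin k → F), inj_smul, zero_smul]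

theorem inj_sub (u v : Fin k → F) : inj (ι := ι) (u - v) = inj u - inj v := by
  rw [sub_eq_add_neg, inj_add, inj_neg, sub_eq_add_neg]

theorem proj_add (u v : Fin k → F) : proj (ι := ι) J (u + v) = proj J u + proj J v := by
  ext r p
  simp only [proj, beta, Matrix.add_vecMul, Matrix.of_apply, Pi.add_apply, Matrix.add_apply]
  split_ifs <;> simp

theorem proj_smul (c : F) (u : Fin k → F) : proj (ι := ι) J (c • u) = c • proj J u := by
  ext r p
  simp only [proj, beta, Matrix.smul_vecMul, Matrix.of_apply, Pi.smul_apply, Matrix.smul_apply]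
  split_ifs <;> simp

theorem proj_neg (u : Fin k → F) : proj (ι := ι) J (-u) = -proj J u := by
  rw [← neg_one_smul F u, proj_smul, neg_one_smul]

theorem proj_sub (u v : Fin k → F) : proj (ι := ι) J (u - v) = proj J u - proj J v := by
  rw [sub_eq_add_neg, proj_add, proj_neg, sub_eq_add_neg]

theorem kron_mul_inj (C : Matrix (Fin k) (Fin k) F) (X : Matrix ι ι F) (v : Fin k → F) :
    (C ⊗ₖ X) * (inj v : Matrix (Fin k × ι) ι F) = (inj (C *ᵥ v) : Matrix (Fin k × ι) ι F) * X := by
  ext p s
  simp only [inj, Matrix.mul_apply, Matrix.of_apply, Fintype.sum_prod_type, Matrix.kroneckerMap_apply, ite_mul,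
    zero_mul, mul_ite, mul_zero, Finset.sum_ite_eq, Finset.sum_ite_eq', Finset.mem_univ, if_true, Matrix.mulVec,
    dotProduct, Finset.sum_mul]
  exact Finset.sum_congr rfl fun a _ => by ring

theorem beta_mul_of_sim {C : Matrix (Fin k) (Fin k) F} {μ : F} (hC : Cᵀ * J * C = μ • J) (v : Fin k → F) :
    beta J (C *ᵥ v) ᵥ* C = μ • beta J v := by
  rw [beta, beta, ← vecMul_transpose, Matrix.vecMul_vecMul, Matrix.vecMul_vecMul, ← Matrix.mul_assoc, hC, Matrix.vecMul_smul]


theorem proj_mul_kron (v : Fin k → F) (C : Matrix (Fin k) (Fin k) F) (X : Matrix ι ι F) {w : Fin k → F}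
    (h : beta J v ᵥ* C = beta J w) : (proj J v : Matrix ι (Fin k × ι) F) * (C ⊗ₖ X) =
      X * (proj J w : Matrix ι (Fin k × ι) F) := by
  ext r q
  rw [Matrix.mul_apply]
  refine Eq.trans ?_ Matrix.mul_apply.symm
  simp only [proj, Matrix.of_apply, Fintype.sum_prod_type, Matrix.kroneckerMap_apply, ite_mul, zero_mul, mul_ite,
    mul_zero, Finset.sum_ite_eq, Finset.sum_ite_eq', Finset.mem_univ, if_true]
  rw [← h]
  simp only [Matrix.vecMul, dotProduct, Finset.mul_sum]
  exact Finset.sum_congr rfl fun a _ => by ring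

theorem ext_inj {α : Type*} [Fintype α] {X Y : Matrix α (Fin k × ι) F}
    (h : ∀ v : Fin k → F, X * (inj v : Matrix (Fin k × ι) ι F) = Y * (inj v : Matrix (Fin k × ι) ι F)) : X = Y := by
  ext p ⟨a, s⟩
  have := congrFun (congrFun (h (Pi.single a 1)) p) s
  rw [Matrix.mul_apply, Matrix.mul_apply, Fintype.sum_prod_type, Fintype.sum_prod_type] at this
  simpa [inj, Pi.single_apply] using this

theorem eq_zero_of_proj (hJ : SkewGram J) {α : Type*} [Fintype α] {X : Matrix (Fin k × ι) α F}
    (h : ∀ u : Fin k → F, (proj J u : Matrix ι (Fin k × ι) F) * X = 0) : X = 0 := by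
  ext ⟨a, r⟩ q
  have h1 : ∀ u : Fin k → F, beta J u ⬝ᵥ (fun b => X (b, r) q) = 0 := fun u => by
    have := congrFun (congrFun (h u) r) q
    simpa [proj, Matrix.mul_apply, Fintype.sum_prod_type, dotProduct] using this
  have h2 : (fun b => X (b, r) q) = 0 := by
    refine hJ.eq_zero_of_left fun v => ?_
    rw [hJ.swap, ← beta_dot, h1, neg_zero]
  exact congrFun h2 a

/-- A map killed by `v ↦ proj v` for `v ⊥ b` lands in `b ⊗ _`. -/
theorem eq_inj_of_proj (hJ : SkewGram J) {α : Type*} [Fintype α] {b c : Fin k → F} (hbc : fJ J b c = 1)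
    {X : Matrix (Fin k × ι) α F} (h : ∀ u, fJ J u b = 0 → (proj J u : Matrix ι (Fin k × ι) F) * X = 0) :
    X = (inj b : Matrix (Fin k × ι) ι F) * (-((proj J c : Matrix ι (Fin k × ι) F) * X)) := by
  rw [← sub_eq_zero]
  refine eq_zero_of_proj hJ fun u => ?_
  have h1 := h (u + fJ J u b • c) (by
    rw [fJ_add_left, fJ_smul_left, hJ.swap c b, hbc]; ring)
  rw [proj_add, proj_smul, Matrix.add_mul, Matrix.smul_mul] at h1
  rw [Matrix.mul_sub, Matrix.mul_neg, Matrix.mul_neg, ← Matrix.mul_assoc, proj_mul_inj, Matrix.smul_mul,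
    Matrix.one_mul, sub_neg_eq_add]
  exact h1

/-- The Gram matrix on the other factor. -/
structure FormedGram (H : Matrix ι ι F) : Prop where
  unit : IsUnit H.det
  sign : ∃ ε : F, ε * ε = 1 ∧ Hᵀ = ε • H

/-- The Gram matrix of the product. -/
def gram (J : Matrix (Fin k) (Fin k) F) (H : Matrix ι ι F) : Matrix (Fin k × ι) (Fin k × ι) F := J ⊗ₖ H

variable {H : Matrix ι ι F}

theorem inj_transpose_gram (u : Fin k → F) :
    (inj u : Matrix (Fin k × ι) ι F)ᵀ * gram J H = H * (proj J u : Matrix ι (Fin k × ι) F) := by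
  ext r q
  simp only [inj, proj, gram, Matrix.mul_apply, Matrix.transpose_apply, Matrix.of_apply, Fintype.sum_prod_type,
    Matrix.kroneckerMap_apply, ite_mul, zero_mul, mul_ite, mul_zero, Finset.sum_ite_eq, Finset.sum_ite_eq',
    Finset.mem_univ, if_true]
  simp only [beta, Matrix.vecMul, dotProduct, Finset.mul_sum]
  exact Finset.sum_congr rfl fun a _ => by ring

theorem gram_mul_inj (hJ : SkewGram J) (u : Fin k → F) :
    gram J H * (inj u : Matrix (Fin k × ι) ι F) = -((proj J u : Matrix ι (Fin k × ι) F)ᵀ * H) := by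
  have e : J *ᵥ u = -beta J u := by
    rw [beta, ← Matrix.mulVec_transpose, hJ.skew, Matrix.neg_mulVec, neg_neg]
  rw [gram, kron_mul_inj, e]
  ext p s
  simp only [inj, proj, Matrix.mul_apply, Matrix.neg_apply, Matrix.transpose_apply, Matrix.of_apply, Pi.neg_apply,
    ite_mul, zero_mul, Finset.sum_ite_eq, Finset.sum_ite_eq', Finset.mem_univ, if_true, neg_mul]

end CfsgLib.Classical.WreathMaxSp
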