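import Cfsg.Agent.Lib.Classical.WreathMaxSp.Extract

/-!
# Invariant spaces: non-scalar squares, full factors, pairs
-/

set_option autoImplicit false
set_option linter.unusedSectionVars false

open Matrix Module CfsgLib.Classical.WreathMax
open scoped Kronecker

namespace CfsgLib.Classical.WreathMaxSp

variable {F : Type*} [Field F] {κ : Type} [Fintype κ] [DecidableEq κ] {k : ℕ}
  {J : Matrix (Fin k) (Fin k) F}

theorem InSp.exists_inv (hJ : SkewGram J) {C : Matrix (Fin k) (Fin k) F} (hC : InSp J C) :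
    ∃ C' : Matrix (Fin k) (Fin k) F, C * C' = 1 := hC.exists_inv' hJ

theorem InSp.conj_vecMulVec {C C' : Matrix (Fin k) (Fin k) F} (hC : InSp J C) (h : C * C' = 1)
    (b w : Fin k → F) : C * vecMulVec b (beta J w) * C' = vecMulVec (C *ᵥ b) (beta J (C *ᵥ w)) := by
  have h1 : beta J w ᵥ* C' = beta J (C *ᵥ w) := by
    have := beta_mul_of_sim (J := J) (C := C) (μ := 1) (by rw [one_smul]; exact hC) w
    rw [one_smul] at this
    rw [← this, Matrix.vecMul_vecMul, h, Matrix.vecMul_one]
  rw [Matrix.mul_vecMulVec, Matrix.vecMulVec_mul, h1]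

theorem InSp.conj_wedge {C C' : Matrix (Fin k) (Fin k) F} (hC : InSp J C) (h : C * C' = 1)
    (b b' : Fin k → F) : C * wedge J b b' * C' = wedge J (C *ᵥ b) (C *ᵥ b') := by
  rw [wedge, Matrix.mul_sub, Matrix.sub_mul, hC.conj_vecMulVec h, hC.conj_vecMulVec h]
  rfl

theorem SpInv.conj_tens {S : Submodule F (TMat F κ k)} (hS : SpInv J S) {C C' : κ → Matrix (Fin k) (Fin k) F}
    (hC : ∀ l, InSp J (C l)) (h : ∀ l, C l * C' l = 1) {Z : TMat F κ k} (hZ : Z ∈ S) :
    tens C * Z * tens C' ∈ S := by
  suffices key : ∀ s : Finset κ,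
      tens (fun l => if l ∈ s then C l else 1) * Z * tens (fun l => if l ∈ s then C' l else 1) ∈ S by
    simpa using key Finset.univ
  intro s
  induction s using Finset.induction with
  | empty =>
    simp only [Finset.notMem_empty, if_false]
    rw [show tens (fun _ : κ => (1 : Matrix (Fin k) (Fin k) F)) = (1 : TMat F κ k) from map_one tens, Matrix.one_mul,
      Matrix.mul_one]
    exact hZ
  | @insert a s ha ih =>
    have e1 : tens (fun l => if l ∈ insert a s then C l else 1) = op a (C a) * tens (fun l => if l ∈ s then C l else 1) := by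
      rw [op_eq_tens, ← map_mul]
      congr 1
      funext l
      by_cases hl : l = a
      · subst hl; simp [ha]
      · simp [hl]
    have e2 : tens (fun l => if l ∈ insert a s then C' l else 1) =
        tens (fun l => if l ∈ s then C' l else 1) * op a (C' a) := by
      rw [op_eq_tens, ← map_mul]
      congr 1
      funext l
      by_cases hl : l = a
      · subst hl; simp [ha]
      · simp [hl]
    have h1 := hS a _ _ (hC a) (h a) _ ih
    rw [e1, e2]
    simpa only [Matrix.mul_assoc] using h1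

theorem transpose_mul_of_form {A B : Matrix (Fin k) (Fin k) F}
    (h : ∀ u v, fJ J (A *ᵥ u) v = fJ J u (B *ᵥ v)) : Aᵀ * J = J * B := by
  ext a b
  have := h (Pi.single a 1) (Pi.single b 1)
  rw [fJ, fJ, ← vecMul_transpose, ← dotProduct_mulVec, Matrix.mulVec_mulVec, Matrix.mulVec_mulVec] at this
  simpa [single_dotProduct] using this

theorem SkewGram.nilp_adj (hJ : SkewGram J) (b : Fin k → F) : (nilp J b)ᵀ * J = J * ((-1 : F) • nilp J b) :=
  transpose_mul_of_form fun u v => by
    rw [Matrix.smul_mulVec, nilp_mulVec, nilp_mulVec, fJ_smul_left, fJ_smul_right, fJ_smul_right, hJ.swap u b]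
    ring

theorem SkewGram.wedge_adj (hJ : SkewGram J) (b b' : Fin k → F) : (wedge J b b')ᵀ * J = J * wedge J b b' :=
  transpose_mul_of_form fun u v => by
    simp only [wedge, Matrix.sub_mulVec, vecMulVec_mulVec, beta_dot, op_smul_eq_smul, fJ_sub_left, fJ_sub_right,
      fJ_smul_left, fJ_smul_right, hJ.swap u b, hJ.swap u b']
    ring

theorem adjH_tens (hJ : SkewGram J) {X Y : κ → Matrix (Fin k) (Fin k) F} (h : ∀ l, (X l)ᵀ * J = J * Y l) :
    adjH (gramT κ J) (tens X) = tens Y := by
  have e : (tens X)ᵀ * gramT κ J = gramT κ J * tens Y := by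
    rw [gramT, tens_transpose, tens_mul, tens_mul]
    exact congrArg tens (funext h)
  rw [adjH, Matrix.mul_assoc, e, ← Matrix.mul_assoc, Matrix.nonsing_inv_mul _ (gramT_formed hJ).unit, Matrix.one_mul]

theorem tens_self_adj (hJ : SkewGram J) {X : κ → Matrix (Fin k) (Fin k) F} (hX : ∀ l, Kind J (X l))
    (h : ∀ l b, b ≠ 0 → X l ≠ nilp J b) : adjH (gramT κ J) (tens X) = tens X :=
  adjH_tens hJ fun l => by
    rcases hX l with e | ⟨b, hb, e⟩ | ⟨b, b', -, -, -, e⟩
    · rw [e, Matrix.transpose_one, Matrix.one_mul, Matrix.mul_one]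
    · exact absurd e (h l b hb)
    · rw [e, hJ.wedge_adj]

/-- A pair opposite to an isotropic pair. -/
theorem SkewGram.exists_opposite_pair (hJ : SkewGram J) {b b' : Fin k → F} (hb : b ≠ 0)
    (hb' : ∀ c : F, b' ≠ c • b) (hbb' : fJ J b b' = 0) :
    ∃ c c', fJ J b c = 1 ∧ fJ J b' c = 0 ∧ fJ J b' c' = 1 ∧ fJ J b c' = 0 ∧ fJ J c c' = 0 ∧ c ≠ 0 ∧
      ∀ s : F, c' ≠ s • c := by
  obtain ⟨d', hd1, hd2⟩ := hJ.indep_dual hb hb'
  obtain ⟨c, hc1, hc2⟩ := hJ.indep_dual (b := b') (w := b) (fun e => hb' 0 (by rw [e, zero_smul])) (fun c e => by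
    rcases eq_or_ne c 0 with rfl | hc
    · exact hb (by rw [e, zero_smul])
    · exact hb' c⁻¹ (by rw [e, smul_smul, inv_mul_cancel₀ hc, one_smul]))
  refine ⟨c, d' + fJ J c d' • b, hc1, hc2, ?_, ?_, ?_, fun e => ?_, fun s e => ?_⟩
  · rw [fJ_add_right, fJ_smul_right, hd1, hJ.swap b' b, hbb']; ring
  · rw [fJ_add_right, fJ_smul_right, hd2, hJ.alt]; ring
  · rw [fJ_add_right, fJ_smul_right, hJ.swap c b, hc1]; ring
  · rw [e, fJ_zero_right] at hc1; exact zero_ne_one hc1
  · have := congrArg (fJ J b') e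
    rw [fJ_add_right, fJ_smul_right, fJ_smul_right, hd1, hc2, hJ.swap b' b, hbb'] at this
    simp at this

theorem scalar_of_sq_zero {ι : Type} [Fintype ι] [DecidableEq ι] {X : Matrix ι ι F} (h : X * X = 0)
    (hX : IsScalarMat X) : X = 0 := by
  obtain ⟨c, rfl⟩ := hX
  rcases isEmpty_or_nonempty ι with hι | ⟨⟨r⟩⟩
  · exact Subsingleton.elim _ _
  · have := congrFun (congrFun h r) r
    simp only [Matrix.smul_mul, Matrix.one_mul, Matrix.smul_apply, Matrix.one_apply_eq, Matrix.zero_apply,
      smul_eq_mul, mul_one] at this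
    rw [(mul_self_eq_zero.1 this), zero_smul]

/-- An invariant space whose elements have scalar sum with the adjoint gives a non-scalar symmetrised product. -/
theorem SpInv.exists_sym_nonscalar {S : Submodule F (TMat F κ k)} (hS : SpInv J S) (hJ : SkewGram J) (h3 : 3 ≤ k)
    (hsc : ∀ Z ∈ S, IsScalarMat (Z + adjH (gramT κ J) Z)) {Z : TMat F κ k} (hZ : Z ∈ S) (hns : ¬ IsScalarMat Z) :
    ∃ D₁ ∈ S, ∃ D₂ ∈ S, ¬ IsScalarMat (D₁ * adjH (gramT κ J) D₂ + D₂ * adjH (gramT κ J) D₁) := by
  classical
  obtain ⟨X, hX, ⟨a₀, ha₀⟩, hXS, hX0⟩ := hS.exists_pure hJ hZ (fun c e => hns ⟨c, e⟩)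
  have hXsq : ∀ l, X l ≠ 1 → X l * X l = 0 := fun l h => by
    rcases hX l with e | ⟨b, -, e⟩ | ⟨b, b', hbb, -, -, e⟩
    · exact absurd e h
    · rw [e, hJ.nilp_sq]
    · rw [e, wedge]
      simp [Matrix.sub_mul, Matrix.mul_sub, vecMulVec_mul_vecMulVec, beta_dot, hJ.alt, hJ.swap b' b, hbb]
  obtain ⟨a, haX, hker⟩ : ∃ a, X a ≠ 1 ∧ ((∃ b, b ≠ 0 ∧ X a = nilp J b) ∨ 5 ≤ k) := by
    by_cases hn : ∃ l b, b ≠ 0 ∧ X l = nilp J b
    · obtain ⟨l, b, hb, e⟩ := hn
      refine ⟨l, fun e1 => ?_, Or.inl ⟨b, hb, e⟩⟩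
      rw [e] at e1
      have h1 := congrArg (· *ᵥ b) e1
      simp only [nilp_mulVec, hJ.alt, zero_smul, Matrix.one_mulVec] at h1
      exact hb h1.symm
    · push Not at hn
      refine ⟨a₀, ha₀, Or.inr ?_⟩
      rcases hJ.big with h2 | h6
      · obtain ⟨c, hc⟩ := hsc _ hXS
        rw [tens_self_adj hJ hX hn, ← two_smul F] at hc
        refine absurd (scalar_of_sq_zero ?_ ⟨c / 2, ?_⟩) hX0
        · rw [tens_mul]
          ext x y
          rw [tens_apply, Matrix.zero_apply]
          exact Finset.prod_eq_zero (Finset.mem_univ a₀) (by rw [hXsq a₀ ha₀]; rfl)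
        · rw [← inv_smul_smul₀ h2 (tens X), hc, smul_smul, div_eq_inv_mul]
      · omega
  -- opposite factors
  have hopp : ∀ l, ∃ (C : Matrix (Fin k) (Fin k) F) (C' : Matrix (Fin k) (Fin k) F) (p : Fin k → F),
      InSp J C ∧ C * C' = 1 ∧ p ≠ 0 ∧ (X l * (C * X l * C')) *ᵥ p ≠ 0 ∧ (X l ≠ 1 → X l *ᵥ p = 0) := fun l => by
    rcases hX l with e | ⟨b, hb, e⟩ | ⟨b, b', hbb', hb, hb', e⟩
    · haveI : Nonempty (Fin k) := ⟨⟨0, by omega⟩⟩
      obtain ⟨p, hp⟩ := exists_ne (0 : Fin k → F)
      exact ⟨1, 1, p, inSp_one, Matrix.one_mul 1, hp, by simpa [e] using hp, fun h => absurd e h⟩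
    · obtain ⟨c, hc⟩ := hJ.exists_pair hb
      have hc0 : c ≠ 0 := fun h => by rw [h, fJ_zero_right] at hc; exact zero_ne_one hc
      obtain ⟨C, hC, hCb⟩ := hJ.transitive hb hc0
      obtain ⟨C', hCC⟩ := hC.exists_inv hJ
      refine ⟨C, C', b, hC, hCC, hb, ?_, fun _ => by rw [e, nilp_mulVec, hJ.alt, zero_smul]⟩
      rw [e, nilp, hC.conj_vecMulVec hCC, hCb, ← nilp, ← nilp, ← Matrix.mulVec_mulVec, nilp_mulVec, nilp_mulVec,
        hJ.swap c b, hc]
      simp [fJ_neg_right', hc, hb]
    · obtain ⟨c, c', h1, h2, h3', h4, h5, hc0, hci⟩ := hJ.exists_opposite_pair hb hb' hbb'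
      obtain ⟨C, hC, hCb, hCb'⟩ := hJ.exists_move_pair hb hb' hbb' hc0 hci h5
      obtain ⟨C', hCC⟩ := hC.exists_inv hJ
      refine ⟨C, C', b, hC, hCC, hb, ?_, fun _ => ?_⟩
      · rw [e, hC.conj_wedge hCC, hCb, hCb', ← Matrix.mulVec_mulVec]
        have hcb : fJ J c b = -1 := by rw [hJ.swap, h1]
        have hc'b : fJ J c' b = 0 := by rw [hJ.swap, h4, neg_zero]
        simp only [wedge, Matrix.sub_mulVec, vecMulVec_mulVec, beta_dot, op_smul_eq_smul, hcb, hc'b, zero_smul,
          neg_smul, one_smul, zero_sub, neg_neg, sub_zero, h3', h4]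
        simpa using hb
      · rw [e]
        simp [wedge, Matrix.sub_mulVec, vecMulVec_mulVec, beta_dot, op_smul_eq_smul, hJ.alt, hJ.swap b' b, hbb']
  choose C C' p hC hCC hp hp1 hp0 using hopp
  set X' : κ → Matrix (Fin k) (Fin k) F := fun l => C l * X l * C' l with hX'
  have hX'S : tens X' ∈ S := by
    have := hS.conj_tens hC hCC hXS
    rwa [tens_mul, tens_mul] at this
  -- the adjoints
  obtain ⟨s, hs, hs', hs0⟩ : ∃ s : κ → F, (∀ l, (X l)ᵀ * J = J * (s l • X l)) ∧
      (∀ l, (X' l)ᵀ * J = J * (s l • X' l)) ∧ ∀ l, s l ≠ 0 := by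
    have h : ∀ l, ∃ s : F, s ≠ 0 ∧ (X l)ᵀ * J = J * (s • X l) ∧ (X' l)ᵀ * J = J * (s • X' l) := fun l => by
      rcases hX l with e | ⟨b, -, e⟩ | ⟨b, b', -, -, -, e⟩
      · exact ⟨1, one_ne_zero, by simp [e], by simp [hX', e, hCC l]⟩
      · refine ⟨-1, neg_ne_zero.2 one_ne_zero, by rw [e]; exact hJ.nilp_adj b, ?_⟩
        simp only [hX', e, nilp, (hC l).conj_vecMulVec (hCC l)]
        exact hJ.nilp_adj _
      · refine ⟨1, one_ne_zero, by rw [e, one_smul]; exact hJ.wedge_adj b b', ?_⟩
        simp only [hX', e, (hC l).conj_wedge (hCC l), one_smul]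
        exact hJ.wedge_adj _ _
    choose s h0 h1 h2 using h
    exact ⟨s, h1, h2, h0⟩
  refine ⟨tens X, hXS, tens X', hX'S, fun ⟨c, hc⟩ => ?_⟩
  rw [adjH_tens hJ hs', adjH_tens hJ hs, tens_smul, tens_smul, Matrix.mul_smul, Matrix.mul_smul, ← smul_add] at hc
  set σ := ∏ l, s l
  have hσ : σ ≠ 0 := Finset.prod_ne_zero_iff.2 fun l _ => hs0 l
  have hc' : tens (fun l => X l * X' l) + tens (fun l => X' l * X l) = (σ⁻¹ * c) • (1 : TMat F κ k) := by
    rw [← smul_smul, ← hc, smul_smul, inv_mul_cancel₀ hσ, one_smul, tens_mul, tens_mul]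
  -- the pure vector fixed by the opposite pair
  have h1 := congrArg (· *ᵥ pv p) hc'
  simp only [Matrix.add_mulVec, tens_mulVec_pv, Matrix.smul_mulVec, Matrix.one_mulVec] at h1
  have hz : pv (fun l => (X' l * X l) *ᵥ p l) = 0 := by
    funext x
    exact Finset.prod_eq_zero (Finset.mem_univ a) (by
      show ((X' a * X a) *ᵥ p a) (x a) = 0
      rw [← Matrix.mulVec_mulVec, hp0 a haX, Matrix.mulVec_zero]; rfl)
  rw [hz, add_zero] at h1
  have hc0 : σ⁻¹ * c ≠ 0 := fun e => pv_ne_zero hp1 (by rw [h1, e, zero_smul])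
  -- a vector killed on the factor `a`
  obtain ⟨w, hk1, hk2, hw0⟩ : ∃ w, X a *ᵥ w = 0 ∧ X' a *ᵥ w = 0 ∧ w ≠ 0 := by
    obtain ⟨u₁, u₂, u₃, u₄, hu, hzero⟩ : ∃ u₁ u₂ u₃ u₄ : Fin k → F, (u₁ = u₂ ∧ u₃ = u₄ ∨ 5 ≤ k) ∧
        ∀ w, fJ J u₁ w = 0 → fJ J u₂ w = 0 → fJ J u₃ w = 0 → fJ J u₄ w = 0 → X a *ᵥ w = 0 ∧ X' a *ᵥ w = 0 := by
      rcases hX a with e | ⟨b, -, e⟩ | ⟨b, b', -, hb, hbi, e⟩
      · exact absurd e haX
      · refine ⟨b, b, C a *ᵥ b, C a *ᵥ b, Or.inl ⟨rfl, rfl⟩, fun w h1 _ h3' _ => ⟨?_, ?_⟩⟩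
        · rw [e, nilp_mulVec, h1, zero_smul]
        · simp only [hX', e, nilp, (hC a).conj_vecMulVec (hCC a)]
          rw [← nilp, nilp_mulVec, h3', zero_smul]
      · refine ⟨b, b', C a *ᵥ b, C a *ᵥ b', Or.inr ?_, fun w h1 h2 h3' h4 => ⟨?_, ?_⟩⟩
        · rcases hker with ⟨b₁, hb₁, e₁⟩ | h
          · exfalso
            obtain ⟨x, hx1, hx2⟩ := hJ.indep_dual hb hbi
            have h1 := congrArg (fun A => beta J b₁ ⬝ᵥ A *ᵥ x) (e₁.symm.trans e)
            have h2 := congrArg (fun A => A *ᵥ x) (e.symm.trans e₁)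
            simp only [wedge, Matrix.sub_mulVec, vecMulVec_mulVec, beta_dot, op_smul_eq_smul, nilp_mulVec, hx1, hx2,
              zero_smul, one_smul, sub_zero] at h2
            obtain ⟨y, hy1, hy2⟩ := hJ.indep_dual (b := b') (w := b) (fun e => hbi 0 (by rw [e, zero_smul]))
              (fun c e => by
                rcases eq_or_ne c 0 with rfl | hc
                · exact hb (by rw [e, zero_smul])
                · exact hbi c⁻¹ (by rw [e, smul_smul, inv_mul_cancel₀ hc, one_smul]))
            have h3' := congrArg (fun A => A *ᵥ y) (e.symm.trans e₁)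
            simp only [wedge, Matrix.sub_mulVec, vecMulVec_mulVec, beta_dot, op_smul_eq_smul, nilp_mulVec, hy1, hy2,
              zero_smul, one_smul, zero_sub] at h3'
            have hf : fJ J b₁ x ≠ 0 := fun h0 => hb (by rw [h2, h0, zero_smul])
            refine hbi (-(fJ J b₁ y / fJ J b₁ x)) ?_
            rw [h2, smul_smul, neg_mul, div_mul_cancel₀ _ hf, neg_smul, ← h3', neg_neg]
          · exact h
        · rw [e]
          simp [wedge, Matrix.sub_mulVec, vecMulVec_mulVec, beta_dot, h1, h2]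
        · simp only [hX', e, (hC a).conj_wedge (hCC a)]
          simp [wedge, Matrix.sub_mulVec, vecMulVec_mulVec, beta_dot, h3', h4]
    have hkey : ∃ w, w ≠ 0 ∧ fJ J u₁ w = 0 ∧ fJ J u₂ w = 0 ∧ fJ J u₃ w = 0 ∧ fJ J u₄ w = 0 := by
      rcases hu with ⟨rfl, rfl⟩ | h5
      · let φ : (Fin k → F) →ₗ[F] F × F :=
          { toFun := fun w => (fJ J u₁ w, fJ J u₃ w)
            map_add' := fun x y => by simp [fJ_add_right]
            map_smul' := fun s x => by simp [fJ_smul_right] }
        have h2 := φ.finrank_range_add_finrank_ker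
        have h4 : finrank F (LinearMap.range φ) ≤ 2 := (Submodule.finrank_le _).trans (by simp)
        rw [finrank_fin_fun] at h2
        obtain ⟨⟨w, hw⟩, hw0⟩ := Module.finrank_pos_iff_exists_ne_zero.1 (show 0 < finrank F (LinearMap.ker φ) by omega)
        have hw' : φ w = 0 := hw
        exact ⟨w, fun e => hw0 (Subtype.ext e), (Prod.ext_iff.1 hw').1, (Prod.ext_iff.1 hw').1, (Prod.ext_iff.1 hw').2,
          (Prod.ext_iff.1 hw').2⟩
      · let φ : (Fin k → F) →ₗ[F] (F × F) × (F × F) :=
          { toFun := fun w => ((fJ J u₁ w, fJ J u₂ w), (fJ J u₃ w, fJ J u₄ w))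
            map_add' := fun x y => by simp [fJ_add_right]
            map_smul' := fun s x => by simp [fJ_smul_right] }
        have h2 := φ.finrank_range_add_finrank_ker
        have h4 : finrank F (LinearMap.range φ) ≤ 4 := (Submodule.finrank_le _).trans (by simp)
        rw [finrank_fin_fun] at h2
        obtain ⟨⟨w, hw⟩, hw0⟩ := Module.finrank_pos_iff_exists_ne_zero.1 (show 0 < finrank F (LinearMap.ker φ) by omega)
        have hw' : φ w = 0 := hw
        simp only [φ, LinearMap.coe_mk, AddHom.coe_mk, Prod.mk_eq_zero] at hw'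
        exact ⟨w, fun e => hw0 (Subtype.ext e), hw'.1.1, hw'.1.2, hw'.2.1, hw'.2.2⟩
    obtain ⟨w, hw0, a1, a2, a3, a4⟩ := hkey
    exact ⟨w, (hzero w a1 a2 a3 a4).1, (hzero w a1 a2 a3 a4).2, hw0⟩
  set y : κ → Fin k → F := Function.update p a w
  have hy : ∀ l, y l ≠ 0 := fun l => by
    by_cases hl : l = a
    · subst hl; simpa [y] using hw0
    · simpa [y, hl] using hp l
  have h5 := congrArg (· *ᵥ pv y) hc'
  simp only [Matrix.add_mulVec, tens_mulVec_pv, Matrix.smul_mulVec, Matrix.one_mulVec] at h5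
  have z : ∀ P Q : κ → Matrix (Fin k) (Fin k) F, Q a *ᵥ w = 0 → pv (fun l => (P l * Q l) *ᵥ y l) = 0 :=
    fun P Q h => funext fun x => Finset.prod_eq_zero (Finset.mem_univ a) (by
      simp [y, ← Matrix.mulVec_mulVec, h])
  rw [z X X' hk2, z X' X hk1, add_zero] at h5
  exact smul_ne_zero hc0 (pv_ne_zero hy) h5.symm
where
  fJ_neg_right' {u v : Fin k → F} : fJ J u (-v) = -fJ J u v := by
    rw [← neg_one_smul F v, fJ_smul_right, neg_one_mul]

theorem tens_update_add_smul (C : κ → Matrix (Fin k) (Fin k) F) (l : κ) (c c' : F)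
    (X X' : Matrix (Fin k) (Fin k) F) : tens (Function.update C l (c • X + c' • X')) =
      c • tens (Function.update C l X) + c' • tens (Function.update C l X') := by
  have e : ∀ (Y : Matrix (Fin k) (Fin k) F) x y, tens (Function.update C l Y) x y =
      Y (x l) (y l) * ∏ m ∈ Finset.univ.erase l, C m (x m) (y m) := fun Y x y => by
    rw [tens_apply, ← Finset.mul_prod_erase Finset.univ _ (Finset.mem_univ l), Function.update_self]
    congr 1
    exact Finset.prod_congr rfl fun m hm => by rw [Function.update_of_ne (Finset.ne_of_mem_erase hm)]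
  ext x y
  simp only [Matrix.add_apply, Matrix.smul_apply, e, smul_eq_mul]
  ring

/-- An invariant space closed under products, with a non-scalar, contains a full factor. -/
theorem SpInv.exists_full {S : Submodule F (TMat F κ k)} (hS : SpInv J S) (hJ : SkewGram J) (h3 : 3 ≤ k)
    (hmul : ∀ Y ∈ S, ∀ Z ∈ S, Y * Z ∈ S) {Z : TMat F κ k} (hZ : Z ∈ S) (hns : ∀ c : F, Z ≠ c • 1) :
    ∃ j, ∀ A, op j A ∈ S := by
  classical
  obtain ⟨X, hX, ⟨j, hj⟩, hXS, -⟩ := hS.exists_pure hJ hZ hns
  set T := Finset.univ.filter fun l => X l ≠ 1 with hT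
  -- rank one idempotents on `T`
  have hrow : ∀ l, ∃ (C C' D D' : Matrix (Fin k) (Fin k) F) (p q : Fin k → F), InSp J C ∧ C * C' = 1 ∧
      InSp J D ∧ D * D' = 1 ∧ (l ∈ T → fJ J q p ≠ 0) ∧ (X l * (C * X l * C')) * (D * (X l * (C * X l * C')) * D') =
        if l ∈ T then vecMulVec p (beta J q) else 1 := fun l => by
    rcases hX l with e | ⟨b, hb, e⟩ | ⟨b, b', hbb', hb, hb', e⟩
    · refine ⟨1, 1, 1, 1, 0, 0, inSp_one, Matrix.one_mul 1, inSp_one, Matrix.one_mul 1, fun h => ?_, ?_⟩
      · simp [hT, e] at h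
      · simp [hT, e]
    · obtain ⟨c, hc⟩ := hJ.exists_pair hb
      have hc0 : c ≠ 0 := fun h => by rw [h, fJ_zero_right] at hc; exact zero_ne_one hc
      obtain ⟨C, hC, hCb⟩ := hJ.transitive hb hc0
      obtain ⟨C', hCC⟩ := hC.exists_inv hJ
      have hcb : fJ J c b = -1 := by rw [hJ.swap, hc]
      refine ⟨C, C', 1, 1, -b, c, hC, hCC, inSp_one, Matrix.one_mul 1, fun _ => ?_, ?_⟩
      · rw [← neg_one_smul F b, fJ_smul_right, hcb]; simp
      · rw [if_pos (by
          simp only [hT, Finset.mem_filter, Finset.mem_univ, true_and, e]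
          intro h
          have h2 := congrArg (· *ᵥ c) h
          simp only [nilp_mulVec, hc, one_smul, Matrix.one_mulVec] at h2
          rw [h2, hJ.alt] at hc
          exact zero_ne_one hc), e, nilp, hC.conj_vecMulVec hCC, hCb, Matrix.one_mul, Matrix.mul_one,
          vecMulVec_mul_vecMulVec, beta_dot, hc, one_smul, vecMulVec_mul_vecMulVec, beta_dot, hcb]
        ext x y
        simp [vecMulVec_apply]
    · obtain ⟨c, c', h1, h2, h3', h4, h5, hc0, hci⟩ := hJ.exists_opposite_pair hb hb' hbb'
      have hcb : fJ J c b = -1 := by rw [hJ.swap, h1]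
      have hcb' : fJ J c b' = 0 := by rw [hJ.swap, h2, neg_zero]
      -- `c` against `b`: an isotropic pair with product a transvection
      have hb'0 : b' ≠ 0 := fun e => hb' 0 (by rw [e, zero_smul])
      obtain ⟨d, hd1, hd2, hd3⟩ : ∃ d, fJ J b' d = 1 ∧ fJ J b d = 0 ∧ ∀ s : F, b ≠ s • d := by
        refine ⟨c', h3', h4, fun s e => ?_⟩
        rw [e, fJ_smul_left, hJ.swap c' c, h5] at h1
        simp at h1
      have hd0 : d ≠ 0 := fun e => by rw [e, fJ_zero_right] at hd1; exact zero_ne_one hd1
      obtain ⟨C, hC, hCb, hCb'⟩ := hJ.exists_move_pair hb hb' hbb' hd0 hd3 (by rw [hJ.swap, hd2, neg_zero])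
      obtain ⟨C', hCC⟩ := hC.exists_inv hJ
      obtain ⟨D, hD, hDb⟩ := hJ.transitive hb hc0
      obtain ⟨D', hDD⟩ := hD.exists_inv hJ
      refine ⟨C, C', D, D', b, c, hC, hCC, hD, hDD, fun _ => by rw [hcb]; simp, ?_⟩
      have hN : X l * (C * X l * C') = nilp J b := by
        rw [e, hC.conj_wedge hCC, hCb, hCb', wedge, wedge]
        simp only [Matrix.sub_mul, Matrix.mul_sub, vecMulVec_mul_vecMulVec, beta_dot, hd1, hd2, hJ.alt,
          hJ.swap b' b, hbb', neg_zero, zero_smul, one_smul, vecMulVec_zero, sub_zero]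
        rfl
      rw [hN, if_pos (by
        simp only [hT, Finset.mem_filter, Finset.mem_univ, true_and, e]
        intro h
        have h2 := congrArg (· *ᵥ b) h
        simp [wedge, Matrix.sub_mulVec, vecMulVec_mulVec, beta_dot, op_smul_eq_smul, hJ.alt, hJ.swap b' b, hbb'] at h2
        exact hb h2.symm), nilp, hD.conj_vecMulVec hDD, hDb, vecMulVec_mul_vecMulVec, beta_dot, h1, one_smul]
  choose C C' D D' p₀ q₀ hC hCC hD hDD hpq₀ hR using hrow
  have hRS : tens (fun l => if l ∈ T then vecMulVec (p₀ l) (beta J (q₀ l)) else 1) ∈ S := by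
    have h1 := hmul _ hXS _ (hS.conj_tens hC hCC hXS)
    rw [tens_mul, tens_mul, tens_mul] at h1
    have h2 := hmul _ h1 _ (hS.conj_tens hD hDD h1)
    rw [tens_mul, tens_mul, tens_mul] at h2
    rwa [funext hR] at h2
  -- one factor at a time
  have hY : ∀ (E : κ → Matrix (Fin k) (Fin k) F) (a : κ) (p q : Fin k → F), fJ J q p ≠ 0 →
      (∀ l, l ≠ a → ∃ s : F, s ≠ 0 ∧ E l * E l = s • E l) → tens (Function.update E a (vecMulVec p (beta J q))) ∈ S →
      ∀ A, tens (Function.update E a A) ∈ S := by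
    intro E a p q hpq hE hmem
    set 𝒴 : Submodule F (Matrix (Fin k) (Fin k) F) :=
      { carrier := {A | tens (Function.update E a A) ∈ S}
        zero_mem' := by
          show tens (Function.update E a 0) ∈ S
          have : tens (Function.update E a 0) = (0 : TMat F κ k) := by
            ext x y
            rw [tens_apply, Matrix.zero_apply]
            exact Finset.prod_eq_zero (Finset.mem_univ a) (by simp)
          rw [this]
          exact S.zero_mem
        add_mem' := fun {A B} hA hB => by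
          show tens (Function.update E a (A + B)) ∈ S
          have := tens_update_add_smul E a 1 1 A B
          rw [one_smul, one_smul, one_smul, one_smul] at this
          rw [this]
          exact S.add_mem hA hB
        smul_mem' := fun c A hA => by
          show tens (Function.update E a (c • A)) ∈ S
          have := tens_update_add_smul E a c 0 A 0
          rw [zero_smul, add_zero, zero_smul, add_zero] at this
          rw [this]
          exact S.smul_mem c hA } with h𝒴
    have hprod : ∀ A ∈ 𝒴, ∀ B ∈ 𝒴, A * B ∈ 𝒴 := by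
      intro A hA B hB
      choose s hs hEs using hE
      have h1 := hmul _ hA _ hB
      rw [tens_mul, show (fun l => Function.update E a A l * Function.update E a B l) =
        fun l => (if h : l = a then 1 else s l h) • Function.update E a (A * B) l from funext fun l => by
          by_cases hl : l = a
          · subst hl; simp
          · simp [hl, hEs l hl], tens_smul] at h1
      have hne : (∏ l, if h : l = a then 1 else s l h) ≠ 0 := Finset.prod_ne_zero_iff.2 fun l _ => by
        by_cases hl : l = a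
        · simp [hl]
        · simpa [hl] using hs l hl
      have h2 := S.smul_mem (∏ l, if h : l = a then 1 else s l h)⁻¹ h1
      rwa [smul_smul, inv_mul_cancel₀ hne, one_smul] at h2
    have hinv : ∀ (G G' : Matrix (Fin k) (Fin k) F), InSp J G → G * G' = 1 → ∀ A ∈ 𝒴, G * A * G' ∈ 𝒴 := by
      intro G G' hG hGG A hA
      have h1 := hS a G G' hG hGG _ hA
      rw [op_eq_tens, op_eq_tens, tens_mul, tens_mul] at h1
      show tens (Function.update E a (G * A * G')) ∈ S
      convert h1 using 2
      funext l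
      by_cases hl : l = a
      · subst hl; simp
      · simp [hl]
    have hp0 : p ≠ 0 := fun e => hpq (by rw [e, fJ_zero_right])
    have hNp : nilp J p ∈ 𝒴 := by
      have h1 := 𝒴.sub_mem (hinv _ _ (hJ.inSp_transvection 1 p) (hJ.transvection_inv 1 p) _ hmem) hmem
      have e : (1 + (1 : F) • nilp J p) * vecMulVec p (beta J q) * (1 - (1 : F) • nilp J p) - vecMulVec p (beta J q) =
          (-(fJ J q p)) • nilp J p := by
        rw [one_smul, nilp]
        simp only [Matrix.add_mul, Matrix.mul_sub, Matrix.one_mul, Matrix.mul_one, vecMulVec_mul_vecMulVec, beta_dot,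
          hJ.alt, zero_smul, vecMulVec_zero, add_zero]
        ext x y
        simp [vecMulVec_apply]
        try ring
      rw [e] at h1
      have := 𝒴.smul_mem (-(fJ J q p))⁻¹ h1
      rwa [smul_smul, inv_mul_cancel₀ (neg_ne_zero.2 hpq), one_smul] at this
    have hall : ∀ u, nilp J u ∈ 𝒴 := fun u => by
      rcases eq_or_ne u 0 with rfl | hu
      · rw [nilp, zero_vecMulVec]; exact 𝒴.zero_mem
      obtain ⟨G, hG, rfl⟩ := hJ.transitive hp0 hu
      obtain ⟨G', hGG⟩ := hG.exists_inv hJ
      have := hinv G G' hG hGG _ hNp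
      rwa [nilp, hG.conj_vecMulVec hGG] at this
    have hne : ∀ u v, fJ J u v ≠ 0 → vecMulVec u (beta J v) ∈ 𝒴 := fun u v huv => by
      have h1 := 𝒴.smul_mem (fJ J u v)⁻¹ (hprod _ (hall u) _ (hall v))
      rwa [nilp, nilp, vecMulVec_mul_vecMulVec, beta_dot, vecMulVec_smul, smul_smul, inv_mul_cancel₀ huv,
        one_smul] at h1
    have hall2 : ∀ u v, vecMulVec u (beta J v) ∈ 𝒴 := fun u v => by
      by_cases huv : fJ J u v = 0
      · rcases eq_or_ne u 0 with rfl | hu
        · rw [zero_vecMulVec]; exact 𝒴.zero_mem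
        obtain ⟨x, hx⟩ := hJ.exists_pair hu
        have h1 := 𝒴.sub_mem (hne u (v + x) (by rw [fJ_add_right, huv, hx, zero_add]; exact one_ne_zero))
          (hne u x (by rw [hx]; exact one_ne_zero))
        rwa [beta, Matrix.add_vecMul, vecMulVec_add, ← beta, ← beta, add_sub_cancel_right] at h1
      · exact hne u v huv
    intro A
    show A ∈ 𝒴
    rw [Matrix.matrix_eq_sum_single A]
    refine 𝒴.sum_mem fun x _ => 𝒴.sum_mem fun y _ => ?_
    have e : Matrix.single x y (A x y) = A x y • vecMulVec (Pi.single x 1) (beta J (Pi.single y 1 ᵥ* J⁻¹)) := by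
      rw [beta, Matrix.vecMul_vecMul, Matrix.nonsing_inv_mul J hJ.unit, Matrix.vecMul_one]
      ext r s
      simp [Matrix.single_apply, vecMulVec_apply, Pi.single_apply, eq_comm, ite_and]
      by_cases h1 : x = r <;> by_cases h2 : y = s <;> simp [h1, h2]
    rw [e]
    exact 𝒴.smul_mem _ (hall2 _ _)
  -- every choice of rank one idempotents
  have hidem : ∀ s ⊆ T, ∀ p q : κ → Fin k → F, (∀ l ∈ T, fJ J (q l) (p l) ≠ 0) →
      (∀ l ∈ T, l ∉ s → p l = p₀ l ∧ q l = q₀ l) →
      tens (fun l => if l ∈ T then vecMulVec (p l) (beta J (q l)) else 1) ∈ S := by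
    intro s hs
    induction s using Finset.induction with
    | empty =>
      intro p q _ h
      convert hRS using 2
      funext l
      by_cases hl : l ∈ T
      · simp [hl, (h l hl (Finset.notMem_empty l)).1, (h l hl (Finset.notMem_empty l)).2]
      · simp [hl]
    | @insert a s ha ih =>
      intro p q hpq hout
      have haT : a ∈ T := hs (Finset.mem_insert_self a s)
      have h1 := ih (fun l hl => hs (Finset.mem_insert_of_mem hl)) (Function.update p a (p₀ a))
        (Function.update q a (q₀ a)) (fun l hl => by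
          by_cases hla : l = a
          · subst hla; simpa using hpq₀ l hl
          · simpa [hla] using hpq l hl) (fun l hl hls => by
          by_cases hla : l = a
          · subst hla; simp
          · simpa [hla] using hout l hl (fun h => by
              rcases Finset.mem_insert.1 h with h | h
              · exact hla h
              · exact hls h))
      set E : κ → Matrix (Fin k) (Fin k) F := fun l => if l ∈ T then vecMulVec (p l) (beta J (q l)) else 1 with hE
      have h2 := hY E a (p₀ a) (q₀ a) (hpq₀ a haT) (fun l hla => by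
        by_cases hl : l ∈ T
        · refine ⟨fJ J (q l) (p l), hpq l hl, ?_⟩
          simp only [hE, if_pos hl, vecMulVec_mul_vecMulVec, beta_dot, vecMulVec_smul]
        · exact ⟨1, one_ne_zero, by simp [hE, hl]⟩) (by
        convert h1 using 2
        funext l
        by_cases hla : l = a
        · subst hla; simp [haT]
        · simp [hla, hE]) (vecMulVec (p a) (beta J (q a)))
      convert h2 using 2
      funext l
      by_cases hla : l = a
      · subst hla; simp [haT, hE]
      · simp [hla, hE]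
  -- arbitrary matrices
  have harb : ∀ s ⊆ T, ∀ (A : κ → Matrix (Fin k) (Fin k) F) (p q : κ → Fin k → F),
      (∀ l ∈ T, fJ J (q l) (p l) ≠ 0) →
      tens (fun l => if l ∈ s then A l else if l ∈ T then vecMulVec (p l) (beta J (q l)) else 1) ∈ S := by
    intro s hs
    induction s using Finset.induction with
    | empty => intro A p q hpq; simpa using hidem T subset_rfl p q hpq (fun l hl h => absurd hl h)
    | @insert a s ha ih =>
      intro A p q hpq
      have haT : a ∈ T := hs (Finset.mem_insert_self a s)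
      set E : κ → Matrix (Fin k) (Fin k) F :=
        fun l => if l ∈ s then A l else if l ∈ T then vecMulVec (p l) (beta J (q l)) else 1 with hE
      have hsub : ∀ u v, fJ J u v ≠ 0 → tens (Function.update E a (vecMulVec v (beta J u))) ∈ S := by
        intro u v huv
        have h1 := ih (fun l hl => hs (Finset.mem_insert_of_mem hl)) A (Function.update p a v)
          (Function.update q a u) (fun l hl => by
            by_cases hla : l = a
            · subst hla; simpa using huv
            · simpa [hla] using hpq l hl)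
        convert h1 using 2
        funext l
        by_cases hla : l = a
        · subst hla; simp [ha, haT]
        · simp [hla, hE]
      have hall : ∀ u v, tens (Function.update E a (vecMulVec v (beta J u))) ∈ S := fun u v => by
        by_cases huv : fJ J u v = 0
        · rcases eq_or_ne v 0 with rfl | hv
          · have : tens (Function.update E a (vecMulVec 0 (beta J u))) = (0 : TMat F κ k) := by
              ext x y
              rw [tens_apply, Matrix.zero_apply]
              exact Finset.prod_eq_zero (Finset.mem_univ a) (by simp)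
            rw [this]
            exact S.zero_mem
          obtain ⟨x, hx⟩ := hJ.exists_pair hv
          have hxv : fJ J x v ≠ 0 := by rw [hJ.swap, hx]; simp
          have h1 := S.sub_mem (hsub (u + x) v (by rw [fJ_add_left, huv, zero_add]; exact hxv)) (hsub x v hxv)
          have e := tens_update_add_smul E a 1 (-1) (vecMulVec v (beta J (u + x))) (vecMulVec v (beta J x))
          rw [one_smul, one_smul, neg_one_smul, neg_one_smul, ← sub_eq_add_neg, ← sub_eq_add_neg] at e
          rw [← e] at h1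
          rwa [beta, Matrix.add_vecMul, vecMulVec_add, ← beta, ← beta, add_sub_cancel_right] at h1
        · exact hsub u v huv
      have hfin : ∀ B, tens (Function.update E a B) ∈ S := fun B => by
        rw [Matrix.matrix_eq_sum_single B, tens_update_sum']
        refine S.sum_mem fun x _ => ?_
        rw [tens_update_sum']
        refine S.sum_mem fun y _ => ?_
        have e : Matrix.single x y (B x y) = B x y • vecMulVec (Pi.single x 1) (beta J (Pi.single y 1 ᵥ* J⁻¹)) := by
          rw [beta, Matrix.vecMul_vecMul, Matrix.nonsing_inv_mul J hJ.unit, Matrix.vecMul_one]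
          ext r t
          simp [Matrix.single_apply, vecMulVec_apply, Pi.single_apply, eq_comm, ite_and]
          by_cases h1 : x = r <;> by_cases h2 : y = t <;> simp [h1, h2]
        have e2 := tens_update_add_smul E a (B x y) 0 (vecMulVec (Pi.single x 1) (beta J (Pi.single y 1 ᵥ* J⁻¹))) 0
        rw [zero_smul, add_zero, zero_smul, add_zero] at e2
        rw [e, e2]
        exact S.smul_mem _ (hall _ _)
      convert hfin (A a) using 2
      funext l
      by_cases hla : l = a
      · subst hla; simp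
      · simp [hla, hE]
  refine ⟨j, fun A => ?_⟩
  have hjT : j ∈ T := by simp [hT, hj]
  rw [op_eq_tens]
  convert harb T subset_rfl (fun l => if l = j then A else 1) p₀ q₀ hpq₀ using 2
  funext l
  by_cases hl : l = j
  · subst hl; simp [hjT]
  · simp [hl]
    try exact fun h h' => absurd h' h
where
  tens_update_sum' {α : Type} {s : Finset α} {C : κ → Matrix (Fin k) (Fin k) F} {l : κ}
      {X : α → Matrix (Fin k) (Fin k) F} :
      tens (Function.update C l (∑ a ∈ s, X a)) = ∑ a ∈ s, tens (Function.update C l (X a)) := by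
    have e : ∀ (Y : Matrix (Fin k) (Fin k) F) x y, tens (Function.update C l Y) x y =
        Y (x l) (y l) * ∏ m ∈ Finset.univ.erase l, C m (x m) (y m) := fun Y x y => by
      rw [tens_apply, ← Finset.mul_prod_erase Finset.univ _ (Finset.mem_univ l), Function.update_self]
      congr 1
      exact Finset.prod_congr rfl fun m hm => by rw [Function.update_of_ne (Finset.ne_of_mem_erase hm)]
    ext x y
    simp only [Matrix.sum_apply, e, Finset.sum_mul]

end CfsgLib.Classical.WreathMaxSp
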