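import Cfsg.Agent.Lib.Classical.WreathMaxSp.Full

/-!
# A group containing the factor groups, not inside the stabiliser: a root element with non-scalar factor
-/

set_option autoImplicit false
set_option linter.unusedSectionVars false

open Matrix Module CfsgLib.Classical.WreathMax
open scoped Kronecker

namespace CfsgLib.Classical.WreathMaxSp

variable {F : Type*} [Field F] {κ : Type} [Fintype κ] [DecidableEq κ] {k : ℕ}
  {J : Matrix (Fin k) (Fin k) F}

/-- A matrix of the other factors as a matrix of all factors. -/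
def embM (i : κ) : TMat F (Rest i) k →* TMat F κ k where
  toFun W := (split i).symm ((1 : Matrix (Fin k) (Fin k) F) ⊗ₖ W)
  map_one' := by rw [Matrix.one_kronecker_one, map_one]
  map_mul' W W' := by rw [← map_mul, ← Matrix.mul_kronecker_mul, Matrix.mul_one]

theorem split_embM (i : κ) (W : TMat F (Rest i) k) : split i (embM i W) = (1 : Matrix (Fin k) (Fin k) F) ⊗ₖ W :=
  AlgEquiv.apply_symm_apply _ _

theorem split_op_mul_embM (i : κ) (b : Fin k → F) (D : TMat F (Rest i) k) :
    split i (op i (nilp J b) * embM i D) = root J b D := by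
  rw [map_mul, split_op_self, split_embM, ← Matrix.mul_kronecker_mul, Matrix.one_mul, Matrix.mul_one, root,
    rect_eq_kron]
  rfl

theorem embM_op {i : κ} (l : Rest i) (A : Matrix (Fin k) (Fin k) F) : embM i (op l A) = op l.1 A :=
  (split i).injective (by rw [split_embM, split_op_other l.2])

theorem embM_add (i : κ) (W W' : TMat F (Rest i) k) : embM i (W + W') = embM i W + embM i W' :=
  (split i).injective (by rw [split_embM, map_add, split_embM, split_embM, Matrix.kronecker_add])

theorem embM_comm (i : κ) (W : TMat F (Rest i) k) (A : Matrix (Fin k) (Fin k) F) :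
    op i A * embM i W = embM i W * op i A :=
  (split i).injective (by
    rw [map_mul, map_mul, split_op_self, split_embM, ← Matrix.mul_kronecker_mul, ← Matrix.mul_kronecker_mul,
      Matrix.one_mul, Matrix.mul_one, Matrix.one_mul, Matrix.mul_one])

theorem eq_embM_of_comm (i : κ) {Y : TMat F κ k} (h : ∀ A, op i A * Y = Y * op i A) :
    ∃ W, Y = embM i W := by
  rcases Nat.eq_zero_or_pos k with rfl | hk
  · haveI : IsEmpty (Fin 0 × (Rest i → Fin 0)) := inferInstance
    exact ⟨0, (split i).injective (Subsingleton.elim _ _)⟩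
  set o : Fin k := ⟨0, hk⟩
  refine ⟨Matrix.of fun u v => split i Y (o, u) (o, v), (split i).injective ?_⟩
  have key : ∀ A, (A ⊗ₖ (1 : TMat F (Rest i) k)) * split i Y = split i Y * (A ⊗ₖ (1 : TMat F (Rest i) k)) :=
    fun A => by rw [← split_op_self, ← map_mul, h, map_mul]
  ext ⟨a, u⟩ ⟨c, v⟩
  have h1 := congrFun (congrFun (key (Matrix.single o a 1)) (o, u)) (c, v)
  simp only [Matrix.mul_apply, Fintype.sum_prod_type, Matrix.kroneckerMap_apply, Matrix.single_apply, Matrix.one_apply,
    mul_ite, mul_one, mul_zero, ite_mul, one_mul, zero_mul, Finset.sum_ite_eq, Finset.sum_ite_eq', Finset.mem_univ,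
    if_true, ite_and, Finset.sum_ite_irrel, Finset.sum_const_zero] at h1
  rw [split_embM, Matrix.kroneckerMap_apply, Matrix.one_apply, Matrix.of_apply, h1]
  by_cases hac : a = c <;> simp [hac]

theorem split_gramT (i : κ) : split i (gramT κ J) = gram J (gramT (Rest i) J) := by
  rw [gramT, split_tens]
  rfl

theorem split_transpose (i : κ) (X : TMat F κ k) : split i Xᵀ = (split i X)ᵀ := rfl

/-- All the root elements of a factor with a fixed factor on the others. -/
def LongAt (J : Matrix (Fin k) (Fin k) F) (M : Subgroup (GL (κ → Fin k) F)) (i : κ) (D : TMat F (Rest i) k) : Prop :=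
  ∀ b, InM M (op i (nilp J b) * embM i D)

/-- The change to split coordinates. -/
def splitHom (i : κ) : TMat F κ k →* Matrix (Fin k × (Rest i → Fin k)) (Fin k × (Rest i → Fin k)) F where
  toFun := split i
  map_one' := map_one _
  map_mul' := map_mul _

/-- The group in split coordinates. -/
def splitGroup (M : Subgroup (GL (κ → Fin k) F)) (i : κ) : Subgroup (GL (Fin k × (Rest i → Fin k)) F) :=
  M.map (Units.map (splitHom i))

variable {M : Subgroup (GL (κ → Fin k) F)}

theorem mem_splitGroup {i : κ} {g : GL (κ → Fin k) F} (hg : g ∈ M) :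
    ∃ g' ∈ splitGroup M i, g'.1 = split i g.1 :=
  ⟨_, Subgroup.mem_map_of_mem _ hg, rfl⟩

theorem exists_of_mem_splitGroup {i : κ} {g' : GL (Fin k × (Rest i → Fin k)) F} (hg' : g' ∈ splitGroup M i) :
    ∃ g ∈ M, split i g.1 = g'.1 := by
  obtain ⟨g, hg, e⟩ := Subgroup.mem_map.1 hg'
  exact ⟨g, hg, by rw [← e]; rfl⟩

theorem inM_splitGroup {i : κ} {A : TMat F κ k} : InM (splitGroup M i) (split i A) ↔ InM M A := by
  constructor
  · rintro ⟨g', hg', e⟩
    obtain ⟨g, hg, e'⟩ := exists_of_mem_splitGroup hg'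
    exact ⟨g, hg, (split i).injective (by rw [e', e, map_add, map_one])⟩
  · rintro ⟨g, hg, e⟩
    obtain ⟨g', hg', e'⟩ := mem_splitGroup (i := i) hg
    exact ⟨g', hg', by rw [e', e, map_add, map_one]⟩

theorem long_splitGroup {i : κ} {D : TMat F (Rest i) k} :
    Long J (splitGroup M i) D ↔ LongAt J M i D :=
  forall_congr' fun b => by rw [← split_op_mul_embM, inM_splitGroup]

theorem TOver.over_split (hM : TOver J M) (i : κ) : Over J (gramT (Rest i) J) (splitGroup M i) := by
  refine ⟨hM.jGram, gramT_formed hM.jGram, fun g' hg' => ?_, fun C hC => ?_⟩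
  · obtain ⟨g, hg, e⟩ := exists_of_mem_splitGroup hg'
    rw [← e, ← split_gramT, ← split_transpose, ← map_mul, ← map_mul, hM.iso g hg]
  · obtain ⟨g, hg, e⟩ := hM.op_mem i C hC
    obtain ⟨g', hg', e'⟩ := mem_splitGroup (i := i) hg
    exact ⟨g', hg', by rw [e', e, split_op_self]⟩

theorem adjH_op (hJ : SkewGram J) {C C' : Matrix (Fin k) (Fin k) F} (hC : InSp J C) (h : C * C' = 1) (l : κ) :
    adjH (gramT κ J) (op l C) = op l C' := by
  rw [op_eq_tens, op_eq_tens]
  refine adjH_tens hJ fun m => ?_
  by_cases hm : m = l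
  · subst hm
    rw [Pi.mulSingle_eq_same, Pi.mulSingle_eq_same]
    conv_rhs => rw [← hC]
    rw [Matrix.mul_assoc _ C, h, Matrix.mul_one]
  · rw [Pi.mulSingle_eq_of_ne hm, Pi.mulSingle_eq_of_ne hm, Matrix.transpose_one, Matrix.one_mul, Matrix.mul_one]

/-- The factors of short elements, as an invariant space. -/
theorem TOver.short_conj (hM : TOver J M) (h3 : 3 ≤ k) {i : κ} {D : TMat F (Rest i) k}
    (hD : Short J (gramT (Rest i) J) (splitGroup M i) D) {l : Rest i} {C C' : Matrix (Fin k) (Fin k) F}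
    (hC : InSp J C) (h : C * C' = 1) :
    Short J (gramT (Rest i) J) (splitGroup M i) (op l C * D * op l C') := by
  have hO := hM.over_split i
  obtain ⟨g, hg, e⟩ := hM.op_mem l.1 C hC
  obtain ⟨g', hg', e'⟩ := mem_splitGroup (i := i) hg
  rw [e, split_op_other l.2] at e'
  set Y : TMat F (Rest i) k := op l C
  have hYY : (op l C' : TMat F (Rest i) k) * Y = 1 := by
    rw [← map_mul, mul_eq_one_comm.1 h, map_one]
  set b : Fin k → F := Pi.single ⟨0, by omega⟩ 1
  have hb : b ≠ 0 := by simp [b]
  obtain ⟨w, hbw, hw⟩ := hM.jGram.exists_orth h3 hb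
  have hconj : ∀ (p q : Fin k → F) (Z : TMat F (Rest i) k), g'.1 * rect J p q Z =
      rect J p q (Y * Z * op l C') * g'.1 := fun p q Z => by
    rw [e', rect_eq_kron, rect_eq_kron, ← Matrix.mul_kronecker_mul, ← Matrix.mul_kronecker_mul, Matrix.one_mul,
      Matrix.mul_one, Matrix.mul_assoc (Y * Z), hYY, Matrix.mul_one]
  refine hO.short_of_one hbw hb hw (E := Y * adjH (gramT (Rest i) J) D * op l C') ((hD b w hbw hb hw).conj hg' ?_)
  rw [link, link, Matrix.mul_add, Matrix.add_mul, hconj, hconj]

theorem TOver.hskew (hM : TOver J M) (h3 : 3 ≤ k) (i : κ) :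
    ∀ D, Short J (gramT (Rest i) J) (splitGroup M i) D → ¬ IsScalarMat D →
      IsScalarMat (D + adjH (gramT (Rest i) J) D) →
      ∃ D₁ D₂, Short J (gramT (Rest i) J) (splitGroup M i) D₁ ∧ Short J (gramT (Rest i) J) (splitGroup M i) D₂ ∧
        ¬ IsScalarMat (D₁ * adjH (gramT (Rest i) J) D₂ + D₂ * adjH (gramT (Rest i) J) D₁) := by
  intro D hD hns hDs
  have hO := hM.over_split i
  have hH := gramT_formed (κ := Rest i) hM.jGram
  let S : Submodule F (TMat F (Rest i) k) :=
    { carrier := {Z | Short J (gramT (Rest i) J) (splitGroup M i) Z ∧ IsScalarMat (Z + adjH (gramT (Rest i) J) Z)}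
      zero_mem' := ⟨by simpa using hO.short_smul 0 hD, 0, by simp [adjH]⟩
      add_mem' := fun {Y Z} hY hZ => ⟨hO.short_add hY.1 hZ.1, by
        obtain ⟨c, hc⟩ := hY.2
        obtain ⟨d, hd⟩ := hZ.2
        exact ⟨c + d, by rw [adjH_add, add_add_add_comm, hc, hd, add_smul]⟩⟩
      smul_mem' := fun c Z hZ => ⟨hO.short_smul c hZ.1, by
        obtain ⟨d, hd⟩ := hZ.2
        exact ⟨c * d, by rw [adjH_smul, ← smul_add, hd, smul_smul]⟩⟩ }
  have hS : SpInv J S := fun l C C' hC h Z hZ => by
    refine ⟨hM.short_conj h3 hZ.1 hC h, ?_⟩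
    obtain ⟨c, hc⟩ := hZ.2
    have hC'' : adjH (gramT (Rest i) J) (op l C') = op l C := by
      rw [← adjH_op hM.jGram hC h l, hH.adjH_adjH]
    refine ⟨c, ?_⟩
    rw [hH.adjH_mul, hH.adjH_mul, hC'', adjH_op hM.jGram hC h l, ← Matrix.mul_assoc, ← Matrix.add_mul,
      ← Matrix.mul_add, hc, Matrix.mul_smul, Matrix.mul_one, Matrix.smul_mul, ← map_mul, h, map_one]
  obtain ⟨D₁, h₁, D₂, h₂, hns'⟩ := hS.exists_sym_nonscalar hM.jGram h3 (fun Z hZ => hZ.2) (Z := D) ⟨hD, hDs⟩ hns
  exact ⟨D₁, D₂, h₁.1, h₂.1, hns'⟩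

/-- Moving one root to another by an element of the stabiliser. -/
theorem exists_mover (hJ : SkewGram J) (i j : κ) {b x : Fin k → F} (hb : b ≠ 0) (hx : x ≠ 0) :
    ∃ w : GL (κ → Fin k) F, w ∈ wreathT F κ k ∧ w.1ᵀ * gramT κ J * w.1 = gramT κ J ∧
      w.1 * op i (nilp J b) = op j (nilp J x) * w.1 ∧
      ∀ l C, InSp J C → ∃ l' C', InSp J C' ∧ w.1 * op l C = op l' C' * w.1 := by
  obtain ⟨G, hG, hGb⟩ := hJ.transitive hb hx
  obtain ⟨G', hGG⟩ := hG.exists_inv hJ
  have hop : (op i G : TMat F κ k) * op i G' = 1 := by rw [← map_mul, hGG, map_one]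
  let u : GL (κ → Fin k) F := ⟨op i G, op i G', hop, by rw [← map_mul, mul_eq_one_comm.1 hGG, map_one]⟩
  set σ := Equiv.swap i j
  refine ⟨permU σ * u, mul_mem (permU_mem σ) (op_mem_wreathT i (A := G) rfl), ?_, ?_, fun l C hC => ?_⟩
  · have hperm : (permM σ : TMat F κ k)ᵀ * gramT κ J * permM σ = gramT κ J := by
      have ht : (permM σ : TMat F κ k)ᵀ = permM σ⁻¹ := by
        ext x y
        rw [Matrix.transpose_apply, permM_apply, permM_apply]
        congr 1
        exact propext ⟨fun h => funext fun l => by simp [h], fun h => funext fun l => by simp [h]⟩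
      have hc : gramT κ J * permM σ = (permM σ : TMat F κ k) * gramT κ J := by
        rw [gramT, permM_mul_tens]
      rw [ht, Matrix.mul_assoc, hc, ← Matrix.mul_assoc, ← map_mul, inv_mul_cancel, map_one, Matrix.one_mul]
    rw [Units.val_mul, permU_coe, Matrix.transpose_mul]
    show (op i G)ᵀ * (permM σ)ᵀ * gramT κ J * (permM σ * op i G) = gramT κ J
    rw [Matrix.mul_assoc (op i G)ᵀ, ← Matrix.mul_assoc _ (permM σ), Matrix.mul_assoc (op i G)ᵀ, hperm,
      op_isometry hG]
  · rw [Units.val_mul, permU_coe]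
    show permM σ * op i G * op i (nilp J b) = _ * (permM σ * op i G)
    have hGN : G * nilp J b = nilp J x * G := by
      have := hG.conj_vecMulVec hGG b b
      rw [hGb] at this
      rw [nilp, nilp, ← this, Matrix.mul_assoc _ G' G, mul_eq_one_comm.1 hGG, Matrix.mul_one]
    rw [Matrix.mul_assoc, ← map_mul, hGN, map_mul, ← Matrix.mul_assoc, permM_mul_op, Matrix.mul_assoc,
      Equiv.swap_apply_left]
  · rw [Units.val_mul, permU_coe]
    show ∃ l' C', InSp J C' ∧ permM σ * op i G * op l C = op l' C' * (permM σ * op i G)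
    by_cases hl : l = i
    · subst hl
      refine ⟨σ l, G * C * G', ?_, ?_⟩
      · have hG' : InSp J G' := inSp_iff.2 fun p q => by
          conv_lhs => rw [← inSp_iff.1 hG]
          rw [Matrix.mulVec_mulVec, Matrix.mulVec_mulVec, hGG, Matrix.one_mulVec, Matrix.one_mulVec]
        exact (hG.mul hC).mul hG'
      · rw [Matrix.mul_assoc, ← map_mul, ← Matrix.mul_assoc (op (σ l) _), ← permM_mul_op, Matrix.mul_assoc, ← map_mul,
          Matrix.mul_assoc _ G' G, mul_eq_one_comm.1 hGG, Matrix.mul_one]
    · refine ⟨σ l, C, hC, ?_⟩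
      rw [Matrix.mul_assoc, op_comm (Ne.symm hl), ← Matrix.mul_assoc, permM_mul_op, Matrix.mul_assoc]

/-- The conjugation property of an element. -/
def ConjIn (J : Matrix (Fin k) (Fin k) F) (M : Subgroup (GL (κ → Fin k) F)) (g : GL (κ → Fin k) F) : Prop :=
  ∀ (l : κ) (C : Matrix (Fin k) (Fin k) F), InSp J C → ∃ m ∈ M, m.1 * g.1 = g.1 * op l C

/-- The group on the other factors. -/
def restGroup (M : Subgroup (GL (κ → Fin k) F)) (i : κ) : Subgroup (GL (Rest i → Fin k) F) :=
  M.comap (Units.map (embM i))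

theorem TOver.over_rest (hM : TOver J M) (hk : 0 < k) (i : κ) : TOver J (restGroup M i) := by
  refine ⟨hM.jGram, fun Y hY => ?_, fun l C hC => ?_⟩
  · have h := congrArg (split i) (hM.iso _ (Subgroup.mem_comap.1 hY))
    rw [map_mul, map_mul, split_transpose, split_gramT] at h
    rw [show ((Units.map (embM i) Y : GL (κ → Fin k) F) : TMat F κ k) = embM i Y.1 from rfl, split_embM, gram,
      ← Matrix.kroneckerMap_transpose, Matrix.transpose_one, ← Matrix.mul_kronecker_mul, ← Matrix.mul_kronecker_mul,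
      Matrix.one_mul, Matrix.mul_one] at h
    obtain ⟨a, c, hac⟩ : ∃ a c, J a c ≠ 0 := by
      by_contra hno
      push Not at hno
      have hne := hM.jGram.unit.ne_zero
      rw [show J = 0 from Matrix.ext hno] at hne
      haveI : Nonempty (Fin k) := ⟨⟨0, hk⟩⟩
      exact hne Matrix.det_zero
    ext u v
    have := congrFun (congrFun h (a, u)) (c, v)
    rw [Matrix.kroneckerMap_apply, Matrix.kroneckerMap_apply] at this
    exact mul_left_cancel₀ hac this
  · obtain ⟨C', hCC⟩ := hC.exists_inv hM.jGram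
    refine ⟨⟨op l C, op l C', by rw [← map_mul, hCC, map_one], by rw [← map_mul, mul_eq_one_comm.1 hCC, map_one]⟩,
      Subgroup.mem_comap.2 ?_, rfl⟩
    obtain ⟨g, hg, e⟩ := hM.op_mem l.1 C hC
    convert hg using 1
    apply Units.ext
    rw [e, ← embM_op]
    rfl

theorem embU_mem_wreathT {i : κ} {A : GL (Rest i → Fin k) F} (hA : A ∈ wreathT F (Rest i) k) :
    Units.map (embM i) A ∈ wreathT F κ k := by
  obtain ⟨σ, D, rfl⟩ := hA
  refine ⟨Equiv.Perm.ofSubtype σ, fun l => if h : l ≠ i then D ⟨l, h⟩ else 1, Units.ext ?_⟩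
  show embM i (tensU D * permU σ).1 = _
  rw [Units.val_mul, Units.val_mul, map_mul, tensU_coe, tensU_coe, permU_coe, permU_coe]
  congr 1
  · refine (split i).injective ?_
    rw [split_embM, split_tens]
    congr 1
    · simp
    · congr 1
      funext l
      simp [l.2]
  · refine (split i).injective ?_
    rw [split_embM]
    ext ⟨a, u⟩ ⟨c, v⟩
    rw [split_apply, permM_apply, Matrix.kroneckerMap_apply, permM_apply, Matrix.one_apply]
    have hσi : Equiv.Perm.ofSubtype σ i = i :=
      Equiv.Perm.ofSubtype_apply_of_not_mem σ (by simp)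
    have hiff : ((Equiv.funSplitAt i (Fin k)).symm (c, v) =
        (Equiv.funSplitAt i (Fin k)).symm (a, u) ∘ Equiv.Perm.ofSubtype σ) ↔ a = c ∧ v = u ∘ σ := by
      constructor
      · intro h
        refine ⟨?_, funext fun l => ?_⟩
        · have := congrFun h i
          simpa [hσi, Equiv.funSplitAt, Equiv.piSplitAt] using this.symm
        · have := congrFun h l.1
          rw [Function.comp_apply, Equiv.Perm.ofSubtype_apply_coe] at this
          simpa [Equiv.funSplitAt, Equiv.piSplitAt, l.2, (σ l).2] using this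
      · rintro ⟨rfl, rfl⟩
        funext l
        by_cases hl : l = i
        · subst hl; simp [hσi, Equiv.funSplitAt, Equiv.piSplitAt]
        · rw [Function.comp_apply, show Equiv.Perm.ofSubtype σ l = (σ ⟨l, hl⟩ : Rest i).1 from
            Equiv.Perm.ofSubtype_apply_coe σ ⟨l, hl⟩]
          simp [Equiv.funSplitAt, Equiv.piSplitAt, hl, (σ ⟨l, hl⟩).2]
    simp only [hiff, ite_and, ite_mul, one_mul, zero_mul]

/-- An element conjugating the factor groups into `M` is in the stabiliser, or `M` has a root element with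
non-scalar factor. -/
theorem mem_wreathT_or_long [Fintype F] (hk : 2 ≤ k) (hsize : 3 ≤ k ∨ 4 ≤ Fintype.card F) :
    ∀ (n : ℕ) (κ : Type) [Fintype κ] [DecidableEq κ] [Nonempty κ], Fintype.card κ = n →
      ∀ (M : Subgroup (GL (κ → Fin k) F)), TOver J M → ∀ (g : GL (κ → Fin k) F) (ν : F), ν ≠ 0 →
        g.1ᵀ * gramT κ J * g.1 = ν • gramT κ J → ConjIn J M g →
          g ∈ wreathT F κ k ∨ ∃ (i : κ) (D : TMat F (Rest i) k), ¬ IsScalarMat D ∧ LongAt J M i D := by
  intro n
  induction n using Nat.strong_induction_on with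
  | _ n ih =>
  intro κ _ _ _ hn M hM g ν hν hsim hconj
  classical
  have hJ := hM.jGram
  have hsize' : 3 ≤ k ∨ ∃ a : F, a ≠ 0 ∧ a * a ≠ 1 := hsize.imp_right fun h4 => by
    obtain ⟨a, ha⟩ : ∃ a : F, a ∉ ({0, 1, -1} : Finset F) := by
      by_contra hc
      push Not at hc
      have h1 : Fintype.card F ≤ ({0, 1, -1} : Finset F).card :=
        Finset.card_le_card (s := Finset.univ) fun x _ => hc x
      have h2 : ({0, 1, -1} : Finset F).card ≤ 3 :=
        le_trans (Finset.card_insert_le _ _) (Nat.succ_le_succ (le_trans (Finset.card_insert_le _ _) (by simp)))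
      omega
    simp only [Finset.mem_insert, Finset.mem_singleton, not_or] at ha
    refine ⟨a, ha.1, fun e => ?_⟩
    rcases mul_self_eq_one_iff.1 e with h | h
    · exact ha.2.1 h
    · exact ha.2.2 h
  by_contra hcon
  push Not at hcon
  obtain ⟨hgT, hno⟩ := hcon
  -- one fused pair
  have step : ∀ (h : GL (κ → Fin k) F) (νh : F), νh ≠ 0 → h.1ᵀ * gramT κ J * h.1 = νh • gramT κ J →
      ConjIn J M h → h ∉ wreathT F κ k → ∀ (i j : κ) (b x : Fin k → F) (μ : F), b ≠ 0 → x ≠ 0 → μ ≠ 0 →
        h.1 * op j (nilp J x) = μ • (op i (nilp J b) * h.1) → False := by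
    intro h νh hνh hsimh hconjh hhT i j b x μ hb hx hμ hcomm
    obtain ⟨w, hwT, hwiso, hw, hwop⟩ := exists_mover hJ i j hb hx
    set g₀ := h * w with hg₀
    have hg₀T : g₀ ∉ wreathT F κ k := fun hc => hhT (by
      simpa [hg₀] using mul_mem hc (inv_mem hwT))
    have hg₀c : g₀.1 * op i (nilp J b) = μ • (op i (nilp J b) * g₀.1) := by
      rw [hg₀, Units.val_mul, Matrix.mul_assoc, hw, ← Matrix.mul_assoc, hcomm, Matrix.smul_mul, Matrix.mul_assoc]
    have hg₀sim : g₀.1ᵀ * gramT κ J * g₀.1 = νh • gramT κ J := by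
      rw [hg₀, Units.val_mul, Matrix.transpose_mul,
        show w.1ᵀ * h.1ᵀ * gramT κ J * (h.1 * w.1) = w.1ᵀ * (h.1ᵀ * gramT κ J * h.1) * w.1 by
          simp only [Matrix.mul_assoc], hsimh, Matrix.mul_smul, Matrix.smul_mul, hwiso]
    have hg₀conj : ConjIn J M g₀ := fun l C hC => by
      obtain ⟨l', C', hC', e⟩ := hwop l C hC
      obtain ⟨m, hm, hme⟩ := hconjh l' C' hC'
      exact ⟨m, hm, by rw [hg₀, Units.val_mul, ← Matrix.mul_assoc, hme, Matrix.mul_assoc h.1, ← e, Matrix.mul_assoc]⟩
    have hO := hM.over_split i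
    set g' : GL (Fin k × (Rest i → Fin k)) F :=
      Units.map (splitHom i) g₀
    have e0 : g'.1 = split i g₀.1 := rfl
    rcases hO.levi_or_long hk hsize' (fun h3 => hM.hskew h3 i) (g := g') hνh hμ
      (by rw [e0, ← split_gramT, ← split_transpose, ← map_mul, ← map_mul, hg₀sim, map_smul]) hb
      (by rw [e0, ← split_op_nilp, ← map_mul, hg₀c, map_smul, map_mul])
      (fun C hC => by
        obtain ⟨m, hm, hme⟩ := hg₀conj i C hC
        obtain ⟨m', hm', e⟩ := mem_splitGroup (i := i) hm
        exact ⟨m', hm', by rw [e, e0, ← map_mul, hme, map_mul, split_op_self]⟩)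
      with ⟨D, hD, hns⟩ | ⟨C, A, hCA⟩
    · exact hno i D hns (long_splitGroup.1 hD)
    · have hdet : C.det ≠ 0 ∧ A.det ≠ 0 := by
        have hu : IsUnit g'.1.det := (Matrix.isUnit_iff_isUnit_det _).1 g'.isUnit
        rw [hCA, Matrix.det_kronecker] at hu
        obtain ⟨h1, h2⟩ := IsUnit.mul_iff.1 hu
        have hcard : 0 < Fintype.card (Rest i → Fin k) := by
          haveI : Nonempty (Fin k) := ⟨⟨0, by omega⟩⟩
          exact Fintype.card_pos
        refine ⟨((isUnit_pow_iff hcard.ne').1 h1).ne_zero, ((isUnit_pow_iff ?_).1 h2).ne_zero⟩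
        simp only [Fintype.card_fin]
        omega
      have hg₀eq : g₀.1 = op i C * embM i A := (split i).injective (by
        rw [← e0, hCA, map_mul, split_op_self, split_embM, ← Matrix.mul_kronecker_mul, Matrix.mul_one, Matrix.one_mul])
      rcases isEmpty_or_nonempty (Rest i) with hR | hR
      · haveI : Unique (Rest i → Fin k) := Pi.uniqueOfIsEmpty _
        refine hg₀T (op_mem_wreathT i (A := A default default • C) ?_)
        rw [hg₀eq]
        have hA : A = A default default • 1 := by
          ext u v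
          rw [Unique.eq_default u, Unique.eq_default v, Matrix.smul_apply, Matrix.one_apply_eq, smul_eq_mul, mul_one]
        conv_lhs => rw [hA]
        rw [op_smul, show embM i ((A default default) • (1 : TMat F (Rest i) k)) = A default default • 1 from
          (split i).injective (by rw [split_embM, Matrix.kronecker_smul, Matrix.one_kronecker_one, map_smul, map_one]),
          Matrix.mul_smul, Matrix.mul_one]
        try rfl
      let Au : GL (Rest i → Fin k) F := GeneralLinearGroup.mkOfDetNeZero A hdet.2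
      have hlt : Fintype.card (Rest i) < n := by
        rw [← hn]
        exact Fintype.card_subtype_lt (p := fun l => l ≠ i) (x := i) (by simp)
      obtain ⟨νA, hνA, hAsim⟩ : ∃ νA : F, νA ≠ 0 ∧
          Au.1ᵀ * gramT (Rest i) J * Au.1 = νA • gramT (Rest i) J := by
        have h1 := congrArg (split i) hg₀sim
        rw [map_mul, map_mul, map_smul, split_transpose, split_gramT, ← e0, hCA, gram, ← Matrix.kroneckerMap_transpose,
          ← Matrix.mul_kronecker_mul, ← Matrix.mul_kronecker_mul] at h1
        obtain ⟨a, c, hac⟩ : ∃ a c, (Cᵀ * J * C) a c ≠ 0 := by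
          by_contra hc
          push Not at hc
          have hd : (Cᵀ * J * C).det ≠ 0 := by
            rw [Matrix.det_mul, Matrix.det_mul, Matrix.det_transpose]
            exact mul_ne_zero (mul_ne_zero hdet.1 hJ.unit.ne_zero) hdet.1
          haveI : Nonempty (Fin k) := ⟨⟨0, by omega⟩⟩
          exact hd (by rw [show Cᵀ * J * C = 0 from Matrix.ext hc]; exact Matrix.det_zero)
        have h2 : Au.1ᵀ * gramT (Rest i) J * Au.1 = (νh * J a c / (Cᵀ * J * C) a c) • gramT (Rest i) J := by
          ext u v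
          have := congrFun (congrFun h1 (a, u)) (c, v)
          rw [Matrix.smul_apply, Matrix.kroneckerMap_apply, Matrix.kroneckerMap_apply, smul_eq_mul] at this
          rw [Matrix.smul_apply, smul_eq_mul, div_mul_eq_mul_div, eq_div_iff hac]
          show (Aᵀ * gramT (Rest i) J * A) u v * _ = _
          linear_combination this
        refine ⟨_, ?_, h2⟩
        intro h0
        rw [h0, zero_smul] at h2
        have h3' := congrArg Matrix.det h2
        haveI : Nonempty (Fin k) := ⟨⟨0, by omega⟩⟩
        rw [Matrix.det_zero, Matrix.det_mul, Matrix.det_mul, Matrix.det_transpose] at h3'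
        exact mul_ne_zero (mul_ne_zero hdet.2 (gramT_formed hJ).unit.ne_zero) hdet.2 h3'
      have hMR := hM.over_rest (by omega) i
      rcases ih _ hlt (Rest i) rfl (restGroup M i) hMR Au νA hνA hAsim (fun l G hG => by
          obtain ⟨m, hm, hme⟩ := hg₀conj l.1 G hG
          have hme' : split i m.1 * (C ⊗ₖ A) = C ⊗ₖ (A * op l G) := by
            rw [← hCA, e0, ← map_mul, hme, map_mul, ← e0, hCA, split_op_other l.2, ← Matrix.mul_kronecker_mul,
              Matrix.mul_one]
          let Gu : GL (Rest i → Fin k) F := Au * ⟨op l G, op l (hG.exists_inv hJ).choose,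
            by rw [← map_mul, (hG.exists_inv hJ).choose_spec, map_one],
            by rw [← map_mul, mul_eq_one_comm.1 (hG.exists_inv hJ).choose_spec, map_one]⟩ * Au⁻¹
          have hGu : Gu.1 * A = A * op l G := by
            show (Au.1 * op l G * (Au⁻¹ : GL (Rest i → Fin k) F).1) * Au.1 = _
            rw [Matrix.mul_assoc, ← Units.val_mul, inv_mul_cancel, Units.val_one, Matrix.mul_one]
            rfl
          refine ⟨Gu, Subgroup.mem_comap.2 ?_, hGu⟩
          convert hm using 1
          refine Units.ext ((split i).injective ?_)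
          show split i (embM i Gu.1) = _
          rw [split_embM]
          have hu : IsUnit (C ⊗ₖ A) := by rw [← hCA]; exact g'.isUnit
          refine hu.mul_left_injective ?_
          show (1 : Matrix (Fin k) (Fin k) F) ⊗ₖ Gu.1 * (C ⊗ₖ A) = split i m.1 * (C ⊗ₖ A)
          rw [hme', ← Matrix.mul_kronecker_mul, Matrix.one_mul, hGu])
        with hAT | ⟨l, D, hns, hD⟩
      · refine hg₀T ?_
        have hC : (⟨op i C, op i C⁻¹, by rw [← map_mul, Matrix.mul_nonsing_inv C (isUnit_iff_ne_zero.2 hdet.1), map_one],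
            by rw [← map_mul, Matrix.nonsing_inv_mul C (isUnit_iff_ne_zero.2 hdet.1), map_one]⟩ :
              GL (κ → Fin k) F) ∈ wreathT F κ k := op_mem_wreathT i (A := C) rfl
        have := mul_mem hC (embU_mem_wreathT hAT)
        convert this using 1
        exact Units.ext hg₀eq
      · obtain ⟨W, hW⟩ := eq_embM_of_comm l.1 (Y := embM i (embM l D)) fun B => by
          rw [← embM_op, ← map_mul, ← map_mul, embM_comm]
        refine hno l.1 W (fun ⟨c, hc⟩ => hns ⟨c, ?_⟩) fun b' => ?_
        · have hinj : ∀ {κ' : Type} [Fintype κ'] [DecidableEq κ'] (a : κ') {P Q : TMat F (Rest a) k},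
              embM a P = embM a Q → P = Q := fun {κ'} _ _ a {P Q} e => by
            have h1 := congrArg (split a) e
            rw [split_embM, split_embM] at h1
            ext u v
            have := congrFun (congrFun h1 (⟨0, by omega⟩, u)) (⟨0, by omega⟩, v)
            simpa [Matrix.kroneckerMap_apply] using this
          have hsc : ∀ {κ' : Type} [Fintype κ'] [DecidableEq κ'] (a : κ') (s : F),
              embM a (s • (1 : TMat F (Rest a) k)) = s • (1 : TMat F κ' k) := fun {κ'} _ _ a s =>
            (split a).injective (by rw [split_embM, Matrix.kronecker_smul, Matrix.one_kronecker_one, map_smul, map_one])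
          exact hinj l (hinj i (by rw [hW, hc, hsc, hsc, hsc]))
        · obtain ⟨r, hr, e⟩ := hD b'
          have hr' : Units.map (embM i) r ∈ M := hr
          refine ⟨Units.map (embM i) r, hr', ?_⟩
          show embM i r.1 = _
          rw [e, ← hW, ← embM_op, ← map_mul, embM_add, map_one]
  have hrank : ∀ (i : κ) (b : Fin k → F) (c : F) (P Q : TMat F κ k),
      (P * (c • op i (nilp J b)) * Q).rank ≤ Fintype.card (Rest i → Fin k) := fun i b c P Q => by
    rw [← op_smul, nilp, ← smul_vecMulVec]
    exact ((Matrix.rank_mul_le_left _ _).trans (Matrix.rank_mul_le_right _ _)).trans (rank_op_rankOne_le i _ _)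
  by_cases hMT : M ≤ wreathT F κ k
  · obtain ⟨l₀⟩ := ‹Nonempty κ›
    set b : Fin k → F := Pi.single ⟨0, by omega⟩ 1
    have hb : b ≠ 0 := by simp [b]
    obtain ⟨m, hm, hme⟩ := hconj l₀ _ (hJ.inSp_transvection 1 b)
    rw [op_add, map_one, op_smul, one_smul] at hme
    set N : TMat F κ k := op l₀ (nilp J b)
    have hm1 : m.1 - 1 = g.1 * N * g⁻¹.1 := by
      have h1 := congrArg (· * g⁻¹.1) hme
      rw [Matrix.mul_assoc, ← Units.val_mul, mul_inv_cancel, Units.val_one, Matrix.mul_one] at h1
      rw [h1, Matrix.mul_assoc, Matrix.add_mul, Matrix.one_mul, Matrix.mul_add, ← Units.val_mul, mul_inv_cancel, Units.val_one,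
        Matrix.mul_assoc]
      abel
    have hm0 : m ≠ 1 := fun e => by
      rw [e, Units.val_one, sub_self] at hm1
      have h1 := congrArg (fun Z => g⁻¹.1 * Z * g.1) hm1.symm
      simp only [← Matrix.mul_assoc, ← Units.val_mul, inv_mul_cancel, Units.val_one, Matrix.one_mul,
        Matrix.mul_zero, Matrix.zero_mul] at h1
      rw [Matrix.mul_assoc, ← Units.val_mul, inv_mul_cancel, Units.val_one, Matrix.mul_one] at h1
      have h2 := op_injective (by omega) l₀ (h1.trans (op_zero l₀).symm)
      obtain ⟨v, hv⟩ := hJ.exists_pair hb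
      have h3' := congrArg (· *ᵥ v) h2
      simp only [nilp_mulVec, hv, one_smul, Matrix.zero_mulVec] at h3'
      exact hb h3'
    obtain ⟨j, x, c, hx, hc, he⟩ := classify_root hJ hk l₀ (hMT hm) hm0 (hM.iso m hm) (by
      rw [hm1, show g.1 * N * g⁻¹.1 * (g.1 * N * g⁻¹.1) = g.1 * (N * (g⁻¹.1 * g.1) * N) * g⁻¹.1 by
        simp only [Matrix.mul_assoc], ← Units.val_mul, inv_mul_cancel, Units.val_one, Matrix.mul_one,
        hM.op_nilp_sq, Matrix.mul_zero, Matrix.zero_mul]) (by
      rw [hm1, show N = (1 : F) • op l₀ (nilp J b) from (one_smul F N).symm]; exact hrank _ _ _ _ _)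
    refine step g ν hν hsim hconj hgT j l₀ x b c hx hb hc ?_
    rw [he, Matrix.add_mul, Matrix.one_mul, Matrix.mul_add, Matrix.mul_one, Matrix.smul_mul] at hme
    exact (add_left_cancel hme).symm
  · have hnf : ¬ NoFuseSp J M := fun h => hMT (le_of_noFuseSp hM hk hsize h)
    simp only [NoFuseSp] at hnf
    push Not at hnf
    obtain ⟨h, hh, hhT, i, b, hb, c, hc, r, hr, hrT⟩ := hnf
    obtain ⟨r', hr', -, e'⟩ := hM.exists_root i b c
    have hrM : r ∈ M := by rwa [show r = r' from Units.ext (hr.trans e'.symm)]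
    have hN : (h⁻¹ * r * h).1 - 1 = h⁻¹.1 * (c • op i (nilp J b)) * h.1 := by
      rw [Units.val_mul, Units.val_mul, hr, Matrix.mul_add, Matrix.mul_one, Matrix.add_mul, ← Units.val_mul,
        inv_mul_cancel, Units.val_one]
      abel
    have hne : (c • op i (nilp J b) : TMat F κ k) ≠ 0 := fun h1 => by
      rw [smul_eq_zero] at h1
      have h2 := op_injective (by omega) i ((h1.resolve_left hc).trans (op_zero i).symm)
      obtain ⟨v, hv⟩ := hJ.exists_pair hb
      have h3' := congrArg (· *ᵥ v) h2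
      simp only [nilp_mulVec, hv, one_smul, Matrix.zero_mulVec] at h3'
      exact hb h3'
    obtain ⟨j, x, c', hx, hc', he⟩ := classify_root hJ hk i hrT (fun e => hne (by
        have : h⁻¹ * r * h = 1 := e
        have hr1 : r = 1 := by
          have h2 := congrArg (fun z => h * z * h⁻¹) this
          simpa [mul_assoc] using h2
        rw [hr1, Units.val_one, left_eq_add] at hr
        exact hr))
      (hM.iso _ (mul_mem (mul_mem (inv_mem hh) hrM) hh)) (by
      rw [hN, show h⁻¹.1 * (c • op i (nilp J b)) * h.1 * (h⁻¹.1 * (c • op i (nilp J b)) * h.1) =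
        h⁻¹.1 * ((c • op i (nilp J b)) * (h.1 * h⁻¹.1) * (c • op i (nilp J b))) * h.1 by
          simp only [Matrix.mul_assoc], ← Units.val_mul, mul_inv_cancel, Units.val_one, Matrix.mul_one,
        Matrix.smul_mul, Matrix.mul_smul]
      simp only [Matrix.smul_mul, Matrix.mul_smul, hM.op_nilp_sq, smul_zero, Matrix.mul_zero, Matrix.zero_mul])
      (by rw [hN]; exact hrank _ _ _ _ _)
    refine step h 1 one_ne_zero (by rw [one_smul]; exact hM.iso h hh) (fun l C hC => ?_) hhT i j b x (c / c') hb hx
      (div_ne_zero hc hc') ?_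
    · obtain ⟨o, ho, e⟩ := hM.op_mem l C hC
      exact ⟨h * o * h⁻¹, mul_mem (mul_mem hh ho) (inv_mem hh), by
        rw [Units.val_mul, Units.val_mul, e, Matrix.mul_assoc, ← Units.val_mul, inv_mul_cancel, Units.val_one,
          Matrix.mul_one]⟩
    · have h1 := congrArg (fun Z => c'⁻¹ • (h.1 * Z)) (show (h⁻¹ * r * h).1 - 1 = c' • op j (nilp J x) by
        rw [he]; abel)
      rw [hN] at h1
      simp only [← Matrix.mul_assoc, ← Units.val_mul, mul_inv_cancel, Units.val_one, Matrix.one_mul, Matrix.mul_smul,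
        Matrix.smul_mul, smul_smul, inv_mul_cancel₀ hc', one_smul] at h1
      rw [← h1, div_eq_inv_mul]

end CfsgLib.Classical.WreathMaxSp
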