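import Cfsg.Agent.Lib.Classical.WreathMaxSp.Short

/-!
# An element centralising a root element: a root element with non-scalar factor, or a tensor product
-/

set_option autoImplicit false
set_option linter.unusedSectionVars false

open Matrix Module
open scoped Kronecker

namespace CfsgLib.Classical.WreathMaxSp

variable {F : Type*} [Field F] {k : ℕ} {ι : Type} [Fintype ι] [DecidableEq ι]
  {J : Matrix (Fin k) (Fin k) F} {H : Matrix ι ι F} {M : Subgroup (GL (Fin k × ι) F)}

theorem SkewGram.inSp_short (hJ : SkewGram J) {b d : Fin k → F} (h : fJ J b d = 0) :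
    InSp J (1 + (vecMulVec b (beta J d) + vecMulVec d (beta J b))) := by
  have h' : fJ J d b = 0 := by rw [hJ.swap, h, neg_zero]
  rw [inSp_iff]
  intro x y
  simp only [Matrix.add_mulVec, Matrix.one_mulVec, vecMulVec_mulVec, beta_dot, op_smul_eq_smul, fJ_add_left,
    fJ_add_right, fJ_smul_left, fJ_smul_right, hJ.alt, h, h']
  rw [hJ.swap x b, hJ.swap x d]
  ring

/-- Scalar multiples of the identity. -/
def IsScalarMat (D : Matrix ι ι F) : Prop := ∃ c : F, D = c • 1

/-- A non-scalar short factor gives a non-scalar root factor, given one on those with scalar trace to the adjoint. -/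
theorem Over.long_of_nonscalar_short (hM : Over J H M) (h3 : 3 ≤ k)
    (hskew : ∀ D, Short J H M D → ¬ IsScalarMat D → IsScalarMat (D + adjH H D) →
      ∃ D₁ D₂, Short J H M D₁ ∧ Short J H M D₂ ∧ ¬ IsScalarMat (D₁ * adjH H D₂ + D₂ * adjH H D₁))
    {D : Matrix ι ι F} (hD : Short J H M D) (hns : ¬ IsScalarMat D) : ∃ S, Long J M S ∧ ¬ IsScalarMat S := by
  have h1 := hM.long_of_short h3 hD (hM.short_of_long hM.long_one)
  rw [hM.hGram.adjH_one, Matrix.mul_one, Matrix.one_mul] at h1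
  by_cases hs : IsScalarMat (D + adjH H D)
  · obtain ⟨D₁, D₂, h₁, h₂, hns'⟩ := hskew D hD hns hs
    exact ⟨_, hM.long_of_short h3 h₁ h₂, hns'⟩
  · exact ⟨_, h1, hs⟩

/-- An element that centralises a root element up to a scalar and conjugates `Sp ⊗ 1` into `M`. -/
theorem Over.levi_or_long (hM : Over J H M) (hk : 2 ≤ k) (hsize : 3 ≤ k ∨ ∃ a : F, a ≠ 0 ∧ a * a ≠ 1)
    (hskew : 3 ≤ k → ∀ D, Short J H M D → ¬ IsScalarMat D → IsScalarMat (D + adjH H D) →
      ∃ D₁ D₂, Short J H M D₁ ∧ Short J H M D₂ ∧ ¬ IsScalarMat (D₁ * adjH H D₂ + D₂ * adjH H D₁))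
    {g : GL (Fin k × ι) F} {ν μ : F} (hν : ν ≠ 0) (hμ : μ ≠ 0) (hsim : g.1ᵀ * gram J H * g.1 = ν • gram J H)
    {b : Fin k → F} (hb : b ≠ 0) (hcomm : g.1 * root J b (1 : Matrix ι ι F) = μ • (root J b 1 * g.1))
    (hconj : ∀ C, InSp J C → ∃ m ∈ M, m.1 * g.1 = g.1 * (C ⊗ₖ (1 : Matrix ι ι F))) :
    (∃ D, Long J M D ∧ ¬ IsScalarMat D) ∨
      ∃ (C : Matrix (Fin k) (Fin k) F) (A : Matrix ι ι F), g.1 = C ⊗ₖ A := by
  classical
  by_cases hsome : ∃ D, Long J M D ∧ ¬ IsScalarMat D
  · exact Or.inl hsome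
  refine Or.inr ?_
  push Not at hsome
  have hJ := hM.jGram
  have hshort : 3 ≤ k → ∀ D, Short J H M D → IsScalarMat D := fun h3 D hD => by
    by_contra hns
    obtain ⟨S, hS, hS'⟩ := hM.long_of_nonscalar_short h3 (hskew h3) hD hns
    exact hS' (hsome S hS)
  rcases isEmpty_or_nonempty ι with hι | ⟨⟨r₀⟩⟩
  · exact ⟨1, 1, Subsingleton.elim _ _⟩
  obtain ⟨c, hbc⟩ := hJ.exists_pair hb
  have hcb : fJ J c b = -1 := by rw [hJ.swap, hbc]
  set ib : Matrix (Fin k × ι) ι F := inj b with hib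
  set pb : Matrix ι (Fin k × ι) F := proj J b with hpb
  have hroot : root J b (1 : Matrix ι ι F) = ib * pb := by rw [root, rect, Matrix.mul_one]
  rw [hroot] at hcomm
  set gi : Matrix (Fin k × ι) (Fin k × ι) F := (g⁻¹ : GL (Fin k × ι) F).1 with hgi
  have hggi : g.1 * gi = 1 := by rw [hgi, ← Units.val_mul, mul_inv_cancel, Units.val_one]
  have hgig : gi * g.1 = 1 := by rw [hgi, ← Units.val_mul, inv_mul_cancel, Units.val_one]
  set A : Matrix ι ι F := μ • (pb * g.1 * (inj c : Matrix (Fin k × ι) ι F)) with hA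
  have hgb : g.1 * ib = ib * A := by
    have h1 := congrArg (· * (inj c : Matrix (Fin k × ι) ι F)) hcomm
    simp only [Matrix.smul_mul, Matrix.mul_assoc] at h1
    rw [proj_mul_inj, hbc, one_smul, Matrix.mul_one] at h1
    rw [h1, hA, Matrix.mul_smul]
    simp only [Matrix.mul_assoc]
  have hbg : pb * g.1 = μ⁻¹ • (A * pb) := by
    have h1 := congrArg ((proj J c : Matrix ι (Fin k × ι) F) * ·) hcomm
    simp only [← Matrix.mul_assoc, Matrix.mul_smul, hpb] at h1
    rw [Matrix.mul_assoc (proj J c : Matrix ι (Fin k × ι) F) g.1, hgb, hib, proj_inj_assoc, hcb, proj_mul_inj, hcb]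
      at h1
    simp only [Matrix.smul_mul, Matrix.one_mul, smul_smul, mul_neg, mul_one, neg_smul, one_smul,
      Matrix.neg_mul] at h1
    rw [smul_neg, neg_inj] at h1
    rw [hpb, h1, smul_smul, inv_mul_cancel₀ hμ, one_smul]
  set Ai : Matrix ι ι F := μ⁻¹ • (pb * gi * (inj c : Matrix (Fin k × ι) ι F)) with hAi
  have hAAi : A * Ai = 1 := by
    have h1 : pb = μ⁻¹ • (A * pb) * gi := by rw [← hbg, Matrix.mul_assoc, hggi, Matrix.mul_one]
    have h2 := congrArg (· * (inj c : Matrix (Fin k × ι) ι F)) h1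
    simp only [hpb, proj_mul_inj, hbc, one_smul, Matrix.smul_mul] at h2
    rw [hAi, Matrix.mul_smul, hpb]
    simp only [Matrix.mul_assoc] at h2 ⊢
    exact h2.symm
  have hAiA : Ai * A = 1 := mul_eq_one_comm.1 hAAi
  clear_value Ai
  have hgib : gi * ib = ib * Ai := by
    calc gi * ib = gi * (g.1 * ib * Ai) := by rw [hgb, Matrix.mul_assoc ib, hAAi, Matrix.mul_one]
      _ = ib * Ai := by rw [← Matrix.mul_assoc, ← Matrix.mul_assoc, hgig, Matrix.one_mul]
  have hbgi : pb * gi = μ • (Ai * pb) := by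
    have h1 : pb = μ⁻¹ • (A * pb) * gi := by rw [← hbg, Matrix.mul_assoc, hggi, Matrix.mul_one]
    conv_rhs => rw [h1]
    rw [Matrix.smul_mul, Matrix.mul_smul, smul_smul, mul_inv_cancel₀ hμ, one_smul, ← Matrix.mul_assoc,
      ← Matrix.mul_assoc, hAiA, Matrix.one_mul]
  clear_value A
  -- adjoints
  have hadj : ∀ (u : Fin k → F), (g.1 * (inj u : Matrix (Fin k × ι) ι F))ᵀ * gram J H =
      ν • (H * (proj J u : Matrix ι (Fin k × ι) F) * gi) := fun u => by
    have h1 : g.1ᵀ * gram J H = ν • (gram J H * gi) := by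
      have := congrArg (· * gi) hsim
      rwa [Matrix.mul_assoc, hggi, Matrix.mul_one, Matrix.smul_mul] at this
    rw [Matrix.transpose_mul, Matrix.mul_assoc, h1, Matrix.mul_smul, ← Matrix.mul_assoc, inj_transpose_gram]
  have hHi : H⁻¹ * H = 1 := Matrix.nonsing_inv_mul H hM.hGram.unit
  have hAH : Aᵀ * H = (ν * μ) • (H * Ai) := by
    have h1 := hadj b
    rw [← hib, hgb, Matrix.transpose_mul, Matrix.mul_assoc, hib, inj_transpose_gram, Matrix.mul_assoc H,
      ← hpb, hbgi] at h1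
    have h2 := congrArg (· * (inj c : Matrix (Fin k × ι) ι F)) h1
    simp only [Matrix.mul_assoc, Matrix.smul_mul, Matrix.mul_smul, hpb, proj_mul_inj, hbc, one_smul,
      Matrix.mul_one, smul_smul] at h2
    exact h2
  have hAA' : A * adjH H A = (ν * μ) • 1 := by
    rw [adjH, Matrix.mul_assoc H⁻¹, hAH, Matrix.mul_smul, Matrix.mul_smul, ← Matrix.mul_assoc H⁻¹, hHi,
      Matrix.one_mul, hAAi]
  have hA'A : adjH H A * A = (ν * μ) • 1 := by
    rw [adjH, Matrix.mul_assoc H⁻¹, hAH, Matrix.mul_smul, Matrix.smul_mul, ← Matrix.mul_assoc H⁻¹, hHi,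
      Matrix.one_mul, hAiA]
  -- a non-zero entry
  obtain ⟨p₀, s₀, hθ⟩ : ∃ p s, A p s ≠ 0 := by
    by_contra hno
    push Not at hno
    have h1 := congrFun (congrFun hAAi r₀) r₀
    simp [show A = 0 from Matrix.ext hno] at h1
  let C : Matrix (Fin k) (Fin k) F := Matrix.of fun a a' => g.1 (a, p₀) (a', s₀) / A p₀ s₀
  have hCv : ∀ v a, (C *ᵥ v) a = (g.1 * (inj v : Matrix (Fin k × ι) ι F)) (a, p₀) s₀ / A p₀ s₀ := fun v a => by
    simp [C, Matrix.mulVec, dotProduct, inj, Matrix.mul_apply, Fintype.sum_prod_type, Finset.sum_div, div_mul_eq_mul_div]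
  have heval : ∀ (u v : Fin k → F) (z : F),
      (proj J u : Matrix ι (Fin k × ι) F) * (g.1 * (inj v : Matrix (Fin k × ι) ι F)) = z • A →
        z = fJ J u (C *ᵥ v) := fun u v z h => by
    have h1 := congrFun (congrFun h p₀) s₀
    rw [Matrix.smul_apply, smul_eq_mul, Matrix.mul_apply, Fintype.sum_prod_type] at h1
    simp only [proj, Matrix.of_apply, ite_mul, zero_mul, Finset.sum_ite_eq, Finset.mem_univ, if_true] at h1
    rw [← beta_dot, dotProduct]
    refine mul_right_cancel₀ hθ ?_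
    rw [← h1, Finset.sum_mul]
    exact Finset.sum_congr rfl fun a _ => by rw [hCv, mul_assoc, div_mul_cancel₀ _ hθ]
  -- slices off the pair
  have hslice : ∀ d x, fJ J b d = 0 → fJ J b x = 0 →
      IsScalarMat (A * ((proj J d : Matrix ι (Fin k × ι) F) * gi * (inj x : Matrix (Fin k × ι) ι F))) := by
    intro d x hd hx
    by_cases hdb : ∃ t : F, d = t • b
    · obtain ⟨t, rfl⟩ := hdb
      refine ⟨0, ?_⟩
      rw [proj_smul, ← hpb, Matrix.smul_mul, hbgi, Matrix.smul_mul, Matrix.smul_mul, Matrix.mul_assoc Ai, hpb,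
        proj_mul_inj, hx]
      simp
    push Not at hdb
    by_cases hxb : ∃ t : F, x = t • b
    · obtain ⟨t, rfl⟩ := hxb
      refine ⟨0, ?_⟩
      rw [inj_smul, ← hib, Matrix.mul_smul, Matrix.mul_assoc _ gi, hgib, hib, proj_inj_assoc,
        hJ.swap d b, hd]
      simp
    push Not at hxb
    have h3 : 3 ≤ k := by
      by_contra hk3
      -- in dimension two `d` is a multiple of `b`
      refine hdb (fJ J d c) (hJ.eq_of_fJ fun v => ?_)
      have hspan : ∃ t s : F, v = t • b + s • c := by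
        have hli : LinearIndependent F ![b, c] := by
          rw [LinearIndependent.pair_iff' hb]
          intro a e
          rw [← e, fJ_smul_right, hJ.alt, mul_zero] at hbc
          exact zero_ne_one hbc
        have htop := hli.span_eq_top_of_card_eq_finrank' (by simp; omega)
        have hv : v ∈ Submodule.span F (Set.range ![b, c]) := by rw [htop]; exact Submodule.mem_top
        rw [Matrix.range_cons, Matrix.range_cons, Matrix.range_empty, Set.union_empty, ← Set.insert_eq,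
          Submodule.mem_span_pair] at hv
        obtain ⟨t, s, e⟩ := hv
        exact ⟨t, s, e.symm⟩
      obtain ⟨t, s, rfl⟩ := hspan
      simp only [fJ_add_right, fJ_smul_right, fJ_smul_left, hJ.alt, hbc, hJ.swap d b, hd]
      ring
    obtain ⟨m, hm, hme⟩ := hconj _ (hJ.inSp_short hd)
    obtain ⟨r, hr, hre⟩ := hM.sp _ (hJ.inSp_transvection 1 x)
    set ρ : Matrix ι (Fin k × ι) F := A * ((proj J d : Matrix ι (Fin k × ι) F) * gi) with hρ
    set σ : Matrix (Fin k × ι) ι F := g.1 * ((inj d : Matrix (Fin k × ι) ι F) * (μ • Ai)) with hσ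
    have hρb : ρ * ib = 0 := by
      rw [hρ, Matrix.mul_assoc, Matrix.mul_assoc, hgib, hib, proj_inj_assoc, hJ.swap d b, hd]
      simp
    have hbσ : pb * σ = 0 := by
      rw [hσ, ← Matrix.mul_assoc, hbg, Matrix.smul_mul, Matrix.mul_assoc, hpb, proj_inj_assoc, hd]
      simp
    have hbb : pb * ib = 0 := by rw [hpb, hib, proj_mul_inj, hJ.alt, zero_smul]
    set Y := ib * ρ + σ * pb with hY
    have hmY : m.1 = 1 + Y := by
      have h1 := congrArg (· * gi) hme
      simp only [Matrix.mul_assoc, hggi, Matrix.mul_one] at h1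
      rw [h1, Matrix.add_kronecker, Matrix.one_kronecker_one, Matrix.add_kronecker, ← inj_mul_proj_one,
        ← inj_mul_proj_one, Matrix.add_mul, Matrix.one_mul, Matrix.mul_add, hggi, hY, hρ, hσ, ← hib, ← hpb]
      congr 1
      rw [Matrix.add_mul, Matrix.mul_add, Matrix.mul_assoc ib, ← Matrix.mul_assoc g.1 ib, hgb,
        Matrix.mul_assoc _ pb gi, hbgi]
      simp only [Matrix.mul_assoc, Matrix.mul_smul, Matrix.smul_mul]
    have hY2 : Y * Y = 0 := by
      have hρσ : ρ * σ = 0 := by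
        rw [hρ, hσ, Matrix.mul_assoc, Matrix.mul_assoc (proj J d : Matrix ι (Fin k × ι) F),
          ← Matrix.mul_assoc gi, hgig, Matrix.one_mul, proj_inj_assoc, hJ.alt]
        simp
      rw [hY, Matrix.add_mul, Matrix.mul_add, Matrix.mul_add]
      have e1 : ∀ Z : Matrix ι (Fin k × ι) F, ρ * (ib * Z) = 0 := fun Z => by
        rw [← Matrix.mul_assoc, hρb, Matrix.zero_mul]
      have e2 : ∀ Z : Matrix ι (Fin k × ι) F, pb * (ib * Z) = 0 := fun Z => by
        rw [← Matrix.mul_assoc, hbb, Matrix.zero_mul]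
      have e3 : ∀ Z : Matrix ι (Fin k × ι) F, pb * (σ * Z) = 0 := fun Z => by
        rw [← Matrix.mul_assoc, hbσ, Matrix.zero_mul]
      have e4 : ∀ Z : Matrix ι (Fin k × ι) F, ρ * (σ * Z) = 0 := fun Z => by
        rw [← Matrix.mul_assoc, hρσ, Matrix.zero_mul]
      simp only [Matrix.mul_assoc, e1, e2, e3, e4, Matrix.mul_zero, add_zero]
    set N : Matrix (Fin k × ι) (Fin k × ι) F :=
      (inj x : Matrix (Fin k × ι) ι F) * (proj J x : Matrix ι (Fin k × ι) F) with hN
    have hN2 : N * N = 0 := by rw [hN, Matrix.mul_assoc, proj_inj_assoc, hJ.alt, zero_smul, Matrix.mul_zero]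
    have hr' : r.1 = 1 + N := by
      rw [hre, one_smul, Matrix.add_kronecker, Matrix.one_kronecker_one, nilp, ← inj_mul_proj_one]
    have hri : r⁻¹.1 = 1 - N := InM.inv_eq hr' hN2
    have hmi : m⁻¹.1 = 1 - Y := InM.inv_eq hmY hY2
    have hprod : InM M (link J b x (-(ρ * (inj x : Matrix (Fin k × ι) ι F)))
        ((proj J x : Matrix ι (Fin k × ι) F) * σ) + root J b (-(ρ * (1 - N) * σ))) := by
      refine ⟨r * m * r⁻¹ * m⁻¹, mul_mem (mul_mem (mul_mem hr hm) (inv_mem hr)) (inv_mem hm), ?_⟩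
      rw [Units.val_mul, Units.val_mul, Units.val_mul, hr', hri, hmY, hmi, link, root, rect, rect, rect, hY, hN,
        ← hib, ← hpb]
      have q1 : ∀ Z : Matrix ι (Fin k × ι) F, (proj J x : Matrix ι (Fin k × ι) F) * (ib * Z) = 0 := fun Z => by
        rw [hib, proj_inj_assoc, hJ.swap x b, hx, neg_zero, zero_smul]
      have q2 : pb * (inj x : Matrix (Fin k × ι) ι F) = 0 := by rw [hpb, proj_mul_inj, hx, zero_smul]
      have q2' : ∀ Z : Matrix ι (Fin k × ι) F, pb * ((inj x : Matrix (Fin k × ι) ι F) * Z) = 0 := fun Z => by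
        rw [← Matrix.mul_assoc, q2, Matrix.zero_mul]
      have q3 : ∀ Z : Matrix ι (Fin k × ι) F, (proj J x : Matrix ι (Fin k × ι) F) * ((inj x : Matrix (Fin k × ι) ι F) * Z) = 0 :=
        fun Z => by rw [proj_inj_assoc, hJ.alt, zero_smul]
      have e1 : ∀ Z : Matrix ι (Fin k × ι) F, ρ * (ib * Z) = 0 := fun Z => by
        rw [← Matrix.mul_assoc, hρb, Matrix.zero_mul]
      have e2 : ∀ Z : Matrix ι (Fin k × ι) F, pb * (ib * Z) = 0 := fun Z => by
        rw [← Matrix.mul_assoc, hbb, Matrix.zero_mul]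
      have e3 : ∀ Z : Matrix ι (Fin k × ι) F, pb * (σ * Z) = 0 := fun Z => by
        rw [← Matrix.mul_assoc, hbσ, Matrix.zero_mul]
      simp only [Matrix.add_mul, Matrix.mul_add, Matrix.sub_mul, Matrix.mul_sub, Matrix.one_mul, Matrix.mul_one,
        Matrix.mul_assoc, Matrix.mul_neg, Matrix.neg_mul, q1, q2', q3, e1, e2, e3, Matrix.mul_zero, add_zero, zero_add,
        sub_zero, zero_sub, neg_zero]
      abel
    obtain ⟨t, ht⟩ := hshort h3 _ (hM.short_of_mixed hx hb hxb hprod)
    refine ⟨-t, ?_⟩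
    rw [hρ, neg_eq_iff_eq_neg, ← neg_smul, Matrix.mul_assoc, Matrix.mul_assoc] at ht
    rwa [Matrix.mul_assoc]
  -- the same slices of `g`
  have hgslice : ∀ d x, fJ J b d = 0 → fJ J b x = 0 →
      ∃ z : F, (proj J x : Matrix ι (Fin k × ι) F) * (g.1 * (inj d : Matrix (Fin k × ι) ι F)) = z • A := by
    intro d x hd hx
    obtain ⟨z, hz⟩ := hslice d x hd hx
    have hz' : (proj J d : Matrix ι (Fin k × ι) F) * gi * (inj x : Matrix (Fin k × ι) ι F) = z • Ai := by
      have := congrArg (Ai * ·) hz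
      simp only [Matrix.mul_smul, Matrix.mul_one] at this
      rwa [← Matrix.mul_assoc, hAiA, Matrix.one_mul] at this
    have h1 := congrArg (· * (inj x : Matrix (Fin k × ι) ι F)) (hadj d)
    simp only [Matrix.smul_mul] at h1
    rw [Matrix.mul_assoc, gram_mul_inj hJ, Matrix.mul_neg, ← Matrix.mul_assoc, ← Matrix.transpose_mul,
      Matrix.mul_assoc (H * _), ← Matrix.mul_assoc (H * _), Matrix.mul_assoc H, Matrix.mul_assoc H, hz',
      Matrix.mul_smul, smul_smul] at h1
    refine ⟨-(ν * z * (ν * μ)⁻¹), ?_⟩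
    have hHu : H * H⁻¹ = 1 := Matrix.mul_nonsing_inv H hM.hGram.unit
    have h3' := congrArg (fun Z => -(Z * H⁻¹)) h1
    simp only [Matrix.neg_mul, neg_neg, Matrix.mul_assoc _ H H⁻¹, hHu, Matrix.mul_one, Matrix.smul_mul] at h3'
    have hA2 : H * Ai * H⁻¹ = (ν * μ)⁻¹ • Aᵀ := by
      rw [show H * Ai = (ν * μ)⁻¹ • (Aᵀ * H) by
        rw [hAH, smul_smul, inv_mul_cancel₀ (mul_ne_zero hν hμ), one_smul], Matrix.smul_mul, Matrix.mul_assoc, hHu,
        Matrix.mul_one]
    rw [hA2, smul_smul] at h3'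
    have h4 := congrArg Matrix.transpose h3'
    rwa [Matrix.transpose_transpose, Matrix.transpose_neg, Matrix.transpose_smul, Matrix.transpose_transpose,
      ← neg_smul] at h4
  have hCb : C *ᵥ b = b := by
    funext a
    rw [hCv, ← hib, hgb, hib]
    have : ((inj b : Matrix (Fin k × ι) ι F) * A) (a, p₀) s₀ = b a * A p₀ s₀ := by
      simp [inj, Matrix.mul_apply]
    rw [this, mul_div_assoc, div_self hθ, mul_one]
  -- columns off the pair
  have hcol : ∀ d, fJ J b d = 0 →
      g.1 * (inj d : Matrix (Fin k × ι) ι F) = (inj (C *ᵥ d) : Matrix (Fin k × ι) ι F) * A ∧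
        fJ J b (C *ᵥ d) = 0 := by
    intro d hd
    set Q := g.1 * (inj d : Matrix (Fin k × ι) ι F) with hQ
    have hbQ : fJ J b (C *ᵥ d) = 0 := by
      refine (heval b d 0 ?_).symm
      rw [← hpb, ← Matrix.mul_assoc, hbg, Matrix.smul_mul, Matrix.mul_assoc, hpb, proj_mul_inj, hd]
      simp
    refine ⟨?_, hbQ⟩
    set X := Q - (inj (C *ᵥ d) : Matrix (Fin k × ι) ι F) * A with hX
    have hXb : ∀ u, fJ J u b = 0 → (proj J u : Matrix ι (Fin k × ι) F) * X = 0 := fun u hu => by
      obtain ⟨z, hz⟩ := hgslice d u hd (by rw [hJ.swap, hu, neg_zero])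
      rw [hX, Matrix.mul_sub, hQ, hz, proj_inj_assoc, heval u d z hz, sub_self]
    set E := -((proj J c : Matrix ι (Fin k × ι) F) * X) with hE
    have hXE : X = ib * E := eq_inj_of_proj hJ hbc hXb
    have hQE : Q = (inj (C *ᵥ d) : Matrix (Fin k × ι) ι F) * A + ib * E := by rw [← hXE, hX]; abel
    -- the entry normalisation
    have hE0 : E p₀ s₀ = 0 := by
      obtain ⟨a, ha⟩ := Function.ne_iff.1 hb
      have h1 := congrFun (congrFun hQE (a, p₀)) s₀
      rw [Matrix.add_apply, hib] at h1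
      have e1 : ∀ (v : Fin k → F) (Z : Matrix ι ι F),
          ((inj v : Matrix (Fin k × ι) ι F) * Z) (a, p₀) s₀ = v a * Z p₀ s₀ := fun v Z => by
        simp [inj, Matrix.mul_apply]
      rw [e1, e1, hCv, ← hQ, div_mul_cancel₀ _ hθ, left_eq_add] at h1
      exact (mul_eq_zero.1 h1).resolve_left ha
    suffices hEs : ∃ z : F, E = z • A by
      obtain ⟨z, hz⟩ := hEs
      rw [hz, Matrix.smul_apply, smul_eq_mul] at hE0
      rw [hQE, hz, (mul_eq_zero.1 hE0).resolve_right hθ]
      simp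
    by_cases hdb : ∃ t : F, d = t • b
    · obtain ⟨t, rfl⟩ := hdb
      refine ⟨0, ?_⟩
      rw [hE, hX, hQ, inj_smul, Matrix.mul_smul, ← hib, hgb, Matrix.mulVec_smul, hCb, inj_smul, ← hib,
        Matrix.smul_mul, sub_self]
      simp
    push Not at hdb
    have hCd : ∀ t : F, C *ᵥ d ≠ t • b := by
      intro t ht
      obtain ⟨y, hdy, hby⟩ := hJ.indep_dual hb hdb
      have h1 := congrArg (fun Z => (proj J y : Matrix ι (Fin k × ι) F) * (gi * Z)) hQE
      simp only [hQ, ht, inj_smul, ← hib, Matrix.smul_mul, ← Matrix.mul_smul, ← Matrix.mul_add] at h1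
      rw [← Matrix.mul_assoc gi g.1, hgig, Matrix.one_mul, proj_mul_inj, hJ.swap y d, hdy, ← Matrix.mul_assoc gi,
        hgib, hib, Matrix.mul_assoc, proj_inj_assoc, hJ.swap y b, hby, neg_zero, zero_smul] at h1
      have := congrFun (congrFun h1 r₀) r₀
      simp at this
    have h3 : 3 ≤ k := by
      by_contra hk3
      refine hdb (fJ J d c) (hJ.eq_of_fJ fun v => ?_)
      have hspan : ∃ t s : F, v = t • b + s • c := by
        have hli : LinearIndependent F ![b, c] := by
          rw [LinearIndependent.pair_iff' hb]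
          intro a e
          rw [← e, fJ_smul_right, hJ.alt, mul_zero] at hbc
          exact zero_ne_one hbc
        have htop := hli.span_eq_top_of_card_eq_finrank' (by simp; omega)
        have hv : v ∈ Submodule.span F (Set.range ![b, c]) := by rw [htop]; exact Submodule.mem_top
        rw [Matrix.range_cons, Matrix.range_cons, Matrix.range_empty, Set.union_empty, ← Set.insert_eq,
          Submodule.mem_span_pair] at hv
        obtain ⟨t, s, e⟩ := hv
        exact ⟨t, s, e.symm⟩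
      obtain ⟨t, s, rfl⟩ := hspan
      simp only [fJ_add_right, fJ_smul_right, fJ_smul_left, hJ.alt, hbc, hJ.swap d b, hd]
      ring
    obtain ⟨m, hm, hme⟩ := hconj _ (hJ.inSp_transvection 1 d)
    set d' := C *ᵥ d
    have hP : (proj J d : Matrix ι (Fin k × ι) F) * gi =
        ν⁻¹ • (adjH H A * (proj J d' : Matrix ι (Fin k × ι) F) + adjH H E * pb) := by
      have h1 := hadj d
      rw [← hQ, hQE, Matrix.transpose_add, Matrix.add_mul, Matrix.transpose_mul, Matrix.transpose_mul,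
        Matrix.mul_assoc, Matrix.mul_assoc, hib, inj_transpose_gram, inj_transpose_gram, ← hpb,
        Matrix.mul_assoc H] at h1
      have h2 := congrArg (fun Z => ν⁻¹ • (H⁻¹ * Z)) h1
      simp only [Matrix.mul_smul, smul_smul, inv_mul_cancel₀ hν, one_smul] at h2
      rw [← Matrix.mul_assoc H⁻¹ H, hHi, Matrix.one_mul] at h2
      rw [← h2, adjH, adjH, Matrix.mul_add]
      simp only [Matrix.mul_assoc]
    have hY : m.1 = 1 + ((ν⁻¹ * (ν * μ)) • root J d' 1 +
        link J b d' (ν⁻¹ • (E * adjH H A)) (ν⁻¹ • (A * adjH H E)) + root J b (ν⁻¹ • (E * adjH H E))) := by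
      have h1 := congrArg (· * gi) hme
      simp only [Matrix.mul_assoc, hggi, Matrix.mul_one] at h1
      rw [h1, one_smul, Matrix.add_kronecker, Matrix.one_kronecker_one, nilp, ← inj_mul_proj_one, Matrix.add_mul,
        Matrix.one_mul, Matrix.mul_add, hggi, Matrix.mul_assoc, hP, ← Matrix.mul_assoc g.1, ← hQ, hQE]
      congr 1
      rw [link, root, root, rect_smul, rect_smul, rect_smul, rect, rect, rect, rect, ← hib, ← hpb, Matrix.mul_one]
      simp only [Matrix.add_mul, Matrix.mul_add, Matrix.mul_smul, smul_add, ← smul_smul, Matrix.mul_assoc]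
      rw [← Matrix.mul_assoc A (adjH H A), hAA', Matrix.smul_mul, Matrix.one_mul, Matrix.mul_smul]
      simp only [smul_smul, mul_assoc]
      abel
    have hd'b : fJ J d' b = 0 := by rw [hJ.swap, hbQ, neg_zero]
    have hz : InM M (link J b d' (ν⁻¹ • (E * adjH H A)) (ν⁻¹ • (A * adjH H E)) + root J b (ν⁻¹ • (E * adjH H E))) := by
      obtain ⟨n, hn, hne⟩ := hM.long_smul (-(ν⁻¹ * (ν * μ))) hM.long_one d'
      refine ⟨m * n, mul_mem hm hn, ?_⟩
      rw [Units.val_mul, hY, hne, root_smul d' (-(ν⁻¹ * (ν * μ))) (1 : Matrix ι ι F)]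
      have hzero : ∀ D D' L : Matrix ι ι F, ((ν⁻¹ * (ν * μ)) • root J d' 1 + link J b d' D D' + root J b L) *
          root J d' 1 = 0 := fun D D' L => by
        simp [root, link, Matrix.add_mul, rect_mul, hJ.alt, hbQ, hd'b]
      rw [Matrix.add_mul, Matrix.one_mul, Matrix.mul_add, Matrix.mul_one, Matrix.mul_smul, hzero, smul_zero,
        neg_smul]
      abel
    obtain ⟨t, ht⟩ := hshort h3 _ (hM.short_of_mixed hbQ hb hCd hz)
    refine ⟨ν * t / (ν * μ), ?_⟩
    have hh := congrArg (fun Z => (ν / (ν * μ)) • (Z * A)) ht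
    simp only [Matrix.smul_mul, smul_smul, Matrix.one_mul, Matrix.mul_assoc, hA'A, Matrix.mul_smul, Matrix.mul_one]
      at hh
    rw [show ν / (ν * μ) * (ν⁻¹ * (ν * μ)) = 1 by field_simp] at hh
    rw [one_smul] at hh
    rw [hh]
    congr 1
    ring
  -- rows off the pair
  have hrow : ∀ d, fJ J b d = 0 →
      (proj J (C *ᵥ d) : Matrix ι (Fin k × ι) F) * g.1 = μ⁻¹ • (A * (proj J d : Matrix ι (Fin k × ι) F)) := by
    intro d hd
    have h1 := congrArg (· * g.1) (hadj d)
    simp only [(hcol d hd).1, Matrix.smul_mul] at h1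
    rw [Matrix.transpose_mul, Matrix.mul_assoc Aᵀ, inj_transpose_gram, ← Matrix.mul_assoc, hAH,
      Matrix.mul_assoc _ gi, hgig, Matrix.mul_one, Matrix.smul_mul, Matrix.smul_mul] at h1
    have h2 := congrArg (fun Z => μ⁻¹ • (A * (ν⁻¹ • (H⁻¹ * Z)))) h1
    simp only [Matrix.mul_smul, smul_smul, ← Matrix.mul_assoc, hHi, Matrix.one_mul] at h2
    try rw [hAAi] at h2
    try simp only [Matrix.mul_assoc, ← Matrix.mul_assoc H⁻¹, hHi, ← Matrix.mul_assoc A Ai, hAAi, Matrix.one_mul] at h2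
    rw [show μ⁻¹ * (ν⁻¹ * (ν * μ)) = 1 by field_simp, one_smul, show μ⁻¹ * (ν⁻¹ * ν) = μ⁻¹ by field_simp] at h2
    exact h2
  -- `C` is a similitude
  have hsurj : ∀ u, fJ J b u = 0 → ∃ d, fJ J b d = 0 ∧ C *ᵥ d = u := by
    let U : Submodule F (Fin k → F) :=
      { carrier := {x | fJ J b x = 0}
        zero_mem' := fJ_zero_right b
        add_mem' := fun {x y} hx hy => by
          simp only [Set.mem_setOf_eq] at hx hy ⊢
          rw [fJ_add_right, hx, hy, add_zero]
        smul_mem' := fun a x hx => by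
          simp only [Set.mem_setOf_eq] at hx ⊢
          rw [fJ_smul_right, hx, mul_zero] }
    let φ : U →ₗ[F] U := (C.mulVecLin).restrict (fun x hx => (hcol x hx).2)
    have hinj : Function.Injective φ := by
      rw [injective_iff_map_eq_zero]
      rintro ⟨x, hx⟩ h0
      have hC0 : C *ᵥ x = 0 := congrArg Subtype.val h0
      have h1 := congrArg (gi * ·) (hcol x hx).1
      simp only [hC0, inj_zero, Matrix.zero_mul, Matrix.mul_zero, ← Matrix.mul_assoc, hgig, Matrix.one_mul] at h1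
      refine Subtype.ext (funext fun a => ?_)
      have := congrFun (congrFun h1 (a, r₀)) r₀
      simpa [inj] using this
    intro u hu
    obtain ⟨⟨d, hd⟩, hdu⟩ := LinearMap.surjective_of_injective hinj ⟨u, hu⟩
    exact ⟨d, hd, congrArg Subtype.val hdu⟩
  have hrow' : ∀ u, fJ J b u = 0 → ∀ v,
      (proj J u : Matrix ι (Fin k × ι) F) * (g.1 * (inj v : Matrix (Fin k × ι) ι F)) = fJ J u (C *ᵥ v) • A := by
    intro u hu v
    obtain ⟨d, hd, rfl⟩ := hsurj u hu
    have h1 : (proj J (C *ᵥ d) : Matrix ι (Fin k × ι) F) * (g.1 * (inj v : Matrix (Fin k × ι) ι F)) =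
        (μ⁻¹ * fJ J d v) • A := by
      rw [← Matrix.mul_assoc, hrow d hd, Matrix.smul_mul, Matrix.mul_assoc, proj_mul_inj, Matrix.mul_smul,
        Matrix.mul_one, smul_smul]
    rw [h1, ← heval _ _ _ h1]
  have hCsim : Cᵀ * J * C = μ⁻¹ • J := by
    have key : ∀ d v, fJ J b d = 0 → fJ J (C *ᵥ d) (C *ᵥ v) = μ⁻¹ * fJ J d v := fun d v hd => by
      have h1 : (proj J (C *ᵥ d) : Matrix ι (Fin k × ι) F) * (g.1 * (inj v : Matrix (Fin k × ι) ι F)) =
          (μ⁻¹ * fJ J d v) • A := by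
        rw [← Matrix.mul_assoc, hrow d hd, Matrix.smul_mul, Matrix.mul_assoc, proj_mul_inj, Matrix.mul_smul,
          Matrix.mul_one, smul_smul]
      exact (heval _ _ _ h1).symm
    have hall : ∀ x y, fJ J (C *ᵥ x) (C *ᵥ y) = μ⁻¹ * fJ J x y := fun x y => by
      have hx : fJ J b (x - fJ J b x • c) = 0 := by rw [fJ_sub_right, fJ_smul_right, hbc, mul_one, sub_self]
      have hy : fJ J b (y - fJ J b y • c) = 0 := by rw [fJ_sub_right, fJ_smul_right, hbc, mul_one, sub_self]
      have e1 := key _ y hx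
      have e2 := key _ c hy
      have e3 : fJ J (C *ᵥ c) (C *ᵥ c) = 0 := hJ.alt _
      simp only [Matrix.mulVec_sub, Matrix.mulVec_smul, fJ_sub_left, fJ_smul_left] at e1 e2
      rw [hJ.swap (C *ᵥ y) (C *ᵥ c), hJ.swap y c, hJ.alt c, e3] at e2
      linear_combination e1 - fJ J b x * e2
    ext a a'
    have := hall (Pi.single a 1) (Pi.single a' 1)
    rw [fJ, fJ, ← vecMul_transpose, ← dotProduct_mulVec, Matrix.mulVec_mulVec, Matrix.mulVec_mulVec] at this
    simpa [single_dotProduct, Matrix.mul_assoc] using this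
  set Z := g.1 - C ⊗ₖ A with hZ
  set D := -((proj J c : Matrix ι (Fin k × ι) F) * (Z * (inj c : Matrix (Fin k × ι) ι F))) with hD
  have hZD : Z = root J b D := by
    have h1 : Z = ib * (-((proj J c : Matrix ι (Fin k × ι) F) * Z)) := eq_inj_of_proj hJ hbc fun u hu =>
      ext_inj fun v => by
        rw [Matrix.zero_mul, Matrix.mul_assoc, hZ, Matrix.sub_mul, kron_mul_inj, Matrix.mul_sub, proj_inj_assoc,
          hrow' u (by rw [hJ.swap, hu, neg_zero]) v, sub_self]
    refine ext_inj fun v => ?_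
    rw [root, rect, Matrix.mul_assoc, proj_mul_inj, Matrix.mul_smul, Matrix.mul_one, hD, ← hib]
    have h0 : Z * (inj (v - fJ J b v • c) : Matrix (Fin k × ι) ι F) = 0 := by
      have hv : fJ J b (v - fJ J b v • c) = 0 := by rw [fJ_sub_right, fJ_smul_right, hbc, mul_one, sub_self]
      rw [hZ, Matrix.sub_mul, kron_mul_inj, (hcol _ hv).1, sub_self]
    rw [inj_sub, inj_smul, Matrix.mul_sub, Matrix.mul_smul, sub_eq_zero] at h0
    rw [h0]
    congr 1
    conv_lhs => rw [h1]
    rw [Matrix.mul_assoc, Matrix.neg_mul, Matrix.mul_assoc]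
  -- remove the root part
  set D' := μ • (D * Ai) with hD'
  have hg' : g.1 = (1 + root J b D') * (C ⊗ₖ A) := by
    rw [Matrix.add_mul, Matrix.one_mul, root, rect, Matrix.mul_assoc, proj_mul_kron b C A (w := μ⁻¹ • b) (by
      have h := beta_mul_of_sim hCsim b
      rw [hCb] at h
      rw [h, beta, beta, Matrix.smul_vecMul]), proj_smul, hD']
    simp only [Matrix.mul_smul, Matrix.smul_mul, Matrix.mul_assoc, smul_smul, inv_mul_cancel₀ hμ, one_smul]
    rw [← Matrix.mul_assoc Ai, hAiA, Matrix.one_mul, ← Matrix.mul_assoc (inj b : Matrix (Fin k × ι) ι F)]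
    rw [show (inj b : Matrix (Fin k × ι) ι F) * D * (proj J b : Matrix ι (Fin k × ι) F) = root J b D from rfl, ← hZD,
      hZ, add_sub_cancel]
  clear_value D'
  have hC2 : ∀ x, InSp J x → ∃ x', InSp J x' ∧ C * x' = x * C := by
    intro x hx
    have hdet : IsUnit C.det := by
      have h1 := congrArg Matrix.det hCsim
      rw [Matrix.det_mul, Matrix.det_mul, Matrix.det_transpose, Matrix.det_smul] at h1
      refine isUnit_iff_ne_zero.2 fun h0 => ?_
      rw [h0, zero_mul, zero_mul] at h1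
      exact mul_ne_zero (pow_ne_zero _ (inv_ne_zero hμ)) hJ.unit.ne_zero h1.symm
    refine ⟨C⁻¹ * x * C, ?_, by rw [← Matrix.mul_assoc, ← Matrix.mul_assoc, Matrix.mul_nonsing_inv C hdet, Matrix.one_mul]⟩
    rw [inSp_iff]
    intro u v
    have hsim' : ∀ p q, fJ J (C *ᵥ p) (C *ᵥ q) = μ⁻¹ * fJ J p q := fun p q => by
      rw [fJ, ← vecMul_transpose, ← dotProduct_mulVec, Matrix.mulVec_mulVec, Matrix.mulVec_mulVec,
        hCsim, Matrix.smul_mulVec, dotProduct_smul]
      rfl
    have hCi : ∀ p, C *ᵥ ((C⁻¹ * x * C) *ᵥ p) = x *ᵥ (C *ᵥ p) := fun p => by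
      rw [Matrix.mulVec_mulVec, Matrix.mulVec_mulVec, ← Matrix.mul_assoc, ← Matrix.mul_assoc,
        Matrix.mul_nonsing_inv C hdet, Matrix.one_mul]
    refine mul_left_cancel₀ (inv_ne_zero hμ) ?_
    rw [← hsim', hCi, hCi, inSp_iff.1 hx, hsim']
  have hm' : ∀ x, InSp J x → fJ J b (x *ᵥ b) = 0 → InM M (root J b D' - root J (x *ᵥ b) D') := by
    intro x hx hxb
    obtain ⟨x', hx', hxx⟩ := hC2 x hx
    obtain ⟨m, hm, hme⟩ := hconj x' hx'
    obtain ⟨n, hn, hne⟩ := hM.sp x hx
    refine ⟨m * n⁻¹, mul_mem hm (inv_mem hn), ?_⟩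
    have hRC : ∀ R : Matrix (Fin k × ι) (Fin k × ι) F, R * (C ⊗ₖ A) = 0 → R = 0 := fun R h => by
      have h1 := congrArg (fun S => (1 + root J b D') * S) (show C ⊗ₖ A = C ⊗ₖ A from rfl)
      have h2 : (C ⊗ₖ A) = (1 - root J b D') * g.1 := by
        rw [hg', ← Matrix.mul_assoc, show (1 - root J b D') * (1 + root J b D') = 1 by
          noncomm_ring [root_mul_root hJ b D' D'], Matrix.one_mul]
      rw [h2, ← Matrix.mul_assoc] at h
      have h3 := congrArg (· * gi) h
      simp only [Matrix.mul_assoc, hggi, Matrix.mul_one, Matrix.zero_mul] at h3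
      have h4 := congrArg (· * (1 + root J b D')) h3
      simp only [Matrix.mul_assoc, Matrix.zero_mul] at h4
      rwa [show (1 - root J b D') * (1 + root J b D') = 1 by noncomm_ring [root_mul_root hJ b D' D'],
        Matrix.mul_one] at h4
    have hmr : m.1 * (1 + root J b D') = (1 + root J b D') * (x ⊗ₖ (1 : Matrix ι ι F)) := by
      rw [← sub_eq_zero]
      refine hRC _ ?_
      rw [Matrix.sub_mul, Matrix.mul_assoc, Matrix.mul_assoc, ← hg', hme, hg', Matrix.mul_assoc,
        ← Matrix.mul_kronecker_mul, ← Matrix.mul_kronecker_mul, hxx, Matrix.mul_one, Matrix.one_mul, sub_self]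
    have hninv : (x ⊗ₖ (1 : Matrix ι ι F)) * (n⁻¹ : GL (Fin k × ι) F).1 = 1 := by
      rw [← hne, ← Units.val_mul, mul_inv_cancel, Units.val_one]
    have hxr : (x ⊗ₖ (1 : Matrix ι ι F)) * root J b D' = root J (x *ᵥ b) D' * (x ⊗ₖ (1 : Matrix ι ι F)) :=
      kron_mul_rect hx b b D'
    have h1 := congrArg (fun S => S * (1 - root J b D') * (n⁻¹ : GL (Fin k × ι) F).1) hmr
    simp only [Matrix.mul_assoc] at h1
    rw [← Matrix.mul_assoc (1 + root J b D') (1 - root J b D'), show (1 + root J b D') * (1 - root J b D') = 1 by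
      noncomm_ring [root_mul_root hJ b D' D'], Matrix.one_mul] at h1
    rw [Units.val_mul, h1, ← Matrix.mul_assoc (x ⊗ₖ (1 : Matrix ι ι F)), Matrix.mul_sub, Matrix.mul_one, hxr,
      Matrix.sub_mul, hninv, Matrix.mul_assoc, hninv, Matrix.mul_one, Matrix.add_mul]
    simp only [Matrix.mul_sub, Matrix.one_mul, Matrix.mul_one, root, rect_mul, hxb, zero_smul, sub_zero]
    abel
  have hD's : IsScalarMat D' := by
    rcases hsize with h3 | ⟨a, ha, ha1⟩
    · obtain ⟨w, hbw, hw⟩ := hJ.exists_orth h3 hb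
      have hwb : fJ J w b = 0 := by rw [hJ.swap, hbw, neg_zero]
      have hne : ∀ s : F, b + s • w ≠ 0 := fun s e => by
        rcases eq_or_ne s 0 with rfl | hs
        · simp [hb] at e
        · exact hw (-s⁻¹) (by
            rw [neg_smul, eq_neg_iff_add_eq_zero]
            have := congrArg (s⁻¹ • ·) e
            rwa [smul_zero, smul_add, smul_smul, inv_mul_cancel₀ hs, one_smul, add_comm] at this)
      obtain ⟨x₁, hx₁, e₁⟩ := hJ.transitive hb (hne 1)
      rw [one_smul] at e₁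
      have h1 := hm' x₁ hx₁ (by rw [e₁, fJ_add_right, hJ.alt, hbw, add_zero])
      rw [e₁] at h1
      have hwi : ∀ c : F, b ≠ c • w := fun c e => by
        rcases eq_or_ne c 0 with rfl | hc
        · exact hb (by rw [e, zero_smul])
        · exact hw c⁻¹ (by rw [e, smul_smul, inv_mul_cancel₀ hc, one_smul])
      have hw0 : w ≠ 0 := fun e => hw 0 (by rw [e, zero_smul])
      obtain ⟨t, ht⟩ := hshort h3 _ (hM.short_of_mixed hwb hw0 hwi (D := -D') (E := -D') (L := -D') (by
        convert h1 using 1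
        rw [root_add_vec, link_comm w b, root_neg, link, link, rect_neg, rect_neg]
        abel))
      exact ⟨-t, by rw [neg_smul, ← ht, neg_neg]⟩
    · obtain ⟨x, hx, hxb, -, -⟩ := hJ.exists_torus hbc ha
      have h1 := hm' x hx (by rw [hxb, fJ_smul_right, hJ.alt, mul_zero])
      rw [hxb, root_smul_vec] at h1
      obtain ⟨t, ht⟩ := hsome _ (hM.long_of_one hb (D := (1 - a * a) • D') (by
        convert h1 using 1
        rw [root_smul, root_smul, sub_smul, one_smul]))
      refine ⟨t / (1 - a * a), ?_⟩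
      have h1a : (1 : F) - a * a ≠ 0 := sub_ne_zero.2 (Ne.symm ha1)
      have := congrArg ((1 - a * a)⁻¹ • ·) ht
      simp only [smul_smul, inv_mul_cancel₀ h1a, one_smul] at this
      rw [this, div_eq_inv_mul]
  obtain ⟨t, ht⟩ := hD's
  refine ⟨(1 + t • nilp J b) * C, A, ?_⟩
  rw [hg', ht, root_smul, root, rect_eq_kron, ← nilp, ← Matrix.smul_kronecker]
  conv_lhs => rw [← Matrix.one_kronecker_one, ← Matrix.add_kronecker, ← Matrix.mul_kronecker_mul, Matrix.one_mul]

end CfsgLib.Classical.WreathMaxSp
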