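import Cfsg.Prelude.Def_GeometricClasses
import Cfsg.Agent.Lib.Classical.OrthMaxBasic
import Cfsg.Agent.Lib.Classical.SympSimple
import Cfsg.Agent.Lib.Orth.Parity
import Cfsg.Agent.Lib.Orth.Similitude
import Cfsg.Agent.Lib.Classical.WreathMaxSp.Classify
import Cfsg.Agent.Lib.Classical.WreathMaxSp.Climb
import Cfsg.Agent.Lib.Classical.WreathMaxSp.Main

/-!
# An orthogonal space which is a tensor power of a symplectic space

The groups of the factors and enough permutations of the factors lie in `Ω`.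
-/

set_option autoImplicit false
set_option linter.unusedSectionVars false

open Matrix Module QuadraticMap CfsgLib.Orth CfsgLib.Classical CfsgLib.Classical.WreathMax

namespace CfsgLib.Classical.WreathMaxSp

variable {F : Type*} [Field F] {κ : Type} [Fintype κ] [DecidableEq κ] {k : ℕ}
  {J : Matrix (Fin k) (Fin k) F} {Q : QuadraticForm F ((κ → Fin k) → F)} {c : F}

/-! ### Pure vectors -/

theorem pv_single (x : κ → Fin k) : pv (fun l => Pi.single (x l) (1 : F)) = Pi.single x (1 : F) := by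
  funext y
  by_cases h : y = x
  · subst h
    simp [pv]
  · obtain ⟨l, hl⟩ := Function.ne_iff.1 h
    rw [Pi.single_eq_of_ne h]
    exact Finset.prod_eq_zero (Finset.mem_univ l) (Pi.single_eq_of_ne hl _)

theorem pv_update_add (u : κ → Fin k → F) (i : κ) (a b : Fin k → F) :
    pv (Function.update u i (a + b)) = pv (Function.update u i a) + pv (Function.update u i b) := by
  have key : ∀ (w : Fin k → F) (x : κ → Fin k), pv (Function.update u i w) x =
      w (x i) * ∏ l ∈ Finset.univ.erase i, u l (x l) := fun w x => by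
    rw [pv, ← Finset.mul_prod_erase Finset.univ _ (Finset.mem_univ i), Function.update_self]
    exact congrArg _ (Finset.prod_congr rfl fun l hl => by rw [Function.update_of_ne (Finset.ne_of_mem_erase hl)])
  funext x
  rw [Pi.add_apply, key, key, key, Pi.add_apply, add_mul]

theorem pv_dot_gramT (u v : κ → Fin k → F) :
    pv u ⬝ᵥ (gramT κ J *ᵥ pv v) = ∏ l, fJ J (u l) (v l) := by
  rw [gramT, tens_mulVec_pv, pv_dot]
  rfl

/-- A quadratic form with singular pure tensors, whose polar form is a tensor power of `J`. -/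
structure OModel (Q : QuadraticForm F ((κ → Fin k) → F)) (J : Matrix (Fin k) (Fin k) F) (c : F) : Prop where
  jGram : SkewGram J
  c_ne : c ≠ 0
  pol : ∀ x y, polar Q x y = c * (x ⬝ᵥ (gramT κ J *ᵥ y))
  pure : ∀ u, Q (pv u) = 0
  dim : 5 ≤ finrank F ((κ → Fin k) → F)
  two : 2 ≤ k

namespace OModel

variable (hm : OModel Q J c)
include hm

theorem pol_pv (u v : κ → Fin k → F) : polar Q (pv u) (pv v) = c * ∏ l, fJ J (u l) (v l) := by
  rw [hm.pol, pv_dot_gramT]

theorem nondeg : (polarBilin Q).Nondegenerate :=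
  nondegenerate_of_left fun v hv => by
    refine Matrix.eq_zero_of_vecMul_eq_zero (gramT_formed (κ := κ) hm.jGram).unit.ne_zero (funext fun a => ?_)
    have h := hv (Pi.single a 1)
    rw [hm.pol, dotProduct_mulVec, mul_eq_zero, or_iff_right hm.c_ne] at h
    simpa using h

theorem good : Good F ((κ → Fin k) → F) := by
  exact Or.inr (by have := hm.dim; omega)

theorem gramT_symm : (gramT κ J)ᵀ = gramT κ J := by
  ext a b
  have h1 := hm.pol (Pi.single a 1) (Pi.single b 1)
  rw [polar_comm, hm.pol] at h1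
  simpa [single_dotProduct] using mul_left_cancel₀ hm.c_ne h1

theorem mem_isometry_iff {g : GL (κ → Fin k) F} :
    g ∈ Cfsg.isometryGroup F ⇑Q ↔ g.1ᵀ * gramT κ J * g.1 = gramT κ J ∧ ∀ u, Q (g.1 *ᵥ pv u) = 0 := by
  have hpol : g.1ᵀ * gramT κ J * g.1 = gramT κ J →
      ∀ x y, polar Q (g.1 *ᵥ x) (g.1 *ᵥ y) = polar Q x y := fun h x y => by
    rw [hm.pol, hm.pol, ← vecMul_transpose, ← dotProduct_mulVec, Matrix.mulVec_mulVec, Matrix.mulVec_mulVec, h]
  constructor
  · intro hg
    have h0 : ∀ v, Q (g.1 *ᵥ v) = Q v := fun v => hg v v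
    refine ⟨Matrix.ext fun a b => ?_, fun u => (h0 _).trans (hm.pure u)⟩
    have h1 : polar Q (g.1 *ᵥ Pi.single a 1) (g.1 *ᵥ Pi.single b 1) = polar Q (Pi.single a 1) (Pi.single b 1) := by
      simp only [polar, ← Matrix.mulVec_add, h0]
    rw [hm.pol, hm.pol, ← vecMul_transpose, ← dotProduct_mulVec, Matrix.mulVec_mulVec, Matrix.mulVec_mulVec] at h1
    simpa [single_dotProduct] using mul_left_cancel₀ hm.c_ne h1
  · rintro ⟨h, hp⟩
    have hsum : ∀ (s : Finset (κ → Fin k)) (a : (κ → Fin k) → F),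
        Q (g.1 *ᵥ ∑ x ∈ s, a x • Pi.single x (1 : F)) = Q (∑ x ∈ s, a x • Pi.single x (1 : F)) := by
      intro s a
      induction s using Finset.induction_on with
      | empty => simp
      | insert x s hx ih =>
        rw [Finset.sum_insert hx, Matrix.mulVec_add, quad_add', quad_add', ih, hpol h, Matrix.mulVec_smul,
          quad_smul', quad_smul', ← pv_single, hp, hm.pure]
    intro v _
    have := hsum Finset.univ v
    rwa [← pi_eq_sum_univ' v] at this

theorem orth_apply (o : orthGroup Q) (v : (κ → Fin k) → F) :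
    (orthToGL Q (Qf := ⇑Q) (fun _ => rfl) o).1 *ᵥ v = o.1 v := by
  rw [← Matrix.toLin'_apply, toLin'_orthToGL]
  rfl

/-- The orthogonal map of an isometric matrix. -/
noncomputable def toO (_ : OModel Q J c) {g : GL (κ → Fin k) F} (hg : g ∈ Cfsg.isometryGroup F ⇑Q) : orthGroup Q :=
  toOrth Q (Qf := ⇑Q) (fun _ => rfl) ⟨g, hg⟩

theorem mem_omega {g : GL (κ → Fin k) F} :
    g ∈ Cfsg.Geo.omegaGL ⇑Q ↔
      ∃ hg : g ∈ Cfsg.isometryGroup F ⇑Q, hm.toO hg ∈ commutator (orthGroup Q) := by
  constructor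
  · rintro ⟨x, hx, rfl⟩
    exact ⟨x.2, (mem_Omega_iff Q _ x).1 hx⟩
  · rintro ⟨hg, h⟩
    exact ⟨⟨g, hg⟩, (mem_Omega_iff Q _ _).2 h, rfl⟩

/-! ### The factors -/

/-- The form of one factor. -/
noncomputable def fac (_ : OModel Q J c) : (Fin k → F) →ₗ[F] (Fin k → F) →ₗ[F] F := Matrix.toLinearMap₂' F J

theorem fac_apply (u v : Fin k → F) : hm.fac u v = fJ J u v := Matrix.toLinearMap₂'_apply' J u v

theorem fac_alt : hm.fac.IsAlt := fun u => (hm.fac_apply u u).trans (hm.jGram.alt u)

theorem fac_nondeg : hm.fac.Nondegenerate :=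
  ⟨fun u h => hm.jGram.eq_zero_of_left fun v => (hm.fac_apply u v).symm.trans (h v),
    fun v h => hm.jGram.eq_zero_of_left fun u => by
      rw [hm.jGram.swap, ← hm.fac_apply, h u, neg_zero]⟩

theorem fac_perfect [Fintype F] (hsize : 3 ≤ k ∨ 4 ≤ Fintype.card F) :
    commutator (isomGroup hm.fac) = ⊤ := by
  classical
  have hJ := hm.jGram
  have hk := hm.two
  haveI : Nonempty (Fin k) := ⟨⟨0, by omega⟩⟩
  obtain ⟨b, hb⟩ := exists_ne (0 : Fin k → F)
  by_cases hex : ∃ a : F, a ≠ 0 ∧ a ^ 2 ≠ 1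
  · obtain ⟨a, ha, ha2⟩ := hex
    exact isom_perfect_of_four hm.fac_alt hm.fac_nondeg hb ha ha2
  push Not at hex
  have hcard : Fintype.card F ≤ 3 := by
    have hsub : (Finset.univ : Finset F) ⊆ {0, 1, -1} := fun x _ => by
      simp only [Finset.mem_insert, Finset.mem_singleton]
      by_cases hx : x = 0
      · exact Or.inl hx
      · exact Or.inr (sq_eq_one_iff.1 (hex x hx))
    exact (Finset.card_le_card hsub).trans Finset.card_le_three
  obtain ⟨w, hbw, hw⟩ := hJ.exists_orth (by omega) hb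
  have hind : LinearIndependent F ![b, w] := (LinearIndependent.pair_iff' hb).2 fun a e => hw a e.symm
  rcases hJ.big with h2 | h6
  · exact isom_perfect_of_two_ne_zero hm.fac_alt hm.fac_nondeg h2 hind ((hm.fac_apply b w).trans hbw)
  · obtain ⟨x, hbx, hwx, hx⟩ := hJ.exists_orth_plane (by omega) b w
    have hi : LinearIndependent F ![b, w, x] := by
      rw [Fintype.linearIndependent_iff]
      intro g hg
      simp only [Fin.sum_univ_three, Matrix.cons_val_zero, Matrix.cons_val_one, Matrix.cons_val_two,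
        Matrix.tail_cons, Matrix.head_cons] at hg
      have hg2 : g 2 = 0 := by
        by_contra h0
        refine hx (-(g 2)⁻¹ * g 0) (-(g 2)⁻¹ * g 1) ?_
        have h1 := congrArg ((g 2)⁻¹ • ·) (eq_neg_of_add_eq_zero_right hg)
        simp only [smul_smul, inv_mul_cancel₀ h0, one_smul] at h1
        rw [h1]
        module
      rw [hg2, zero_smul, add_zero] at hg
      obtain ⟨h0, h1⟩ := LinearIndependent.pair_iff.1 hind _ _ hg
      intro i
      fin_cases i <;> assumption
    exact isom_perfect_of_three hm.fac_alt hm.fac_nondeg hi ((hm.fac_apply b w).trans hbw)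
      ((hm.fac_apply b x).trans hbx) ((hm.fac_apply w x).trans hwx)

/-- A factor matrix gives an isometry. -/
theorem op_isom {g : GL (κ → Fin k) F} {i : κ} {C : Matrix (Fin k) (Fin k) F} (hC : InSp J C)
    (e : g.1 = op i C) : g ∈ Cfsg.isometryGroup F ⇑Q :=
  hm.mem_isometry_iff.2 ⟨by rw [e]; exact op_isometry hC i, fun u => by
    rw [e, op_eq_tens, tens_mulVec_pv]; exact hm.pure _⟩

/-- The matrix of a map of one factor. -/
noncomputable def facMat (_ : OModel Q J c) : isomGroup (Matrix.toLinearMap₂' F J) →* Matrix (Fin k) (Fin k) F where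
  toFun a := LinearMap.toMatrix' (a.1 : (Fin k → F) →ₗ[F] (Fin k → F))
  map_one' := LinearMap.toMatrix'_id
  map_mul' _ _ := LinearMap.toMatrix'_comp _ _

theorem facMat_inSp (a : isomGroup hm.fac) : InSp J (hm.facMat a) :=
  inSp_iff.2 fun u v => by
    rw [← hm.fac_apply, ← hm.fac_apply]
    have : ∀ w, hm.facMat a *ᵥ w = a.1 w := fun w => LinearMap.toMatrix'_mulVec _ _
    rw [this, this]
    exact isomGroup_apply a u v

/-- The groups of the factors lie in `Ω`. -/
theorem op_mem_omega [Fintype F] (hsize : 3 ≤ k ∨ 4 ≤ Fintype.card F) (i : κ) {C : Matrix (Fin k) (Fin k) F}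
    (hC : InSp J C) : ∃ g ∈ Cfsg.Geo.omegaGL ⇑Q, g.1 = op i C := by
  classical
  let ψ : isomGroup hm.fac →* ↥(Cfsg.isometryGroup F ⇑Q) :=
    (((op i).comp hm.facMat).toHomUnits).codRestrict _ fun a => hm.op_isom (hm.facMat_inSp a) rfl
  obtain ⟨C', hCC⟩ := hC.exists_inv hm.jGram
  let e : (Fin k → F) ≃ₗ[F] (Fin k → F) := Matrix.toLin'OfInv (mul_eq_one_comm.1 hCC) hCC
  have he : ∀ w, e w = C *ᵥ w := fun w => rfl
  have hmem : e ∈ isomGroup hm.fac := mem_isomGroup.2 fun u v => by
    rw [hm.fac_apply, hm.fac_apply, he, he, inSp_iff.1 hC]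
  refine ⟨(ψ ⟨e, hmem⟩).1, ⟨ψ ⟨e, hmem⟩, ?_, rfl⟩, ?_⟩
  · have h1 : (commutator (isomGroup hm.fac)).map ψ ≤ commutator _ := by
      rw [commutator_def, Subgroup.map_commutator, commutator_def]
      exact Subgroup.commutator_mono le_top le_top
    exact h1 ⟨_, hm.fac_perfect hsize ▸ Subgroup.mem_top _, rfl⟩
  · show op i (hm.facMat ⟨e, hmem⟩) = op i C
    congr 1
    exact Matrix.ext_of_mulVec_single fun a => (LinearMap.toMatrix'_mulVec _ _).trans (he _)

/-! ### Permutations of the factors -/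

theorem perm_isom (σ : Equiv.Perm κ) : (permU σ : GL (κ → Fin k) F) ∈ Cfsg.isometryGroup F ⇑Q :=
  hm.mem_isometry_iff.2 ⟨by rw [permU_coe]; exact permM_isometry σ, fun u => by
    rw [permU_coe, permM_mulVec_pv]; exact hm.pure _⟩

/-- The action of permutations of the factors. -/
noncomputable def permO : Equiv.Perm κ →* orthGroup Q :=
  (toOrth Q (Qf := ⇑Q) (fun _ => rfl)).toMonoidHom.comp ((permU (F := F) (m := k)).codRestrict _ hm.perm_isom)

theorem permU_mem_omega {σ : Equiv.Perm κ} (h : hm.permO σ ∈ commutator (orthGroup Q)) :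
    (permU σ : GL (κ → Fin k) F) ∈ Cfsg.Geo.omegaGL ⇑Q :=
  hm.mem_omega.2 ⟨hm.perm_isom σ, h⟩

theorem permO_mem_of_sign (σ : Equiv.Perm κ) (hσ : Equiv.Perm.sign σ = 1) :
    hm.permO σ ∈ commutator (orthGroup Q) := by
  have hle : alternatingGroup κ ≤ (commutator (orthGroup Q)).comap hm.permO := by
    rw [← Equiv.Perm.closure_three_cycles_eq_alternating, Subgroup.closure_le]
    intro τ hτ
    have h3 : τ = (τ * τ) * (τ * τ) := by
      have := pow_orderOf_eq_one τ
      rw [hτ.orderOf, pow_three] at this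
      calc τ = τ * (τ * (τ * τ)) := by rw [this, mul_one]
        _ = (τ * τ) * (τ * τ) := (mul_assoc _ _ _).symm
    show hm.permO τ ∈ commutator (orthGroup Q)
    rw [h3, map_mul]
    exact sq_mem_commutator hm.nondeg hm.good _
  exact hle (Equiv.Perm.mem_alternatingGroup.2 hσ)

/-- In even characteristic a permutation fixing a factor lies in `Ω`. -/
theorem permO_mem_of_fix [Fintype F] (h2 : (2 : F) = 0) {i : κ} {σ : Equiv.Perm κ} (hσ : σ i = i) :
    hm.permO σ ∈ commutator (orthGroup Q) := by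
  classical
  haveI : CharP F 2 := CharTwo.of_one_ne_zero_of_two_eq_zero one_ne_zero h2
  obtain ⟨m, e, he⟩ := exists_sympBasis hm.fac_alt hm.fac_nondeg
  let E : Set (Fin k → F) := Submodule.span F (Set.range fun s => e (Sum.inl s))
  let E' : Set (Fin k → F) := Submodule.span F (Set.range fun s => e (Sum.inr s))
  let U : Set (Fin k → F) → Submodule F ((κ → Fin k) → F) := fun S =>
    Submodule.span F {x | ∃ u, u i ∈ S ∧ x = pv u}
  have hiso : ∀ (f : Fin m → Fin k → F), (∀ s s', hm.fac (f s) (f s') = 0) →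
      ∀ x ∈ Submodule.span F (Set.range f), ∀ y ∈ Submodule.span F (Set.range f), fJ J x y = 0 := by
    intro f hf x hx y hy
    rw [← hm.fac_apply]
    obtain ⟨a, rfl⟩ := (Submodule.mem_span_range_iff_exists_fun F).1 hx
    obtain ⟨a', rfl⟩ := (Submodule.mem_span_range_iff_exists_fun F).1 hy
    simp [map_sum, LinearMap.sum_apply, hf]
  have hE : ∀ x ∈ E, ∀ y ∈ E, fJ J x y = 0 := hiso _ fun s s' => he.2.1 s s'
  have hE' : ∀ x ∈ E', ∀ y ∈ E', fJ J x y = 0 := hiso _ fun s s' => he.2.2 s s'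
  have hperp : ∀ S : Set (Fin k → F), (∀ x ∈ S, ∀ y ∈ S, fJ J x y = 0) → ∀ x ∈ U S, ∀ y ∈ U S, polar Q x y = 0 := by
    intro S hS x hx y hy
    induction hx using Submodule.span_induction with
    | mem x hx =>
      induction hy using Submodule.span_induction with
      | mem y hy =>
        obtain ⟨u, hu, rfl⟩ := hx
        obtain ⟨v, hv, rfl⟩ := hy
        rw [hm.pol_pv, Finset.prod_eq_zero (Finset.mem_univ i) (hS _ hu _ hv), mul_zero]
      | zero => rw [polar_zero_right]
      | add a b _ _ ha hb => rw [polar_add_right, ha, hb, add_zero]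
      | smul r a _ ha => rw [polar_smul_r', ha, mul_zero]
    | zero => rw [polar_zero_left]
    | add a b _ _ ha hb => rw [polar_add_left, ha, hb, add_zero]
    | smul r a _ ha => rw [polar_smul_l', ha, mul_zero]
  have hQ0 : ∀ x ∈ U E, Q x = 0 := by
    intro x hx
    induction hx using Submodule.span_induction with
    | mem x hx => obtain ⟨u, -, rfl⟩ := hx; exact hm.pure u
    | zero => exact map_zero Q
    | add a b ha' hb' ha hb => rw [quad_add', ha, hb, hperp E hE a ha' b hb', add_zero, add_zero]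
    | smul r a _ ha => rw [quad_smul', ha, mul_zero]
  have hdec : ∀ x, x ∈ U E ⊔ U E' := by
    intro x
    rw [pi_eq_sum_univ' x]
    refine Submodule.sum_mem _ fun a _ => Submodule.smul_mem _ _ ?_
    set u₀ : κ → Fin k → F := fun l => Pi.single (a l) (1 : F) with hu₀
    obtain ⟨p, hp, r, hr, hpr⟩ : ∃ p ∈ E, ∃ r ∈ E', p + r = u₀ i := by
      refine ⟨∑ s, e.repr (u₀ i) (.inl s) • e (.inl s), ?_, ∑ s, e.repr (u₀ i) (.inr s) • e (.inr s), ?_, ?_⟩
      · exact Submodule.sum_mem _ fun s _ => Submodule.smul_mem _ _ (Submodule.subset_span ⟨s, rfl⟩)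
      · exact Submodule.sum_mem _ fun s _ => Submodule.smul_mem _ _ (Submodule.subset_span ⟨s, rfl⟩)
      · rw [← Fintype.sum_sum_type fun s => e.repr (u₀ i) s • e s, e.sum_repr]
    rw [← pv_single, ← hu₀, ← Function.update_eq_self i u₀, ← hpr, pv_update_add]
    exact Submodule.add_mem_sup
      (Submodule.subset_span ⟨Function.update u₀ i p, by rw [Function.update_self]; exact hp, rfl⟩)
      (Submodule.subset_span ⟨Function.update u₀ i r, by rw [Function.update_self]; exact hr, rfl⟩)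
  have hLag : IsLagrangian Q (U E) := by
    refine ⟨hQ0, le_antisymm (fun x hx => ?_) fun x hx y hy => hperp E hE y hy x hx⟩
    obtain ⟨a, ha, b, hb, rfl⟩ := Submodule.mem_sup.1 (hdec x)
    suffices hb0 : b = 0 by rw [hb0, add_zero]; exact ha
    refine hm.nondeg.1 b fun z => ?_
    obtain ⟨a', ha', b', hb', rfl⟩ := Submodule.mem_sup.1 (hdec z)
    show polar Q b (a' + b') = 0
    rw [polar_add_right, hperp E' hE' b hb b' hb', add_zero]
    have h : polar Q a' (a + b) = 0 := hx a' ha'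
    rwa [polar_add_right, hperp E hE a' ha' a ha, zero_add, polar_comm] at h
  refine (mem_commutator_iff_even_two hm.nondeg hm.good hLag (hm.permO σ)).2 ?_
  have hle : (U E).map ((hm.permO σ).1 : ((κ → Fin k) → F) →ₗ[F] _) ≤ U E := by
    rw [Submodule.map_span_le]
    rintro _ ⟨u, hu, rfl⟩
    refine Submodule.subset_span ⟨fun l => u (σ⁻¹ l), ?_, ?_⟩
    · show u (σ⁻¹ i) ∈ E
      rwa [Equiv.Perm.inv_eq_iff_eq.2 hσ.symm]
    · show (permU σ : GL (κ → Fin k) F).1 *ᵥ pv u = _
      rw [permU_coe, permM_mulVec_pv]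
  rw [Submodule.eq_of_le_of_finrank_eq hle (LinearEquiv.finrank_map_eq _ _), lagDist_self]
  exact Even.zero

/-- The permutations in `Ω` move pairs of factors away from a given one arbitrarily. -/
theorem pairTrans [Fintype F] (hpar : (2 : F) ≠ 0 → Even (Fintype.card κ)) {M : Subgroup (GL (κ → Fin k) F)}
    (hsub : ∀ g ∈ Cfsg.Geo.omegaGL ⇑Q, g ∈ wreathT F κ k → g ∈ M) (i : κ) : PairTrans M i := by
  classical
  intro a a' p p' ha ha' hp hp' hiff
  suffices h : ∃ σ : Equiv.Perm κ, σ i = i ∧ (σ a = p ∧ σ a' = p' ∨ σ a = p' ∧ σ a' = p) ∧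
      ((2 : F) ≠ 0 → Equiv.Perm.sign σ = 1) by
    obtain ⟨σ, hσi, hσ, hsign⟩ := h
    refine ⟨σ, hσi, hσ, permU σ, hsub _ (hm.permU_mem_omega ?_) (permU_mem σ), permU_coe σ⟩
    by_cases h2 : (2 : F) = 0
    · exact hm.permO_mem_of_fix h2 hσi
    · exact hm.permO_mem_of_sign σ (hsign h2)
  by_cases haa : a = a'
  · have hpp : p = p' := hiff.1 haa
    subst haa hpp
    by_cases hap : a = p
    · subst hap
      exact ⟨1, rfl, Or.inl ⟨rfl, rfl⟩, fun _ => map_one _⟩
    by_cases h2 : (2 : F) = 0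
    · exact ⟨Equiv.swap a p, Equiv.swap_apply_of_ne_of_ne ha.symm hp.symm,
        Or.inl ⟨Equiv.swap_apply_left a p, Equiv.swap_apply_left a p⟩, fun h => absurd h2 h⟩
    obtain ⟨d, hd⟩ : ∃ d, d ∉ ({i, a, p} : Finset κ) := by
      by_contra hc
      push Not at hc
      have h3 : Fintype.card κ = 3 := by
        rw [← Finset.card_univ, show (Finset.univ : Finset κ) = {i, a, p} from
          (Finset.eq_univ_iff_forall.2 hc).symm]
        simp [ha.symm, hp.symm, hap]
      exact absurd (h3 ▸ hpar h2) (by decide)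
    simp only [Finset.mem_insert, Finset.mem_singleton, not_or] at hd
    have e : (Equiv.swap a p * Equiv.swap p d) a = p := by
      rw [Equiv.Perm.mul_apply, Equiv.swap_apply_of_ne_of_ne hap (Ne.symm hd.2.1), Equiv.swap_apply_left]
    refine ⟨Equiv.swap a p * Equiv.swap p d, ?_, Or.inl ⟨e, e⟩, fun _ => ?_⟩
    · rw [Equiv.Perm.mul_apply, Equiv.swap_apply_of_ne_of_ne hp.symm (Ne.symm hd.1),
        Equiv.swap_apply_of_ne_of_ne ha.symm hp.symm]
    · rw [map_mul, Equiv.Perm.sign_swap hap, Equiv.Perm.sign_swap (Ne.symm hd.2.2)]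
      rfl
  · have hpp : p ≠ p' := fun h => haa (hiff.2 h)
    obtain ⟨σ₀, h0i, h0a, h0a'⟩ : ∃ σ : Equiv.Perm κ, σ i = i ∧ σ a = p ∧ σ a' = p' := by
      set τ := Equiv.swap a p with hτ
      have hτi : τ i = i := Equiv.swap_apply_of_ne_of_ne ha.symm hp.symm
      have hbi : τ a' ≠ i := fun h => ha' (τ.injective (h.trans hτi.symm))
      refine ⟨Equiv.swap (τ a') p' * τ, ?_, ?_, ?_⟩
      · rw [Equiv.Perm.mul_apply, hτi, Equiv.swap_apply_of_ne_of_ne hbi.symm hp'.symm]
      · rw [Equiv.Perm.mul_apply, hτ, Equiv.swap_apply_left, Equiv.swap_apply_of_ne_of_ne _ hpp]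
        intro h
        rw [← Equiv.swap_apply_left a p] at h
        exact haa (τ.injective (by simpa [hτ] using h))
      · rw [Equiv.Perm.mul_apply, Equiv.swap_apply_left]
    rcases Int.units_eq_one_or (Equiv.Perm.sign σ₀) with hs | hs
    · exact ⟨σ₀, h0i, Or.inl ⟨h0a, h0a'⟩, fun _ => hs⟩
    · refine ⟨Equiv.swap p p' * σ₀, ?_, Or.inr ⟨?_, ?_⟩, fun _ => ?_⟩
      · rw [Equiv.Perm.mul_apply, h0i, Equiv.swap_apply_of_ne_of_ne hp.symm hp'.symm]
      · rw [Equiv.Perm.mul_apply, h0a, Equiv.swap_apply_left]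
      · rw [Equiv.Perm.mul_apply, h0a', Equiv.swap_apply_right]
      · rw [map_mul, Equiv.Perm.sign_swap hpp, hs]
        decide

end OModel

end CfsgLib.Classical.WreathMaxSp
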