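import Cfsg.Agent.Lib.Classical.OrthMaxTS
import Cfsg.Agent.Lib.Classical.WreathMaxSp.OmegaModel

/-!
# All root elements of the factors give the whole of `Ω`
-/

set_option autoImplicit false
set_option linter.unusedSectionVars false

open Matrix Module QuadraticMap CfsgLib.Orth CfsgLib.Classical CfsgLib.Classical.WreathMax
open scoped Kronecker

namespace CfsgLib.Classical.WreathMaxSp

variable {F : Type*} [Field F] {κ : Type} [Fintype κ] [DecidableEq κ] {k : ℕ}
  {J : Matrix (Fin k) (Fin k) F} {Q : QuadraticForm F ((κ → Fin k) → F)} {c : F}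

/-- The product of a vector at the factor `i` and a tensor on the other factors. -/
def join (i : κ) : (Fin k → F) →ₗ[F] ((Rest i → Fin k) → F) →ₗ[F] ((κ → Fin k) → F) :=
  LinearMap.mk₂ F (fun b r x => pvec b r (Equiv.funSplitAt i (Fin k) x))
    (fun b b' r => funext fun x => by simp [pvec, add_mul])
    (fun a b r => funext fun x => by simp [pvec, mul_assoc])
    (fun b r r' => funext fun x => by simp [pvec, mul_add])
    (fun a b r => funext fun x => by simp [pvec, mul_left_comm])

theorem join_apply (i : κ) (b : Fin k → F) (r : (Rest i → Fin k) → F) (x : κ → Fin k) :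
    join i b r x = pvec b r (Equiv.funSplitAt i (Fin k) x) := rfl

theorem join_pv (i : κ) (b : Fin k → F) (w : Rest i → Fin k → F) :
    join i b (pv w) = pv fun l => if h : l = i then b else w ⟨l, h⟩ := by
  funext x
  rw [join_apply, pvec, pv, pv, ← Finset.mul_prod_erase Finset.univ _ (Finset.mem_univ i), dif_pos rfl,
    Finset.prod_subtype (p := fun l => l ≠ i) (Finset.univ.erase i) (by simp)]
  congr 1
  refine Finset.prod_congr rfl fun l _ => ?_
  rw [dif_neg l.2]
  rfl

theorem sum_join (i : κ) (y : (κ → Fin k) → F) :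
    ∑ a, join i (Pi.single a (1 : F)) (fun s => y ((Equiv.funSplitAt i (Fin k)).symm (a, s))) = y := by
  funext x
  rw [Finset.sum_apply, Finset.sum_eq_single ((Equiv.funSplitAt i (Fin k)) x).1
    (fun a _ ha => by rw [join_apply, pvec, Pi.single_eq_of_ne (Ne.symm ha), zero_mul])
    (fun h => absurd (Finset.mem_univ _) h), join_apply, pvec, Pi.single_eq_same, one_mul, Prod.mk.eta,
    Equiv.symm_apply_apply]

theorem join_dot (i : κ) (b v : Fin k → F) (r s : (Rest i → Fin k) → F) :
    join i b r ⬝ᵥ join i v s = (b ⬝ᵥ v) * (r ⬝ᵥ s) := by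
  show (pvec b r ∘ _) ⬝ᵥ (pvec v s ∘ _) = _
  rw [comp_equiv_dotProduct_comp_equiv, pvec_dot]

theorem join_vecMul (i : κ) (b : Fin k → F) (r : (Rest i → Fin k) → F) :
    join i b r ᵥ* gramT κ J = join i (beta J b) (r ᵥ* gramT (Rest i) J) := by
  funext x
  rw [join_apply i (beta J b), ← pvec_vecMul_gram, ← split_gramT]
  simp only [Matrix.vecMul, dotProduct, split_apply, Equiv.symm_apply_apply]
  exact Fintype.sum_equiv (Equiv.funSplitAt i (Fin k)) _ _ fun y => by
    rw [Equiv.symm_apply_apply]; rfl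

namespace OModel

variable (hm : OModel Q J c)
include hm

/-- The form on the other factors. -/
noncomputable def rest (_ : OModel Q J c) (i : κ) :
    ((Rest i → Fin k) → F) →ₗ[F] ((Rest i → Fin k) → F) →ₗ[F] F := Matrix.toLinearMap₂' F (gramT (Rest i) J)

theorem rest_apply {i : κ} (r s : (Rest i → Fin k) → F) :
    hm.rest i r s = r ⬝ᵥ (gramT (Rest i) J *ᵥ s) := Matrix.toLinearMap₂'_apply' _ r s

theorem polar_join (i : κ) (b v : Fin k → F) (r s : (Rest i → Fin k) → F) :
    polar Q (join i b r) (join i v s) = c * (fJ J b v * hm.rest i r s) := by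
  rw [hm.pol, dotProduct_mulVec, join_vecMul, join_dot, beta_dot, hm.rest_apply, ← dotProduct_mulVec]

theorem quad_join (i : κ) (b : Fin k → F) (r : (Rest i → Fin k) → F) : Q (join i b r) = 0 := by
  rw [pi_eq_sum_univ' r]
  generalize (Finset.univ : Finset (Rest i → Fin k)) = t
  induction t using Finset.induction_on with
  | empty => simp
  | insert x t hx ih =>
    have h0 : Q (join i b (Pi.single x (1 : F))) = 0 := by rw [← pv_single, join_pv]; exact hm.pure _
    rw [Finset.sum_insert hx, map_add, quad_add', ih, hm.polar_join, hm.jGram.alt, map_smul, quad_smul', h0]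
    ring

theorem rest_alt (i : κ) : (hm.rest i).IsAlt := fun s => by
  haveI : Nonempty (Fin k) := ⟨⟨0, by have := hm.two; omega⟩⟩
  obtain ⟨b, hb⟩ := exists_ne (0 : Fin k → F)
  obtain ⟨v, hv⟩ := hm.jGram.exists_pair hb
  have h := hm.polar_join i b v s s
  rw [polar, ← LinearMap.add_apply, ← map_add, hm.quad_join, hm.quad_join, hm.quad_join, hv, one_mul, sub_zero,
    sub_zero] at h
  exact (mul_eq_zero.1 h.symm).resolve_left hm.c_ne

theorem rest_swap {i : κ} (r s : (Rest i → Fin k) → F) : hm.rest i r s = -hm.rest i s r :=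
  ((hm.rest_alt i).neg s r).symm

theorem rest_transpose (i : κ) : (gramT (Rest i) J)ᵀ = -gramT (Rest i) J := by
  ext a a'
  have h := hm.rest_swap (i := i) (Pi.single a' 1) (Pi.single a 1)
  simpa [hm.rest_apply, single_dotProduct] using h

theorem rest_exists {i : κ} {r : (Rest i → Fin k) → F} (hr : r ≠ 0) : ∃ q, hm.rest i r q = 1 := by
  obtain ⟨q, hq⟩ : ∃ q, hm.rest i r q ≠ 0 := by
    by_contra hall
    push Not at hall
    refine hr (Matrix.eq_zero_of_vecMul_eq_zero (gramT_formed (κ := Rest i) hm.jGram).unit.ne_zero (funext fun a => ?_))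
    have := hall (Pi.single a 1)
    rw [hm.rest_apply, dotProduct_mulVec] at this
    simpa using this
  exact ⟨(hm.rest i r q)⁻¹ • q, by rw [map_smul, smul_eq_mul, inv_mul_cancel₀ hq]⟩

theorem root_eq (i : κ) (b : Fin k → F) (r s : (Rest i → Fin k) → F) :
    op i (nilp J b) * embM i (vecMulVec r (s ᵥ* gramT (Rest i) J) +
        adjH (gramT (Rest i) J) (vecMulVec r (s ᵥ* gramT (Rest i) J))) =
      vecMulVec (join i b r) (join i b s ᵥ* gramT κ J) - vecMulVec (join i b s) (join i b r ᵥ* gramT κ J) := by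
  set H := gramT (Rest i) J with hH
  have hX : adjH H (vecMulVec r (s ᵥ* H)) = -vecMulVec s (r ᵥ* H) := by
    rw [adjH, Matrix.transpose_vecMulVec, Matrix.mul_vecMulVec, Matrix.vecMulVec_mul, ← Matrix.mulVec_transpose H s,
      hm.rest_transpose, Matrix.neg_mulVec, Matrix.mulVec_neg, Matrix.mulVec_mulVec,
      Matrix.nonsing_inv_mul _ (gramT_formed hm.jGram).unit, Matrix.one_mulVec, neg_vecMulVec]
  refine Matrix.ext fun x y => ?_
  have h := congrFun (congrFun (split_op_mul_embM (J := J) i b (vecMulVec r (s ᵥ* H) + adjH H (vecMulVec r (s ᵥ* H))))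
    (Equiv.funSplitAt i (Fin k) x)) (Equiv.funSplitAt i (Fin k) y)
  rw [split_apply, Equiv.symm_apply_apply, Equiv.symm_apply_apply] at h
  rw [h, root, rect_eq_kron, hX]
  simp only [join_vecMul, Matrix.sub_apply, Matrix.add_apply, Matrix.neg_apply, vecMulVec_apply, join_apply, pvec,
    Matrix.kroneckerMap_apply, ← hH]
  ring

/-- Root elements are Siegel transformations. -/
theorem siegelIn_join {M : Subgroup (GL (κ → Fin k) F)} {i : κ}
    (hlong : ∀ X, LongAt J M i (X + adjH (gramT (Rest i) J) X)) (b : Fin k → F) (r s : (Rest i → Fin k) → F) :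
    SiegelIn (M.comap (orthToGL Q (Qf := ⇑Q) fun _ => rfl)) (join i b s) (join i b r) := by
  intro o ho
  obtain ⟨g, hg, e⟩ := hlong (vecMulVec (c • r) (s ᵥ* gramT (Rest i) J)) b
  rw [hm.root_eq, map_smul, Matrix.smul_vecMul] at e
  show orthToGL Q (Qf := ⇑Q) (fun _ => rfl) o ∈ M
  suffices h : orthToGL Q (Qf := ⇑Q) (fun _ => rfl) o = g by rw [h]; exact hg
  refine Units.ext (Matrix.ext_of_mulVec_single fun a => ?_)
  rw [hm.orth_apply, e, ho.2.2, hm.quad_join, hm.pol, hm.pol, Matrix.add_mulVec, Matrix.sub_mulVec, Matrix.one_mulVec,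
    vecMulVec_mulVec, vecMulVec_mulVec, smul_dotProduct, ← dotProduct_mulVec, ← dotProduct_mulVec, op_smul_eq_smul,
    op_smul_eq_smul, smul_eq_mul]
  module

/-- A group with all root elements at one factor contains `Ω`. -/
theorem omega_le [Fintype F] (hκ : 1 < Fintype.card κ) {M : Subgroup (GL (κ → Fin k) F)} {i : κ}
    (hlong : ∀ X, LongAt J M i (X + adjH (gramT (Rest i) J) X)) :
    commutator (orthGroup Q) ≤ M.comap (orthToGL Q (Qf := ⇑Q) fun _ => rfl) := by
  classical
  have hQ := hm.nondeg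
  have hJ := hm.jGram
  set Mo := M.comap (orthToGL Q (Qf := ⇑Q) fun _ => rfl)
  have hN : 3 ≤ finrank F ((Rest i → Fin k) → F) := by
    have hd := hm.dim
    rw [finrank_fintype_fun_eq_card] at hd ⊢
    rw [Fintype.card_congr (Equiv.funSplitAt i (Fin k)), Fintype.card_prod, Fintype.card_fin] at hd
    change 5 ≤ k * Fintype.card (Rest i → Fin k) at hd
    by_contra hlt
    have hne : Fintype.card (Rest i) ≠ 0 := by
      rw [Fintype.card_subtype_compl, Fintype.card_subtype_eq]
      omega
    have hle : k ≤ Fintype.card (Rest i → Fin k) := by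
      rw [Fintype.card_fun, Fintype.card_fin]
      exact Nat.le_self_pow hne k
    have := Nat.mul_le_mul (show k ≤ 2 by omega) (show Fintype.card (Rest i → Fin k) ≤ 2 by omega)
    omega
  -- Siegel transformations with a pure axis
  have hax : ∀ b r₀, AxIn Mo (join i b r₀) := by
    intro b r₀
    by_cases hb : b = 0
    · rw [hb, map_zero, LinearMap.zero_apply]; exact AxIn.zero Mo
    by_cases hr₀ : r₀ = 0
    · rw [hr₀, map_zero]; exact AxIn.zero Mo
    set x := join i b r₀ with hxdef
    have hx : Q x = 0 := hm.quad_join i b r₀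
    let S : Submodule F ((κ → Fin k) → F) :=
      { carrier := {y | polar Q x y = 0 ∧ ∀ a : F, SiegelIn Mo x (a • y)}
        zero_mem' := ⟨polar_zero_right _ _, fun a => by
          rw [smul_zero, ← zero_smul F x]; exact siegelIn_smul_self Mo hx 0⟩
        add_mem' := fun {y z} hy hz => ⟨by rw [polar_add_right, hy.1, hz.1, add_zero], fun a => by
          rw [smul_add]
          exact SiegelIn.add hQ hx (by rw [polar_smul_r', hy.1, mul_zero]) (by rw [polar_smul_r', hz.1, mul_zero])
            (hy.2 a) (hz.2 a)⟩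
        smul_mem' := fun t y hy => ⟨by rw [polar_smul_r', hy.1, mul_zero], fun a => by
          rw [smul_smul]; exact hy.2 _⟩ }
    have hconj : ∀ g ∈ Mo, g.1 x = x → ∀ y ∈ S, g.1 y ∈ S := by
      intro g hg hgx y hy
      refine ⟨by rw [← hgx, polar_isom]; exact hy.1, fun a o ho => ?_⟩
      have h1 := ho.conj g⁻¹
      rw [inv_inv, show (g⁻¹).1 x = x from (congrArg _ hgx.symm).trans (g.1.symm_apply_apply x),
        show (g⁻¹).1 (a • g.1 y) = a • y by
          rw [map_smul, show (g⁻¹).1 (g.1 y) = y from g.1.symm_apply_apply y]] at h1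
      have h2 := Mo.mul_mem (Mo.mul_mem hg (hy.2 a _ h1)) (Mo.inv_mem hg)
      simpa [mul_assoc] using h2
    have hbS : ∀ r, join i b r ∈ S := fun r => ⟨by rw [hxdef, hm.polar_join, hJ.alt, zero_mul, mul_zero],
      fun a => by rw [← map_smul]; exact hm.siegelIn_join hlong b (a • r) r₀⟩
    -- an element of `Mo` fixing `x`, applied to a member of `S`
    have hmove : ∀ (v w : Fin k → F) (r s p : (Rest i → Fin k) → F),
        c * (fJ J v b * hm.rest i s r₀) = 0 → c * (fJ J v b * hm.rest i r r₀) = 0 → join i w p ∈ S →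
          (c * fJ J v w) • join i v (hm.rest i s p • r - hm.rest i r p • s) ∈ S := by
      intro v w r s p h1 h2 hwp
      obtain ⟨g, hg⟩ := exists_isSiegel hQ (hm.quad_join i v s) (show polar Q (join i v s) (join i v r) = 0 by
        rw [hm.polar_join, hJ.alt, zero_mul, mul_zero])
      have hgM : g ∈ Mo := hm.siegelIn_join hlong v r s g hg
      have hgx : g.1 x = x := by
        rw [hg.2.2, hxdef, hm.polar_join, hm.polar_join, h1, h2, zero_smul, mul_zero, neg_zero, sub_zero, zero_smul,
          add_zero, add_zero]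
      have h3 := S.sub_mem (hconj g hgM hgx _ hwp) hwp
      rw [hg.2.2, hm.polar_join, hm.polar_join, hm.quad_join] at h3
      convert h3 using 1
      rw [map_sub, map_smul, map_smul]
      module
    obtain ⟨q₀, hq₀⟩ := hm.rest_exists hr₀
    obtain ⟨p₀, hp₀, hp₀0⟩ := Submodule.exists_mem_ne_zero_of_ne_bot
      (LinearMap.ker_ne_bot_of_finrank_lt (f := (hm.rest i r₀).prod (hm.rest i q₀))
        (by rw [finrank_prod, finrank_self]; omega))
    simp only [LinearMap.mem_ker, LinearMap.prod_apply, Function.prod, Prod.mk_eq_zero] at hp₀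
    obtain ⟨s₁, hs₁⟩ := hm.rest_exists hp₀0
    set s₀ := -s₁ + (-hm.rest i s₁ r₀) • q₀ with hs₀def
    have hs₀ : hm.rest i s₀ p₀ = 1 := by
      simp [hs₀def, hp₀.2, hm.rest_swap s₁ p₀, hs₁]
    have hs₀r : hm.rest i s₀ r₀ = 0 := by
      simp [hs₀def, hm.rest_swap q₀ r₀, hq₀]
    -- `V ⊗ r₀^⊥`
    have hperp₁ : ∀ v, fJ J v b ≠ 0 → ∀ r, hm.rest i r r₀ = 0 → join i v r ∈ S := by
      intro v hv r hr
      have hne : c * fJ J v b ≠ 0 := mul_ne_zero hm.c_ne hv
      have h₀ : join i v r₀ ∈ S := by
        have h := hmove v b r₀ s₀ p₀ (by rw [hs₀r, mul_zero, mul_zero]) (by rw [hm.rest_alt i, mul_zero, mul_zero])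
          (hbS p₀)
        rw [hs₀, hp₀.1, one_smul, zero_smul, sub_zero] at h
        exact (S.smul_mem_iff hne).1 h
      have h := hmove v b r r₀ q₀ (by rw [hm.rest_alt i, mul_zero, mul_zero]) (by rw [hr, mul_zero, mul_zero])
        (hbS q₀)
      rw [hq₀, one_smul, map_sub, map_smul] at h
      have h' := (S.smul_mem_iff hne).1 h
      simpa using S.add_mem h' (S.smul_mem (hm.rest i r q₀) h₀)
    have hperp : ∀ v r, hm.rest i r r₀ = 0 → join i v r ∈ S := by
      intro v r hr
      obtain ⟨c₁, hc₁⟩ := hJ.exists_pair hb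
      have hc₁' : fJ J c₁ b ≠ 0 := by rw [hJ.swap, hc₁]; exact neg_ne_zero.2 one_ne_zero
      by_cases hv : fJ J v b = 0
      · have h := S.sub_mem (hperp₁ (v + c₁) (by rw [fJ_add_left, hv, zero_add]; exact hc₁') r hr)
          (hperp₁ c₁ hc₁' r hr)
        simpa [map_add] using h
      · exact hperp₁ v hv r hr
    -- `b^⊥ ⊗ q₀`
    have hq : ∀ v, fJ J v b = 0 → join i v q₀ ∈ S := by
      intro v hv
      by_cases hv0 : v = 0
      · rw [hv0, map_zero, LinearMap.zero_apply]; exact S.zero_mem
      obtain ⟨w, hw⟩ := hJ.exists_pair hv0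
      have h := hmove v (c⁻¹ • w) q₀ s₀ p₀ (by rw [hv, zero_mul, mul_zero]) (by rw [hv, zero_mul, mul_zero])
        (hperp _ _ (by rw [hm.rest_swap p₀ r₀, hp₀.1, neg_zero]))
      rw [fJ_smul_right, hw, mul_one, mul_inv_cancel₀ hm.c_ne, hs₀, hp₀.2, one_smul, one_smul, zero_smul,
        sub_zero] at h
      exact h
    have hall : ∀ y, polar Q x y = 0 → y ∈ S := by
      intro y hy
      set R : Fin k → (Rest i → Fin k) → F := fun a s => y ((Equiv.funSplitAt i (Fin k)).symm (a, s))
      set v := ∑ a, hm.rest i r₀ (R a) • (Pi.single a (1 : F) : Fin k → F) with hvdef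
      have hy' : y = (∑ a, join i (Pi.single a (1 : F)) (R a - hm.rest i r₀ (R a) • q₀)) + join i v q₀ := by
        rw [hvdef, map_sum, LinearMap.sum_apply, ← Finset.sum_add_distrib]
        conv_lhs => rw [← sum_join i y]
        exact Finset.sum_congr rfl fun a _ => by rw [map_sub, map_smul, map_smul, LinearMap.smul_apply, sub_add_cancel]
      have hsum : (∑ a, join i (Pi.single a (1 : F)) (R a - hm.rest i r₀ (R a) • q₀)) ∈ S :=
        S.sum_mem fun a _ => hperp _ _ (by
          rw [hm.rest_swap, map_sub, map_smul, hq₀, smul_eq_mul, mul_one, sub_self, neg_zero])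
      rw [hy', polar_add_right, hsum.1, zero_add, hxdef, hm.polar_join, hq₀, mul_one, mul_eq_zero,
        or_iff_right hm.c_ne] at hy
      rw [hy']
      exact S.add_mem hsum (hq v (by rw [hJ.swap, hy, neg_zero]))
    intro u g hg
    have h := (hall u hg.2.1).2 1
    rw [one_smul] at h
    exact h g hg
  obtain ⟨hp⟩ := exists_hypPairs hQ hm.dim
  rw [commutator_eq_siegelGroup hQ hm.good hp hm.dim]
  refine siegelGroup_le_of_ax fun y hy => ?_
  by_cases hy0 : y = 0
  · rw [hy0]; exact AxIn.zero _
  obtain ⟨b, r, hbr⟩ : ∃ b r, polar Q (join i b r) y ≠ 0 := by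
    by_contra hall
    push Not at hall
    refine hy0 (hQ.1 y fun z => ?_)
    show polar Q y z = 0
    rw [polar_comm, ← sum_join i z, ← polarBilin_apply_apply, map_sum, LinearMap.sum_apply]
    exact Finset.sum_eq_zero fun a _ => hall _ _
  have hb : b ≠ 0 := fun h => hbr (by rw [h, map_zero, LinearMap.zero_apply, polar_zero_left])
  have hr : r ≠ 0 := fun h => hbr (by rw [h, map_zero, polar_zero_left])
  obtain ⟨b', hb'⟩ := hJ.exists_pair hb
  obtain ⟨r', hr'⟩ := hm.rest_exists hr
  exact ax_move hQ (hax b r) (hm.quad_join i b r) (hm.quad_join i b' r') hy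
    (by rw [hm.polar_join, hb', hr']; simpa using hm.c_ne) hbr (hax b' r')

/-- Some element of `Ω` is not in the stabiliser. -/
theorem exists_not_mem_wreathT [Fintype F] (hκ : 1 < Fintype.card κ) :
    ∃ g ∈ commutator (orthGroup Q), orthToGL Q (Qf := ⇑Q) (fun _ => rfl) g ∉ wreathT F κ k := by
  classical
  have hJ := hm.jGram
  have hk := hm.two
  haveI : Nonempty (Fin k) := ⟨⟨0, by omega⟩⟩
  obtain ⟨b, hb⟩ := exists_ne (0 : Fin k → F)
  obtain ⟨b', hb'⟩ := hJ.exists_pair hb
  have hb'0 : b' ∉ F ∙ b := fun h => by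
    obtain ⟨a, rfl⟩ := Submodule.mem_span_singleton.1 h
    rw [fJ_smul_right, hJ.alt, mul_zero] at hb'
    exact zero_ne_one hb'
  obtain ⟨i, l, hil⟩ := Fintype.one_lt_card_iff.1 hκ
  -- two pure tensors, orthogonal and different in two factors
  obtain ⟨u, u', hui, hu'i, hne, hne', j, hj, hsep, j', hj', hzero⟩ :
      ∃ u u' : κ → Fin k → F, u i = b' ∧ u' i = b ∧ (∀ o, u o ≠ 0) ∧ (∀ o, u' o ≠ 0) ∧
        ∃ j, j ≠ i ∧ u j ∉ F ∙ u' j ∧ ∃ j', j' ≠ i ∧ fJ J (u' j') (u j') = 0 := by
    by_cases h3 : 3 ≤ k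
    · obtain ⟨w, hbw, hw⟩ := hJ.exists_orth h3 hb
      have hw' : w ∉ F ∙ b := fun h => by
        obtain ⟨a, ha⟩ := Submodule.mem_span_singleton.1 h
        exact hw a ha.symm
      refine ⟨fun o => if o = i then b' else w, fun _ => b, if_pos rfl, rfl, fun o => ?_, fun _ => hb, l, hil.symm,
        by simp only [if_neg hil.symm]; exact hw', l, hil.symm, by simp only [if_neg hil.symm]; exact hbw⟩
      dsimp only
      split_ifs with h
      · exact fun h0 => hb'0 (by rw [h0]; exact Submodule.zero_mem _)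
      · exact fun h0 => hw' (by rw [h0]; exact Submodule.zero_mem _)
    · obtain ⟨l', hl'i, hl'l⟩ : ∃ l', l' ≠ i ∧ l' ≠ l := by
        by_contra hc
        push Not at hc
        have hd := hm.dim
        rw [finrank_fintype_fun_eq_card, Fintype.card_fun, Fintype.card_fin] at hd
        have h2 : Fintype.card κ ≤ 2 := by
          rw [← Finset.card_univ]
          refine (Finset.card_le_card (t := {i, l}) fun x _ => ?_).trans Finset.card_le_two
          by_cases hx : x = i
          · simp [hx]
          · simp [hc x hx]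
        have := (Nat.pow_le_pow_left (show k ≤ 2 by omega) (Fintype.card κ)).trans
          (Nat.pow_le_pow_right (show 0 < 2 by norm_num) h2)
        omega
      refine ⟨fun o => if o = i then b' else if o = l then b' else b, fun _ => b, if_pos rfl, rfl, fun o => ?_,
        fun _ => hb, l, hil.symm, by simp only [if_neg hil.symm, if_pos rfl]; exact hb'0, l', hl'i,
        by simp only [if_neg hl'i, if_neg hl'l]; exact hJ.alt b⟩
      dsimp only
      split_ifs
      · exact fun h0 => hb'0 (by rw [h0]; exact Submodule.zero_mem _)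
      · exact fun h0 => hb'0 (by rw [h0]; exact Submodule.zero_mem _)
      · exact hb
  -- the axis
  choose d hd using fun o => hJ.exists_pair (hne o)
  set w : κ → Fin k → F := Function.update (fun o => -d o) i b with hw
  set D := c⁻¹ • pv w
  have hwu : ∀ o, fJ J (w o) (u o) = 1 := fun o => by
    rw [hw]
    by_cases ho : o = i
    · subst ho; rw [Function.update_self, hui, hb']
    · rw [Function.update_of_ne ho, fJ_neg_left, hJ.swap, neg_neg, hd]
  have hDu : polar Q D (pv u) = 1 := by
    rw [polar_smul_l', hm.pol_pv, Finset.prod_eq_one fun o _ => hwu o, mul_one, inv_mul_cancel₀ hm.c_ne]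
  have hDu' : polar Q D (pv u') = 0 := by
    rw [polar_smul_l', hm.pol_pv, Finset.prod_eq_zero (Finset.mem_univ i) (by
      rw [hw, Function.update_self, hu'i, hJ.alt]), mul_zero, mul_zero]
  have huu : polar Q (pv u') (pv u) = 0 := by
    rw [hm.pol_pv, Finset.prod_eq_zero (Finset.mem_univ j') hzero, mul_zero]
  obtain ⟨g, hg⟩ := exists_isSiegel hm.nondeg (show Q D = 0 by rw [quad_smul', hm.pure, mul_zero]) hDu'
  obtain ⟨hp⟩ := exists_hypPairs hm.nondeg hm.dim
  refine ⟨g, hg.mem_commutator hm.nondeg hm.good hp hm.dim, fun hW => ?_⟩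
  obtain ⟨σ, C, hC⟩ := hW
  have himg : g.1 (pv u) = pv u + pv u' := by
    rw [hg.2.2, hDu, huu, hm.pure, one_smul, neg_zero, zero_mul, sub_zero, zero_smul, add_zero]
  rw [← hm.orth_apply, hC, Units.val_mul, tensU_coe, permU_coe, ← Matrix.mulVec_mulVec, permM_mulVec_pv,
    tens_mulVec_pv] at himg
  exact not_two_differ one_ne_zero one_ne_zero (by rw [one_smul, one_smul]; exact himg.symm) hne hne' hj.symm
    (by rw [hui, hu'i]; exact hb'0) hsep

end OModel

end CfsgLib.Classical.WreathMaxSp
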