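import Cfsg.Agent.Lib.Classical.OrthMaxPair
import Cfsg.Agent.Lib.Classical.TensorNonMax
import Cfsg.Agent.Lib.Classical.WreathMaxSp.OmegaFinish

/-!
# Maximality of the stabiliser of a tensor power of symplectic forms in `Ω⁺`
-/

set_option autoImplicit false
set_option linter.unusedSectionVars false

open Matrix Module QuadraticMap CfsgLib.Orth CfsgLib.Classical CfsgLib.Classical.WreathMax

namespace CfsgLib.Classical.WreathMaxSp

variable {F : Type*} [Field F] {k : ℕ}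

theorem skewGram_symplectic [Fintype F] {f : (Fin k → F) → (Fin k → F) → F} (hf : Cfsg.Geo.IsSymplecticForm f)
    (h6 : (2 : F) = 0 → 6 ≤ k) : SkewGram (Cfsg.Geo.gramMatrix f) := by
  classical
  by_cases h2 : (2 : F) = 0
  swap
  · exact skewGram_gramMatrix h2 hf
  have hexp : ∀ x y, x ⬝ᵥ (Cfsg.Geo.gramMatrix f *ᵥ y) = f x y := fun x y => by
    rw [← TensorNonMax.gram_expand (τ := id) hf.bilinear.add_left hf.bilinear.smul_left hf.bilinear.add_right
      (fun t v x => hf.bilinear.smul_right t v x) x y, Cfsg.Geo.formOfGram]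
    simp [dotProduct, Matrix.mulVec, Finset.mul_sum, mul_assoc]
  refine SkewGram.of_char_two h2 (h6 h2) (Matrix.ext fun a b => hf.skew _ _)
    (fun u => (hexp u u).trans (hf.alternating u)) (isUnit_iff_ne_zero.2 fun h0 => ?_)
  obtain ⟨u, hu, hu0⟩ := Matrix.exists_vecMul_eq_zero_iff.2 h0
  obtain ⟨-, v, hv⟩ := hf.nondegenerate u hu
  exact hv (by rw [← hexp, dotProduct_mulVec, hu0, zero_dotProduct])

/-- An overgroup of the stabiliser in `Ω` with a further element is the whole of `Ω`. -/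
theorem OModel.omega_le_of_not_wreath [Fintype F] {κ : Type} [Fintype κ] [DecidableEq κ]
    {J : Matrix (Fin k) (Fin k) F} {Q : QuadraticForm F ((κ → Fin k) → F)} {c : F} (hm : OModel Q J c)
    (hsize : 3 ≤ k ∨ 4 ≤ Fintype.card F) (hκ : 1 < Fintype.card κ) (hpar : (2 : F) ≠ 0 → Even (Fintype.card κ))
    {Mo : Subgroup (orthGroup Q)}
    (hsub : ∀ o ∈ commutator (orthGroup Q), orthToGL Q (Qf := ⇑Q) (fun _ => rfl) o ∈ wreathT F κ k → o ∈ Mo)
    {g : orthGroup Q} (hg : g ∈ Mo) (hgT : orthToGL Q (Qf := ⇑Q) (fun _ => rfl) g ∉ wreathT F κ k) :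
    commutator (orthGroup Q) ≤ Mo := by
  classical
  haveI : Nonempty κ := Fintype.card_pos_iff.1 (by omega)
  set ψ := orthToGL Q (Qf := ⇑Q) fun _ => rfl with hψ
  set M := Mo.map ψ with hM
  have hsub' : ∀ x ∈ Cfsg.Geo.omegaGL ⇑Q, x ∈ wreathT F κ k → x ∈ M := fun x hx hxT => by
    rw [omegaGL_eq Q (fun _ => rfl)] at hx
    obtain ⟨o, ho, rfl⟩ := hx
    exact ⟨o, hsub o ho hxT, rfl⟩
  have hiso : ∀ x ∈ M, x.1ᵀ * gramT κ J * x.1 = gramT κ J := by
    rintro _ ⟨o, -, rfl⟩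
    exact (hm.mem_isometry_iff.1 ((toOrth Q (Qf := ⇑Q) fun _ => rfl).symm o).2).1
  have hop : ∀ (i : κ) C, InSp J C → ∃ x ∈ M, x.1 = op i C := fun i C hC => by
    obtain ⟨x, hx, e⟩ := hm.op_mem_omega hsize i hC
    exact ⟨x, hsub' x hx (op_mem_wreathT i e), e⟩
  have hMT : TOver J M := ⟨hm.jGram, hiso, hop⟩
  have hgM : ψ g ∈ M := ⟨g, hg, rfl⟩
  rcases mem_wreathT_or_long hm.two hsize _ κ rfl M hMT (ψ g) 1 one_ne_zero (by rw [one_smul]; exact hiso _ hgM)
      (fun l C hC => by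
        obtain ⟨o, ho, e⟩ := hop l C hC
        exact ⟨ψ g * o * (ψ g)⁻¹, mul_mem (mul_mem hgM ho) (inv_mem hgM), by
          rw [Units.val_mul, Units.val_mul, e, Matrix.mul_assoc, ← Units.val_mul, inv_mul_cancel, Units.val_one,
            Matrix.mul_one]⟩) with h | ⟨i, D, hns, hD⟩
  · exact absurd h hgT
  have h := hm.omega_le hκ (hMT.long_all hm.two (hm.pairTrans hpar hsub' i) hns hD)
  rwa [hM, Subgroup.comap_map_eq_self_of_injective (orthToGL_injective Q _)] at h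

variable [Fintype F] {n t : ℕ}

/-- The stabiliser of a tensor power of symplectic forms is maximal in `Ω`. -/
theorem isMaximal_omega {Qf : (Fin n → F) → F} (hn : 5 ≤ n) (hQ : Cfsg.Geo.IsNondegenerateQuadraticForm Qf)
    (ht : 2 ≤ t) (hpar : (2 : F) ≠ 0 → Even t) (h6 : (2 : F) = 0 → 6 ≤ k)
    (hsize : 3 ≤ k ∨ 4 ≤ Fintype.card F) (e : Fin n ≃ (Fin t → Fin k)) (P : GL (Fin n) F)
    {f₁ : (Fin k → F) → (Fin k → F) → F} (hf₁ : Cfsg.Geo.IsSymplecticForm f₁)
    (hT : Cfsg.Geo.IsTensorPowerFormStructure id (polar Qf) f₁ e P)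
    (hpure : ∀ xs : Fin t → (Fin k → F), Qf ((P : Matrix (Fin n) (Fin n) F) *ᵥ
      ((fun a : Fin t → Fin k => ∏ i, xs i (a i)) ∘ e)) = 0) :
    Cfsg.Geo.IsMaximalIn (Cfsg.Geo.omegaGL Qf) (Cfsg.Geo.tensorWreathSubgroup k t e P ⊓ Cfsg.Geo.omegaGL Qf) := by
  classical
  obtain ⟨Q, hQf, -⟩ := exists_quadOf hQ
  obtain ⟨c, hc0, hc⟩ := hT
  set J := Cfsg.Geo.gramMatrix f₁ with hJdef
  set φ : GL (Fin t → Fin k) F →* GL (Fin n) F :=
    (MulAut.conj P).toMonoidHom.comp (Cfsg.Geo.glReindex e.symm).toMonoidHom with hφ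
  have hPi : (P⁻¹).1 * P.1 = 1 := by rw [← Units.val_mul, inv_mul_cancel, Units.val_one]
  let Φ : ((Fin t → Fin k) → F) ≃ₗ[F] (Fin n → F) :=
    (LinearEquiv.funCongrLeft F F e).trans (Matrix.GeneralLinearGroup.toLin P).toLinearEquiv
  have hΦ : ∀ x, Φ x = P.1 *ᵥ (x ∘ e) := fun x => rfl
  set Q' : QuadraticForm F ((Fin t → Fin k) → F) := Q.comp Φ.toLinearMap with hQ'
  have hQ'v : ∀ x, Q (Φ x) = Q' x := fun x => rfl
  have hcard : n = k ^ t := by simpa using Fintype.card_congr e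
  have hk : 2 ≤ k := by
    by_contra hk
    have : k ^ t ≤ 1 := (Nat.pow_le_pow_left (show k ≤ 1 by omega) t).trans (one_pow t).le
    omega
  have hm : OModel Q' J c :=
    { jGram := skewGram_symplectic hf₁ h6
      c_ne := hc0
      pol := fun x y => by
        have e1 : polar Q' x y = polar Qf (Φ x) (Φ y) := by
          simp only [QuadraticMap.polar, hQf, ← map_add]
          rfl
        rw [e1, hΦ, hΦ, hc, gramT]
        simp [dotProduct, Matrix.mulVec, Finset.mul_sum, tens_apply, mul_assoc, hJdef]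
      pure := fun u => by rw [← hQ'v, ← hQf, hΦ]; exact hpure u
      dim := by rw [Φ.finrank_eq, finrank_fin_fun]; exact hn
      two := hk }
  set D : orthGroup Q' ≃* orthGroup Q := orthGroupCongr Φ hQ'v with hD
  set ψ := orthToGL Q' (Qf := ⇑Q') fun _ => rfl
  have hφmul : ∀ (x : GL (Fin t → Fin k) F) v, (φ x).1 *ᵥ Φ v = Φ (x.1 *ᵥ v) := fun x v => by
    show (P.1 * Matrix.reindex e.symm e.symm x.1 * (P⁻¹).1) *ᵥ (P.1 *ᵥ (v ∘ e)) = P.1 *ᵥ ((x.1 *ᵥ v) ∘ e)
    rw [Matrix.mulVec_mulVec, Matrix.mul_assoc, hPi, Matrix.mul_one, ← Matrix.mulVec_mulVec]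
    congr 1
    funext a
    simp only [Matrix.mulVec, dotProduct, Matrix.reindex_apply, Matrix.submatrix_apply, Function.comp_apply,
      Equiv.symm_symm]
    exact e.sum_comp fun b => x.1 (e a) b * v b
  have hDφ : ∀ o, orthToGL Q hQf (D o) = φ (ψ o) := fun o => by
    refine Units.ext (Matrix.ext_of_mulVec_single fun a => ?_)
    rw [← Φ.apply_symm_apply (Pi.single a 1), hφmul, hm.orth_apply, ← Matrix.toLin'_apply, toLin'_orthToGL]
    show Φ (o.1 (Φ.symm (Φ _))) = _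
    rw [Φ.symm_apply_apply]
  have hTeq : ∀ x, φ x ∈ Cfsg.Geo.tensorWreathSubgroup k t e P ↔ x ∈ wreathT F (Fin t) k := fun x => by
    rw [Cfsg.Geo.tensorWreathSubgroup, tensorWreathStandard_eq, Subgroup.map_map]
    refine ⟨fun h => ?_, fun h => Subgroup.mem_map_of_mem _ h⟩
    obtain ⟨y, hy, hyx⟩ := Subgroup.mem_map.1 h
    rwa [((MulAut.conj P).injective.comp (Cfsg.Geo.glReindex e.symm).injective) hyx] at hy
  have hmem : ∀ o, orthToGL Q hQf (D o) ∈ Cfsg.Geo.tensorWreathSubgroup k t e P ↔ ψ o ∈ wreathT F (Fin t) k :=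
    fun o => by rw [hDφ, hTeq]
  have hcomm : ∀ o, D o ∈ commutator (orthGroup Q) ↔ o ∈ commutator (orthGroup Q') := fun o => by
    have e1 : (commutator (orthGroup Q')).map D.toMonoidHom = commutator (orthGroup Q) := by
      rw [commutator_def, Subgroup.map_commutator, Subgroup.map_top_of_surjective _ D.surjective, commutator_def]
    rw [← e1]
    exact Subgroup.mem_map_equiv.trans (by rw [D.symm_apply_apply])
  refine omega_isMaximalIn_inf Q hQf _ ?_ fun M hM g hgM _ hgN => ?_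
  · obtain ⟨g, hg, hgT⟩ := hm.exists_not_mem_wreathT (by simp; omega)
    exact ⟨D g, (hcomm g).2 hg, fun hN => hgT ((hmem g).1 hN)⟩
  · obtain ⟨g', rfl⟩ := D.surjective g
    have hle := hm.omega_le_of_not_wreath hsize (by simp; omega) (by simpa using hpar) (Mo := M.comap D.toMonoidHom)
      (fun o ho hoT => hM _ ((hcomm o).2 ho) ((hmem o).2 hoT)) (g := g') hgM fun hT' => hgN ((hmem g').2 hT')
    intro o ho
    obtain ⟨o', rfl⟩ := D.surjective o
    exact hle ((hcomm o').1 ho)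

end CfsgLib.Classical.WreathMaxSp
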