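import Cfsg.Agent.Lib.Classical.WreathMaxSp.Frame

/-!
# Root elements `1 + ι_b D π_b` and short elements `1 + (ι_b D π_w + ι_w D* π_b)` in an overgroup of `Sp ⊗ 1`
-/

set_option autoImplicit false
set_option linter.unusedSectionVars false

open Matrix Module
open scoped Kronecker

namespace CfsgLib.Classical.WreathMaxSp

variable {F : Type*} [Field F] {k : ℕ} {ι : Type} [Fintype ι] [DecidableEq ι]

/-- The matrix `1 + A` belongs to `M`. -/
def InM {n : Type} [Fintype n] [DecidableEq n] (M : Subgroup (GL n F)) (A : Matrix n n F) : Prop :=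
  ∃ g ∈ M, (g : Matrix n n F) = 1 + A

section InM

variable {n : Type} [Fintype n] [DecidableEq n] {M : Subgroup (GL n F)}

theorem InM.zero : InM M (0 : Matrix n n F) := ⟨1, M.one_mem, by simp⟩

theorem InM.inv_eq {A : Matrix n n F} {g : GL n F} (e : g.1 = 1 + A) (h0 : A * A = 0) : g⁻¹.1 = 1 - A := by
  have h1 : g.1 * (1 - A) = 1 := by rw [e]; noncomm_ring [h0]
  have h2 := congrArg (g⁻¹.1 * ·) h1
  simp only [← Matrix.mul_assoc, ← Units.val_mul, inv_mul_cancel, Units.val_one, Matrix.one_mul, Matrix.mul_one] at h2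
  exact h2.symm

theorem InM.neg {A : Matrix n n F} (h : InM M A) (h0 : A * A = 0) : InM M (-A) := by
  obtain ⟨g, hg, e⟩ := h
  exact ⟨g⁻¹, inv_mem hg, by rw [InM.inv_eq e h0, sub_eq_add_neg]⟩

theorem InM.add {A B : Matrix n n F} (hA : InM M A) (hB : InM M B) (h : A * B = 0) : InM M (A + B) := by
  obtain ⟨g, hg, e⟩ := hA
  obtain ⟨k, hk, e'⟩ := hB
  refine ⟨g * k, mul_mem hg hk, ?_⟩
  rw [Units.val_mul, e, e']
  noncomm_ring [h]

theorem InM.conj {A A' : Matrix n n F} (hA : InM M A) {g : GL n F} (hg : g ∈ M) (h : g.1 * A = A' * g.1) :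
    InM M A' := by
  obtain ⟨k, hk, e⟩ := hA
  refine ⟨g * k * g⁻¹, mul_mem (mul_mem hg hk) (inv_mem hg), ?_⟩
  rw [Units.val_mul, Units.val_mul, e, Matrix.mul_add, Matrix.mul_one, h, Matrix.add_mul, Matrix.mul_assoc A',
    ← Units.val_mul, mul_inv_cancel, Units.val_one, Matrix.mul_one]

/-- The commutator of two square-zero elements. -/
theorem InM.comm {A B : Matrix n n F} (hA : InM M A) (hB : InM M B) (hA2 : A * A = 0) (hB2 : B * B = 0)
    (hBAB : B * A * B = 0) : InM M (A * B - B * A - A * B * A) := by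
  obtain ⟨a, ha, ea⟩ := hA
  obtain ⟨b, hb, eb⟩ := hB
  refine ⟨a * b * a⁻¹ * b⁻¹, mul_mem (mul_mem (mul_mem ha hb) (inv_mem ha)) (inv_mem hb), ?_⟩
  rw [Units.val_mul, Units.val_mul, Units.val_mul, InM.inv_eq ea hA2, InM.inv_eq eb hB2, ea, eb]
  have h1 : A * (B * A * B) = 0 := by rw [hBAB, Matrix.mul_zero]
  have e : (1 + A) * (1 + B) * (1 - A) * (1 - B) =
      1 + (A * B - B * A - A * B * A) + (-(A * A) - B * B + A * A * B + B * A * B + A * (B * A * B) - A * (B * B)) := by
    noncomm_ring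
  rw [e, h1, hA2, hB2, hBAB]
  simp

end InM

/-- The adjoint on the other factor. -/
noncomputable def adjH (H D : Matrix ι ι F) : Matrix ι ι F := H⁻¹ * Dᵀ * H

/-- The matrix `ι_b D π_w`. -/
def rect (J : Matrix (Fin k) (Fin k) F) (b w : Fin k → F) (D : Matrix ι ι F) :
    Matrix (Fin k × ι) (Fin k × ι) F :=
  (inj b : Matrix (Fin k × ι) ι F) * D * (proj J w : Matrix ι (Fin k × ι) F)

/-- The matrix `ι_b D π_w + ι_w E π_b`. -/
def link (J : Matrix (Fin k) (Fin k) F) (b w : Fin k → F) (D E : Matrix ι ι F) :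
    Matrix (Fin k × ι) (Fin k × ι) F :=
  rect J b w D + rect J w b E

/-- The matrix `ι_b D π_b`. -/
def root (J : Matrix (Fin k) (Fin k) F) (b : Fin k → F) (D : Matrix ι ι F) : Matrix (Fin k × ι) (Fin k × ι) F :=
  rect J b b D

variable {J : Matrix (Fin k) (Fin k) F} {H : Matrix ι ι F}

theorem rect_mul (b v u w : Fin k → F) (X Y : Matrix ι ι F) :
    rect J b v X * rect J u w Y = fJ J v u • rect J b w (X * Y) := by
  simp only [rect, Matrix.mul_assoc, proj_inj_assoc, Matrix.mul_smul]

theorem rect_mul_assoc (b v u w : Fin k → F) (X Y : Matrix ι ι F) (Z : Matrix (Fin k × ι) (Fin k × ι) F) :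
    rect J b v X * (rect J u w Y * Z) = fJ J v u • (rect J b w (X * Y) * Z) := by
  rw [← Matrix.mul_assoc, rect_mul, Matrix.smul_mul]

theorem rect_add (b w : Fin k → F) (X Y : Matrix ι ι F) :
    rect J b w (X + Y) = rect J b w X + rect J b w Y := by
  simp only [rect, Matrix.mul_add, Matrix.add_mul]

theorem rect_smul (b w : Fin k → F) (c : F) (X : Matrix ι ι F) :
    rect J b w (c • X) = c • rect J b w X := by
  simp only [rect, Matrix.mul_smul, Matrix.smul_mul]

theorem rect_neg (b w : Fin k → F) (X : Matrix ι ι F) : rect J b w (-X) = -rect J b w X := by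
  simp only [rect, Matrix.mul_neg, Matrix.neg_mul]

theorem rect_zero (b w : Fin k → F) : rect J b w (0 : Matrix ι ι F) = 0 := by
  simp only [rect, Matrix.mul_zero, Matrix.zero_mul]

theorem rect_add_left (b b' w : Fin k → F) (X : Matrix ι ι F) :
    rect J (b + b') w X = rect J b w X + rect J b' w X := by
  simp only [rect, inj_add, Matrix.add_mul]

theorem rect_add_right (b w w' : Fin k → F) (X : Matrix ι ι F) :
    rect J b (w + w') X = rect J b w X + rect J b w' X := by
  simp only [rect, proj_add, Matrix.mul_add]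

theorem rect_smul_left (b w : Fin k → F) (c : F) (X : Matrix ι ι F) :
    rect J (c • b) w X = c • rect J b w X := by
  simp only [rect, inj_smul, Matrix.smul_mul]

theorem rect_smul_right (b w : Fin k → F) (c : F) (X : Matrix ι ι F) :
    rect J b (c • w) X = c • rect J b w X := by
  simp only [rect, proj_smul, Matrix.mul_smul]

theorem rect_eq_kron (b w : Fin k → F) (X : Matrix ι ι F) :
    rect J b w X = vecMulVec b (beta J w) ⊗ₖ X := inj_mul_proj b w X

theorem root_mul_root (hJ : SkewGram J) (b : Fin k → F) (D D' : Matrix ι ι F) :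
    root J b D * root J b D' = 0 := by
  rw [root, root, rect_mul, hJ.alt, zero_smul]

theorem link_self (b : Fin k → F) (D E : Matrix ι ι F) : link J b b D E = root J b (D + E) := by
  rw [link, root, rect_add]

theorem link_comm (b w : Fin k → F) (D E : Matrix ι ι F) : link J b w D E = link J w b E D := add_comm _ _

theorem link_mul_link (hJ : SkewGram J) {b w : Fin k → F} (h : fJ J b w = 0) (D E D' E' : Matrix ι ι F) :
    link J b w D E * link J b w D' E' = 0 := by
  have h' : fJ J w b = 0 := by rw [hJ.swap, h, neg_zero]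
  simp [link, Matrix.add_mul, Matrix.mul_add, rect_mul, hJ.alt, h, h']

theorem root_smul (b : Fin k → F) (c : F) (D : Matrix ι ι F) : root J b (c • D) = c • root J b D := rect_smul ..

theorem root_smul_vec (b : Fin k → F) (c : F) (D : Matrix ι ι F) : root J (c • b) D = root J b ((c * c) • D) := by
  rw [root, root, rect_smul_left, rect_smul_right, smul_smul, rect_smul]

theorem root_neg (b : Fin k → F) (D : Matrix ι ι F) : root J b (-D) = -root J b D := by
  rw [← neg_one_smul F D, root_smul, neg_one_smul]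

theorem link_smul (b w : Fin k → F) (c : F) (D E : Matrix ι ι F) :
    link J b w (c • D) (c • E) = c • link J b w D E := by
  rw [link, link, rect_smul, rect_smul, smul_add]

theorem link_smul_vec (b w : Fin k → F) (c : F) (D E : Matrix ι ι F) :
    link J (c • b) w D E = link J b w (c • D) (c • E) := by
  rw [link, link, rect_smul_left, rect_smul_right, rect_smul, rect_smul]

theorem root_add_vec (b w : Fin k → F) (D : Matrix ι ι F) :
    root J (b + w) D = root J b D + root J w D + link J b w D D := by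
  simp only [root, link, rect_add_left, rect_add_right]
  abel

theorem kron_mul_rect {C : Matrix (Fin k) (Fin k) F} (hC : InSp J C) (b w : Fin k → F) (D : Matrix ι ι F) :
    (C ⊗ₖ (1 : Matrix ι ι F)) * (rect J b w D) =
      rect J (C *ᵥ b) (C *ᵥ w) D * (C ⊗ₖ (1 : Matrix ι ι F)) := by
  simp only [rect]
  rw [Matrix.mul_assoc _ (proj J (C *ᵥ w) : Matrix ι (Fin k × ι) F), proj_mul_kron (C *ᵥ w) C 1 (w := w)
      (by rw [beta_mul_of_sim (μ := 1) (by rw [one_smul]; exact hC), one_smul]), Matrix.one_mul,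
    ← Matrix.mul_assoc, ← Matrix.mul_assoc, kron_mul_inj, Matrix.mul_one]

/-- An overgroup of `Sp ⊗ 1` among the isometries of the product form. -/
structure Over (J : Matrix (Fin k) (Fin k) F) (H : Matrix ι ι F) (M : Subgroup (GL (Fin k × ι) F)) : Prop where
  jGram : SkewGram J
  hGram : FormedGram H
  iso : ∀ g ∈ M, g.1ᵀ * gram J H * g.1 = gram J H
  sp : ∀ C, InSp J C → ∃ g ∈ M, g.1 = C ⊗ₖ (1 : Matrix ι ι F)

/-- All the root elements with factor `D` are in `M`. -/
def Long (J : Matrix (Fin k) (Fin k) F) (M : Subgroup (GL (Fin k × ι) F)) (D : Matrix ι ι F) : Prop :=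
  ∀ b, InM M (root J b D)

/-- All the short elements with factor `D` are in `M`. -/
def Short (J : Matrix (Fin k) (Fin k) F) (H : Matrix ι ι F) (M : Subgroup (GL (Fin k × ι) F))
    (D : Matrix ι ι F) : Prop :=
  ∀ b w, fJ J b w = 0 → b ≠ 0 → (∀ c : F, w ≠ c • b) → InM M (link J b w D (adjH H D))

variable {M : Subgroup (GL (Fin k × ι) F)}

theorem Over.long_of_one (hM : Over J H M) {b : Fin k → F} (hb : b ≠ 0) {D : Matrix ι ι F}
    (h : InM M (root J b D)) : Long J M D := by
  intro b'
  rcases eq_or_ne b' 0 with rfl | hb'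
  · rw [root, rect, inj_zero, Matrix.zero_mul, Matrix.zero_mul]; exact InM.zero
  obtain ⟨C, hC, rfl⟩ := hM.jGram.transitive hb hb'
  obtain ⟨g, hg, e⟩ := hM.sp C hC
  exact h.conj hg (by rw [e]; exact kron_mul_rect hC b b D)

theorem Over.long_add (hM : Over J H M) {D D' : Matrix ι ι F} (h : Long J M D) (h' : Long J M D') :
    Long J M (D + D') := fun b => by
  have := (h b).add (h' b) (root_mul_root hM.jGram b D D')
  rwa [root, rect_add]

theorem Over.long_neg (hM : Over J H M) {D : Matrix ι ι F} (h : Long J M D) : Long J M (-D) := fun b => by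
  rw [root_neg]
  exact (h b).neg (root_mul_root hM.jGram b D D)

theorem Over.long_zero : Long J M (0 : Matrix ι ι F) := fun b => by
  rw [root, rect_zero]; exact InM.zero

theorem Over.long_smul (hM : Over J H M) (c : F) {D : Matrix ι ι F} (h : Long J M D) : Long J M (c • D) := by
  have hsq : ∀ a : F, Long J M ((a * a) • D) := fun a b => by
    rw [← root_smul_vec]; exact h (a • b)
  obtain ⟨a, a', rfl⟩ := hM.jGram.sq c
  rw [add_smul, neg_smul]
  exact hM.long_add (hsq _) (hM.long_neg (hsq _))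

theorem Over.long_one (hM : Over J H M) : Long J M (1 : Matrix ι ι F) := fun b => by
  obtain ⟨g, hg, e⟩ := hM.sp _ (hM.jGram.inSp_transvection 1 b)
  refine ⟨g, hg, ?_⟩
  rw [e, root, rect_eq_kron, Matrix.add_kronecker, Matrix.one_kronecker_one, one_smul]
  rfl

theorem FormedGram.adjH_adjH (hH : FormedGram H) (D : Matrix ι ι F) : adjH H (adjH H D) = D := by
  obtain ⟨ε, hε, hT⟩ := hH.sign
  have hi : H⁻¹ * H = 1 := Matrix.nonsing_inv_mul H hH.unit
  have e1 : (adjH H D)ᵀ * H = H * D := by
    have : (H⁻¹)ᵀ * H = ε • 1 := by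
      rw [Matrix.transpose_nonsing_inv, hT, show (ε • H)⁻¹ = ε • H⁻¹ from Matrix.inv_eq_left_inv (by
        rw [Matrix.smul_mul, Matrix.mul_smul, smul_smul, hε, one_smul, hi]), Matrix.smul_mul, hi]
    rw [adjH, Matrix.transpose_mul, Matrix.transpose_mul, Matrix.transpose_transpose, hT, Matrix.smul_mul,
      Matrix.smul_mul, Matrix.mul_assoc, Matrix.mul_assoc, this, Matrix.mul_smul, Matrix.mul_smul, smul_smul, hε,
      one_smul, Matrix.mul_one]
  rw [show adjH H (adjH H D) = H⁻¹ * ((adjH H D)ᵀ * H) from Matrix.mul_assoc _ _ _, e1, ← Matrix.mul_assoc, hi,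
    Matrix.one_mul]

theorem FormedGram.adjH_mul (hH : FormedGram H) (D D' : Matrix ι ι F) :
    adjH H (D * D') = adjH H D' * adjH H D := by
  have hi : H * H⁻¹ = 1 := Matrix.mul_nonsing_inv H hH.unit
  rw [adjH, adjH, adjH, Matrix.transpose_mul]
  simp only [Matrix.mul_assoc]
  rw [← Matrix.mul_assoc H H⁻¹, hi, Matrix.one_mul]

theorem FormedGram.adjH_one (hH : FormedGram H) : adjH H (1 : Matrix ι ι F) = 1 := by
  rw [adjH, Matrix.transpose_one, Matrix.mul_one, Matrix.nonsing_inv_mul H hH.unit]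

theorem adjH_add (D D' : Matrix ι ι F) : adjH H (D + D') = adjH H D + adjH H D' := by
  simp [adjH, Matrix.mul_add, Matrix.add_mul]

theorem adjH_smul (c : F) (D : Matrix ι ι F) : adjH H (c • D) = c • adjH H D := by
  simp [adjH, Matrix.mul_smul, Matrix.smul_mul]

/-- A square-zero element of an isometry group gives a skew matrix. -/
theorem Over.skew_of_inM (hM : Over J H M) {A : Matrix (Fin k × ι) (Fin k × ι) F} (h : InM M A)
    (h0 : A * A = 0) : Aᵀ * gram J H = -(gram J H * A) := by
  obtain ⟨g, hg, e⟩ := h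
  have h1 := congrArg (· * (1 - A)) (hM.iso g hg)
  simp only [e, Matrix.mul_assoc] at h1
  rw [show (1 + A) * (1 - A) = 1 by noncomm_ring [h0], Matrix.mul_one, Matrix.transpose_add, Matrix.transpose_one,
    Matrix.add_mul, Matrix.one_mul, Matrix.mul_sub, Matrix.mul_one, sub_eq_add_neg] at h1
  exact add_left_cancel h1

theorem rect_transpose_gram (b w : Fin k → F) (D : Matrix ι ι F) :
    (rect J b w D)ᵀ * gram J H =
      (proj J w : Matrix ι (Fin k × ι) F)ᵀ * (Dᵀ * H) * (proj J b : Matrix ι (Fin k × ι) F) := by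
  rw [rect, Matrix.transpose_mul, Matrix.transpose_mul, Matrix.mul_assoc, Matrix.mul_assoc, inj_transpose_gram]
  simp only [Matrix.mul_assoc]

theorem gram_mul_rect (hJ : SkewGram J) (b w : Fin k → F) (D : Matrix ι ι F) :
    gram J H * (rect J b w D) =
      -((proj J b : Matrix ι (Fin k × ι) F)ᵀ * (H * D) * (proj J w : Matrix ι (Fin k × ι) F)) := by
  rw [rect, ← Matrix.mul_assoc, ← Matrix.mul_assoc, gram_mul_inj hJ, Matrix.neg_mul, Matrix.neg_mul]
  simp only [Matrix.mul_assoc]

theorem SkewGram.indep_dual (hJ : SkewGram J) {b w : Fin k → F} (hb : b ≠ 0) (hw : ∀ c : F, w ≠ c • b) :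
    ∃ x, fJ J w x = 1 ∧ fJ J b x = 0 := by
  by_contra hno
  push Not at hno
  obtain ⟨y, hy⟩ := hJ.exists_pair hb
  refine hw (fJ J w y) (hJ.eq_of_fJ fun x => ?_)
  have h0 : fJ J w (x - fJ J b x • y) = 0 := by
    by_contra h
    refine hno ((fJ J w (x - fJ J b x • y))⁻¹ • (x - fJ J b x • y)) ?_ ?_
    · rw [fJ_smul_right, inv_mul_cancel₀ h]
    · rw [fJ_smul_right, fJ_sub_right (u := b), fJ_smul_right (u := b), hy, mul_one, sub_self, mul_zero]
  rw [fJ_sub_right, fJ_smul_right, sub_eq_zero] at h0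
  rw [h0, fJ_smul_left, mul_comm]

/-- The second factor of a short element is the adjoint of the first. -/
theorem Over.link_adj (hM : Over J H M) {b w : Fin k → F} (h : fJ J b w = 0) (hb : b ≠ 0)
    (hw : ∀ c : F, w ≠ c • b) {D E : Matrix ι ι F} (hm : InM M (link J b w D E)) : E = adjH H D := by
  have hJ := hM.jGram
  have h1 := hM.skew_of_inM hm (link_mul_link hJ h D E D E)
  obtain ⟨x, hwx, hbx⟩ := hJ.indep_dual hb hw
  obtain ⟨y, hby, hwy⟩ := hJ.indep_dual (b := w) (w := b) (fun e => hw 0 (by rw [e, zero_smul])) (fun c e => by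
    rcases eq_or_ne c 0 with rfl | hc
    · exact hb (by rw [e, zero_smul])
    · exact hw c⁻¹ (by rw [e, smul_smul, inv_mul_cancel₀ hc, one_smul]))
  have h2 := congrArg (fun Z => (inj x : Matrix (Fin k × ι) ι F)ᵀ * Z * (inj y : Matrix (Fin k × ι) ι F)) h1
  have t1 : ∀ u : Fin k → F, (inj x : Matrix (Fin k × ι) ι F)ᵀ * (proj J u : Matrix ι (Fin k × ι) F)ᵀ =
      fJ J u x • 1 := fun u => by
    rw [← Matrix.transpose_mul, proj_mul_inj, Matrix.transpose_smul, Matrix.transpose_one]
  simp only [link, Matrix.transpose_add, Matrix.add_mul, Matrix.mul_add, rect_transpose_gram,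
    gram_mul_rect hJ, Matrix.mul_neg, Matrix.neg_mul, neg_add_rev, neg_neg, ← Matrix.mul_assoc, t1] at h2
  simp only [Matrix.mul_assoc, proj_mul_inj, Matrix.smul_mul, Matrix.one_mul, Matrix.mul_smul, Matrix.mul_one,
    hwx, hbx, hby, hwy, one_smul, zero_smul, smul_zero, Matrix.mul_zero, Matrix.zero_mul, add_zero, zero_add] at h2
  have hi : H⁻¹ * H = 1 := Matrix.nonsing_inv_mul H hM.hGram.unit
  rw [adjH, Matrix.mul_assoc, h2, ← Matrix.mul_assoc, hi, Matrix.one_mul]

/-- A root element has a self-adjoint factor. -/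
theorem Over.long_self_adj (hM : Over J H M) (hk : 0 < k) {D : Matrix ι ι F} (h : Long J M D) :
    adjH H D = D := by
  have hJ := hM.jGram
  set b : Fin k → F := Pi.single ⟨0, hk⟩ 1
  obtain ⟨x, hx⟩ := hJ.exists_pair (u := b) (by simp [b])
  have h1 := hM.skew_of_inM (h b) (root_mul_root hJ b D D)
  have h2 := congrArg (fun Z => (inj x : Matrix (Fin k × ι) ι F)ᵀ * Z * (inj x : Matrix (Fin k × ι) ι F)) h1
  simp only [root, rect_transpose_gram, gram_mul_rect hJ, neg_neg, ← Matrix.mul_assoc] at h2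
  rw [← Matrix.transpose_mul, proj_mul_inj, hx, one_smul, Matrix.transpose_one] at h2
  simp only [Matrix.mul_assoc, proj_mul_inj, hx, one_smul, Matrix.one_mul, Matrix.mul_one] at h2
  rw [adjH, Matrix.mul_assoc, h2, ← Matrix.mul_assoc, Matrix.nonsing_inv_mul H hM.hGram.unit, Matrix.one_mul]

end CfsgLib.Classical.WreathMaxSp
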