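import Cfsg.Agent.Lib.Classical.WreathMaxSp.Root

/-!
# Products of root and short elements: the factors are closed under Jordan and one-sided products
-/

set_option autoImplicit false
set_option linter.unusedSectionVars false

open Matrix Module
open scoped Kronecker

namespace CfsgLib.Classical.WreathMaxSp

variable {F : Type*} [Field F] {k : ℕ} {ι : Type} [Fintype ι] [DecidableEq ι]
  {J : Matrix (Fin k) (Fin k) F} {H : Matrix ι ι F} {M : Subgroup (GL (Fin k × ι) F)}

/-- A torus element on a hyperbolic pair. -/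
theorem SkewGram.exists_torus (hJ : SkewGram J) {b c : Fin k → F} (hbc : fJ J b c = 1) {a : F} (ha : a ≠ 0) :
    ∃ C, InSp J C ∧ C *ᵥ b = a • b ∧ C *ᵥ c = a⁻¹ • c ∧ ∀ z, fJ J b z = 0 → fJ J c z = 0 → C *ᵥ z = z := by
  have hcb : fJ J c b = -1 := by rw [hJ.swap, hbc]
  set C : Matrix (Fin k) (Fin k) F :=
    1 + (a - 1) • (-(vecMulVec b (beta J c))) + (a⁻¹ - 1) • vecMulVec c (beta J b) with hC
  have hap : ∀ x, C *ᵥ x = x + ((a - 1) * -fJ J c x) • b + ((a⁻¹ - 1) * fJ J b x) • c := fun x => by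
    simp only [hC, Matrix.add_mulVec, Matrix.one_mulVec, Matrix.smul_mulVec, Matrix.neg_mulVec, vecMulVec_mulVec,
      beta_dot, op_smul_eq_smul, smul_neg, smul_smul, mul_neg, neg_smul]
  refine ⟨C, ?_, ?_, ?_, fun z h1 h2 => by rw [hap, h1, h2]; simp⟩
  · rw [inSp_iff]
    intro x y
    simp only [hap, fJ_add_left, fJ_add_right, fJ_smul_left, fJ_smul_right, hJ.alt, hbc, hcb]
    rw [hJ.swap x b, hJ.swap x c]
    field_simp
    ring
  · rw [hap, hcb, hJ.alt, mul_zero, zero_smul, add_zero]
    module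
  · rw [hap, hJ.alt, hbc, neg_zero, mul_zero, zero_smul, add_zero]
    module

theorem SkewGram.exists_flip (hJ : SkewGram J) {b v : Fin k → F} (hb : b ≠ 0) (hv : ∀ c : F, v ≠ c • b)
    (h : fJ J b v = 0) : ∃ C, InSp J C ∧ C *ᵥ b = -b ∧ C *ᵥ v = v := by
  obtain ⟨c, hbc, hvc⟩ := hJ.indep_dual (b := v) (w := b) (fun e => hv 0 (by rw [e, zero_smul])) (fun c e => by
    rcases eq_or_ne c 0 with rfl | hc
    · exact hb (by rw [e, zero_smul])
    · exact hv c⁻¹ (by rw [e, smul_smul, inv_mul_cancel₀ hc, one_smul]))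
  obtain ⟨C, hC, h1, -, h3⟩ := hJ.exists_torus hbc (a := -1) (neg_ne_zero.2 one_ne_zero)
  exact ⟨C, hC, by rw [h1, neg_one_smul], h3 v h (by rw [hJ.swap, hvc, neg_zero])⟩

/-- Any pair of orthogonal independent vectors moves to any other. -/
theorem SkewGram.exists_move_pair (hJ : SkewGram J) {b w b' w' : Fin k → F} (hb : b ≠ 0)
    (hw : ∀ c : F, w ≠ c • b) (h : fJ J b w = 0) (hb' : b' ≠ 0) (hw' : ∀ c : F, w' ≠ c • b')
    (h' : fJ J b' w' = 0) : ∃ C, InSp J C ∧ C *ᵥ b = b' ∧ C *ᵥ w = w' := by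
  obtain ⟨C, hC, hCb⟩ := hJ.transitive hb hb'
  have hCw : fJ J b' (C *ᵥ w) = 0 := by rw [← hCb, inSp_iff.1 hC, h]
  have hCwi : ∀ c : F, C *ᵥ w ≠ c • b' := fun c e => by
    refine hw c (hJ.eq_of_fJ fun v => ?_)
    rw [← inSp_iff.1 hC w v, e, fJ_smul_left, fJ_smul_left, ← hCb, inSp_iff.1 hC]
  let U : Submodule F (Fin k → F) :=
    { carrier := {x | fJ J b' x = 0}
      zero_mem' := fJ_zero_right b'
      add_mem' := fun {x y} hx hy => by
        simp only [Set.mem_setOf_eq] at hx hy ⊢
        rw [fJ_add_right, hx, hy, add_zero]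
      smul_mem' := fun c x hx => by
        simp only [Set.mem_setOf_eq] at hx ⊢
        rw [fJ_smul_right, hx, mul_zero] }
  have hU : ∀ x, (∀ c : F, x ≠ c • b') → ∃ y ∈ U, fJ J x y ≠ 0 := fun x hx => by
    obtain ⟨y, hy, hy'⟩ := hJ.indep_dual hb' hx
    exact ⟨y, hy', by rw [hy]; exact one_ne_zero⟩
  obtain ⟨D, hD, hDw, hDz⟩ := hJ.exists_move (U := U) hCw h' (hU _ hCwi) (hU _ hw')
  refine ⟨D * C, hD.mul hC, ?_, by rw [← Matrix.mulVec_mulVec, hDw]⟩
  rw [← Matrix.mulVec_mulVec, hCb]
  exact hDz b' fun x hx => by rw [hJ.swap, show fJ J b' x = 0 from hx, neg_zero]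

theorem SkewGram.exists_orth (hJ : SkewGram J) (h3 : 3 ≤ k) {b : Fin k → F} (hb : b ≠ 0) :
    ∃ w, fJ J b w = 0 ∧ ∀ c : F, w ≠ c • b := by
  let φ : (Fin k → F) →ₗ[F] F :=
    { toFun := fJ J b, map_add' := fJ_add_right b, map_smul' := fun c x => fJ_smul_right c b x }
  by_contra hno
  push Not at hno
  have hle : LinearMap.ker φ ≤ F ∙ b := fun x hx => by
    obtain ⟨c, hc⟩ := hno x hx
    exact Submodule.mem_span_singleton.2 ⟨c, hc.symm⟩
  have h1 := Submodule.finrank_mono hle
  rw [finrank_span_singleton hb] at h1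
  have h2 := φ.finrank_range_add_finrank_ker
  have h4 : finrank F (LinearMap.range φ) ≤ 1 := (Submodule.finrank_le _).trans (by rw [finrank_self])
  rw [finrank_fin_fun] at h2
  omega

/-- A vector orthogonal to an isotropic plane and outside it. -/
theorem SkewGram.exists_orth_plane (hJ : SkewGram J) (h5 : 5 ≤ k) (b v : Fin k → F) :
    ∃ w, fJ J b w = 0 ∧ fJ J v w = 0 ∧ ∀ c d : F, w ≠ c • b + d • v := by
  let φ : (Fin k → F) →ₗ[F] F × F :=
    { toFun := fun x => (fJ J b x, fJ J v x)
      map_add' := fun x y => by simp [fJ_add_right]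
      map_smul' := fun c x => by simp [fJ_smul_right] }
  by_contra hno
  push Not at hno
  have hle : LinearMap.ker φ ≤ Submodule.span F (Set.range ![b, v]) := fun x hx => by
    have hx' : φ x = 0 := hx
    obtain ⟨c, d, e⟩ := hno x (Prod.ext_iff.1 hx').1 (Prod.ext_iff.1 hx').2
    rw [e]
    exact add_mem (Submodule.smul_mem _ c (Submodule.subset_span ⟨0, rfl⟩))
      (Submodule.smul_mem _ d (Submodule.subset_span ⟨1, rfl⟩))
  have h1 := (Submodule.finrank_mono hle).trans (finrank_range_le_card (R := F) ![b, v])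
  have h2 := φ.finrank_range_add_finrank_ker
  have h4 : finrank F (LinearMap.range φ) ≤ 2 := (Submodule.finrank_le _).trans (by simp)
  rw [finrank_fin_fun] at h2
  simp only [Fintype.card_fin] at h1
  omega

/-- One short element gives all of them. -/
theorem Over.short_of_one (hM : Over J H M) {b w : Fin k → F} (h : fJ J b w = 0) (hb : b ≠ 0)
    (hw : ∀ c : F, w ≠ c • b) {D E : Matrix ι ι F} (hm : InM M (link J b w D E)) : Short J H M D := by
  intro b' w' h' hb' hw'
  obtain ⟨C, hC, hCb, hCw⟩ := hM.jGram.exists_move_pair hb hw h hb' hw' h'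
  obtain ⟨g, hg, e⟩ := hM.sp C hC
  rw [← hM.link_adj h hb hw hm]
  refine hm.conj hg ?_
  rw [e, link, link, Matrix.mul_add, Matrix.add_mul, kron_mul_rect hC, kron_mul_rect hC, hCb, hCw]

/-- A short element up to a root element. -/
theorem Over.short_of_mixed_two (hM : Over J H M) {b v : Fin k → F} (h : fJ J b v = 0) (hb : b ≠ 0)
    (hv : ∀ c : F, v ≠ c • b) {D E L : Matrix ι ι F} (hm : InM M (link J b v D E + root J b L)) :
    Short J H M ((2 : F) • D) := by
  have hJ := hM.jGram
  have h' : fJ J v b = 0 := by rw [hJ.swap, h, neg_zero]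
  obtain ⟨C, hC, hCb, hCv⟩ := hJ.exists_flip hb hv h
  obtain ⟨g, hg, e⟩ := hM.sp C hC
  have hm' : InM M (-link J b v D E + root J b L) := by
    refine hm.conj hg ?_
    rw [e, link, root, Matrix.mul_add, Matrix.mul_add, kron_mul_rect hC, kron_mul_rect hC, kron_mul_rect hC, hCb, hCv,
      ← Matrix.add_mul, ← Matrix.add_mul]
    congr 1
    rw [← neg_one_smul F b, rect_smul_left, rect_smul_right, rect_smul_left, rect_smul_right, smul_smul]
    simp
    try abel
  have hz : ∀ x y : Matrix ι ι F, ∀ z, (link J b v x y + root J b z) * (link J b v D E + root J b L) = 0 := fun x y z => by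
    simp [link, root, Matrix.add_mul, Matrix.mul_add, rect_mul, hJ.alt, h, h']
  have hz' : (-link J b v D E + root J b L) * (-link J b v D E + root J b L) = 0 := by
    simp [link, root, Matrix.add_mul, Matrix.mul_add, rect_mul, hJ.alt, h, h']
  have := hm.add (hm'.neg hz') (by
    simp [link, root, Matrix.add_mul, Matrix.mul_add, rect_mul, hJ.alt, h, h'])
  refine hM.short_of_one h hb hv (E := (2 : F) • E) ?_
  convert this using 1
  rw [link_smul, two_smul]
  abel

theorem Over.short_neg (hM : Over J H M) {D : Matrix ι ι F} (h : Short J H M D) : Short J H M (-D) :=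
  fun b w hbw hb hw => by
    have := (h b w hbw hb hw).neg (link_mul_link hM.jGram hbw _ _ _ _)
    rwa [show adjH H (-D) = -adjH H D by rw [← neg_one_smul F D, adjH_smul, neg_one_smul], ← neg_one_smul F D,
      ← neg_one_smul F (adjH H D), link_smul, neg_one_smul]

theorem Over.short_add (hM : Over J H M) {D D' : Matrix ι ι F} (h : Short J H M D) (h' : Short J H M D') :
    Short J H M (D + D') := fun b w hbw hb hw => by
  have := (h b w hbw hb hw).add (h' b w hbw hb hw) (link_mul_link hM.jGram hbw _ _ _ _)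
  rw [link, adjH_add, rect_add, rect_add]
  convert this using 1
  rw [link, link]
  abel

theorem Over.short_smul (hM : Over J H M) (c : F) {D : Matrix ι ι F} (h : Short J H M D) :
    Short J H M (c • D) := fun b w hbw hb hw => by
  rcases eq_or_ne c 0 with rfl | hc
  · simp [link, rect_zero, adjH]; exact InM.zero
  rw [adjH_smul, ← link_smul_vec]
  exact h _ w (by rw [fJ_smul_left, hbw, mul_zero]) (smul_ne_zero hc hb)
    fun d e => hw (d * c) (by rw [e, smul_smul])

/-- A short element up to a root element gives a short element. -/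
theorem Over.short_of_mixed (hM : Over J H M) {b v : Fin k → F} (h : fJ J b v = 0) (hb : b ≠ 0)
    (hv : ∀ c : F, v ≠ c • b) {D E L : Matrix ι ι F} (hm : InM M (link J b v D E + root J b L)) :
    Short J H M D := by
  have hJ := hM.jGram
  rcases hJ.big with h2 | h6
  · have h1 := hM.short_smul ((2 : F)⁻¹) (hM.short_of_mixed_two h hb hv hm)
    rwa [smul_smul, inv_mul_cancel₀ h2, one_smul] at h1
  obtain ⟨w, hbw, hvw, hwi⟩ := hJ.exists_orth_plane (by omega) b v
  have hvw0 : ∀ c : F, v + w ≠ c • b := fun c e => hwi c (-1) (by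
    rw [neg_one_smul, ← e]
    abel)
  obtain ⟨C, hC, hCb, hCv⟩ := hJ.exists_move_pair hb hv h hb hvw0 (by rw [fJ_add_right, h, hbw, add_zero])
  obtain ⟨g, hg, e⟩ := hM.sp C hC
  have hm' : InM M (link J b (v + w) D E + root J b L) := by
    refine hm.conj hg ?_
    rw [e, link, root, Matrix.mul_add, Matrix.mul_add, kron_mul_rect hC, kron_mul_rect hC, kron_mul_rect hC, hCb, hCv,
      ← Matrix.add_mul, ← Matrix.add_mul]
    rfl
  have h' : fJ J v b = 0 := by rw [hJ.swap, h, neg_zero]
  have hwb : fJ J w b = 0 := by rw [hJ.swap, hbw, neg_zero]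
  have hwv : fJ J w v = 0 := by rw [hJ.swap, hvw, neg_zero]
  have := hm'.add (hm.neg (by simp [link, root, Matrix.add_mul, Matrix.mul_add, rect_mul, hJ.alt, h, h'])) (by
    simp [link, root, Matrix.mul_neg, Matrix.add_mul, Matrix.mul_add, rect_mul, rect_add_left, rect_add_right, hJ.alt,
      h, h', hbw, hwb, hvw, hwv])
  refine hM.short_of_one hbw hb (fun c e' => hwi c 0 (by rw [e', zero_smul, add_zero])) (E := E) ?_
  convert this using 1
  simp only [link, rect_add_left, rect_add_right]
  abel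

theorem Over.short_adj (hM : Over J H M) {D : Matrix ι ι F} (h : Short J H M D) : Short J H M (adjH H D) :=
  fun b w hbw hb hw => by
    rw [hM.hGram.adjH_adjH, link_comm]
    refine h w b (by rw [hM.jGram.swap, hbw, neg_zero]) (fun e => hw 0 (by rw [e, zero_smul])) fun c e => ?_
    rcases eq_or_ne c 0 with rfl | hc
    · exact hb (by rw [e, zero_smul])
    · exact hw c⁻¹ (by rw [e, smul_smul, inv_mul_cancel₀ hc, one_smul])

theorem Over.short_of_long (hM : Over J H M) {D : Matrix ι ι F} (h : Long J M D) : Short J H M D :=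
  fun b w hbw hb hw => by
    have hJ := hM.jGram
    have hk : 0 < k := Nat.pos_of_ne_zero fun e => hb (by subst e; exact Subsingleton.elim _ _)
    have hwb : fJ J w b = 0 := by rw [hJ.swap, hbw, neg_zero]
    rw [hM.long_self_adj hk h]
    have := (((h b).add (h w) (by simp [root, rect_mul, hbw])).neg (by
      simp [root, Matrix.add_mul, Matrix.mul_add, rect_mul, hJ.alt, hbw, hwb])).add (h (b + w)) (by
      simp [root, Matrix.add_mul, Matrix.mul_add, rect_mul, rect_add_left, rect_add_right, hJ.alt, hbw, hwb])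
    convert this using 1
    rw [root_add_vec]
    abel

/-- Two short elements give a root element. -/
theorem Over.long_of_short (hM : Over J H M) (h3 : 3 ≤ k) {D D' : Matrix ι ι F} (h : Short J H M D)
    (h' : Short J H M D') : Long J M (D * adjH H D' + D' * adjH H D) := by
  have hJ := hM.jGram
  set b : Fin k → F := Pi.single ⟨0, by omega⟩ 1
  have hb : b ≠ 0 := by simp [b]
  obtain ⟨w, hbw, hw⟩ := hJ.exists_orth h3 hb
  obtain ⟨v, hwv, hbv⟩ := hJ.indep_dual hb hw
  have hvi : ∀ c : F, v ≠ c • b := fun c e => by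
    rw [e, fJ_smul_right, hJ.swap w b, hbw, neg_zero, mul_zero] at hwv
    exact zero_ne_one hwv
  have hwb : fJ J w b = 0 := by rw [hJ.swap, hbw, neg_zero]
  have hvb : fJ J v b = 0 := by rw [hJ.swap, hbv, neg_zero]
  have hvw : fJ J v w = -1 := by rw [hJ.swap, hwv]
  have := (h b w hbw hb hw).comm (h' b v hbv hb hvi) (link_mul_link hJ hbw _ _ _ _) (link_mul_link hJ hbv _ _ _ _) (by
    simp [link, Matrix.add_mul, Matrix.mul_add, rect_mul, hJ.alt, hbw, hbv, hwb, hvb, hwv, hvw])
  refine hM.long_of_one hb ?_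
  convert this using 1
  simp [link, root, Matrix.add_mul, Matrix.mul_add, rect_mul, rect_add, hJ.alt, hbw, hbv, hwb, hvb, hwv, hvw]

/-- A short element times a root element. -/
theorem Over.short_mul_long (hM : Over J H M) (h3 : 3 ≤ k) {D D₂ : Matrix ι ι F} (h : Short J H M D)
    (h₂ : Long J M D₂) : Short J H M (D * D₂) := by
  have hJ := hM.jGram
  set b : Fin k → F := Pi.single ⟨0, by omega⟩ 1
  have hb : b ≠ 0 := by simp [b]
  obtain ⟨w, hbw, hw⟩ := hJ.exists_orth h3 hb
  obtain ⟨v, hwv, hbv⟩ := hJ.indep_dual hb hw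
  have hvi : ∀ c : F, v ≠ c • b := fun c e => by
    rw [e, fJ_smul_right, hJ.swap w b, hbw, neg_zero, mul_zero] at hwv
    exact zero_ne_one hwv
  have hwb : fJ J w b = 0 := by rw [hJ.swap, hbw, neg_zero]
  have hvb : fJ J v b = 0 := by rw [hJ.swap, hbv, neg_zero]
  have hvw : fJ J v w = -1 := by rw [hJ.swap, hwv]
  have := (h b w hbw hb hw).comm (h₂ v) (link_mul_link hJ hbw _ _ _ _) (root_mul_root hJ v _ _) (by
    simp [link, root, Matrix.add_mul, Matrix.mul_add, rect_mul, hJ.alt, hbw, hbv, hwb, hvb, hwv, hvw])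
  exact hM.short_of_mixed hbv hb hvi (D := D * D₂) (E := D₂ * adjH H D)
    (L := D * D₂ * adjH H D) (by
      convert this using 1
      simp [link, root, Matrix.add_mul, Matrix.mul_add, rect_mul, hJ.alt, hbw, hbv, hwb, hvb, hwv, hvw])

/-- The Jordan product with a square-zero factor. -/
theorem Over.long_jordan (hM : Over J H M) (htwo : (2 : F) ≠ 0) (hk : 0 < k) {D X : Matrix ι ι F} (hD : Long J M D) (hX : Long J M X)
    (h0 : D * D = 0) : Long J M (D * X + X * D) := by
  have hJ := hM.jGram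
  set b : Fin k → F := Pi.single ⟨0, hk⟩ 1
  have hb : b ≠ 0 := by simp [b]
  obtain ⟨v, hbv⟩ := hJ.exists_pair hb
  have hvb : fJ J v b = -1 := by rw [hJ.swap, hbv]
  have conjL : ∀ {D : Matrix ι ι F}, Long J M D → D * D = 0 → InM M (root J b (X - D * X - X * D + D * X * D)) := by
    intro D hD h0
    obtain ⟨e, he, ee⟩ := hD b
    have hA' : InM M (root J v 1 + link J b v D D) := (hM.long_one v).conj he (by
      rw [ee]
      simp [link, root, Matrix.add_mul, Matrix.mul_add, rect_mul, hJ.alt, hbv, hvb, h0, rect_zero]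
      abel)
    obtain ⟨g₁, hg₁, e₁⟩ := hA'
    obtain ⟨g₂, hg₂, e₂⟩ := hM.long_neg (hM.long_add hM.long_one (hM.long_neg hD)) v
    have hL : (g₁ * g₂).1 = 1 + link J b v D D := by
      rw [Units.val_mul, e₁, e₂]
      simp [link, root, Matrix.add_mul, Matrix.mul_add, rect_mul, rect_add, rect_neg, hJ.alt, hbv, hvb, Matrix.mul_neg,
        h0, rect_zero]
      abel
    refine (hX b).conj (mul_mem hg₁ hg₂) ?_
    rw [hL]
    simp [link, root, Matrix.add_mul, Matrix.mul_add, rect_mul, rect_add, rect_neg, hJ.alt, hbv, hvb, sub_eq_add_neg,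
      Matrix.add_mul, Matrix.neg_mul, Matrix.mul_neg, Matrix.mul_assoc, h0, rect_zero]
    abel
  have h1 := hM.long_of_one hb (conjL hD h0)
  have h2 := hM.long_of_one hb (conjL (hM.long_neg hD) (by rw [Matrix.neg_mul, Matrix.mul_neg, neg_neg, h0]))
  have h3 := hM.long_smul ((2 : F)⁻¹) (hM.long_add h2 (hM.long_neg h1))
  have e : D * X + X * D = (2 : F)⁻¹ • ((X - -D * X - X * -D + -D * X * -D) +
      -(X - D * X - X * D + D * X * D)) := by
    rw [Matrix.neg_mul, Matrix.neg_mul, Matrix.mul_neg, Matrix.mul_neg, neg_neg,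
      show X - -(D * X) - -(X * D) + D * X * D + -(X - D * X - X * D + D * X * D) = (2 : F) • (D * X + X * D) by
        rw [two_smul]; abel, smul_smul, inv_mul_cancel₀ htwo, one_smul]
  rw [e]
  exact h3

end CfsgLib.Classical.WreathMaxSp
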