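import Cfsg.Agent.Lib.Classical.WreathMax.PTrace
import Cfsg.Agent.Lib.Classical.WreathMax.Rank
import Cfsg.Agent.Lib.Classical.WreathMaxSp.Levi

/-!
# The tensor power of a symplectic space: Gram matrix, overgroups of the product of the factor groups
-/

set_option autoImplicit false
set_option linter.unusedSectionVars false

open Matrix Module CfsgLib.Classical.WreathMax
open scoped Kronecker

namespace CfsgLib.Classical.WreathMaxSp

variable {F : Type*} [Field F] {κ : Type} [Fintype κ] [DecidableEq κ] {k : ℕ}
  {J : Matrix (Fin k) (Fin k) F}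

/-- The Gram matrix of the tensor power. -/
def gramT (κ : Type) [Fintype κ] [DecidableEq κ] (J : Matrix (Fin k) (Fin k) F) : TMat F κ k :=
  tens fun _ => J

theorem tens_transpose (C : κ → Matrix (Fin k) (Fin k) F) : (tens C)ᵀ = tens fun l => (C l)ᵀ := rfl

theorem tens_mul (C D : κ → Matrix (Fin k) (Fin k) F) : tens C * tens D = tens fun l => C l * D l :=
  (map_mul tens C D).symm

theorem tens_smul (a : κ → F) (C : κ → Matrix (Fin k) (Fin k) F) :
    tens (fun l => a l • C l) = (∏ l, a l) • tens C := by
  ext x y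
  simp [tens_apply, Finset.prod_mul_distrib]

theorem gramT_formed (hJ : SkewGram J) : FormedGram (gramT κ J) := by
  refine ⟨(Matrix.isUnit_iff_isUnit_det _).1 ?_, (-1) ^ Fintype.card κ, by rw [← mul_pow]; simp, ?_⟩
  · have h : IsUnit (fun _ : κ => J) := Pi.isUnit_iff.2 fun _ => (Matrix.isUnit_iff_isUnit_det J).2 hJ.unit
    exact h.map tens
  · rw [gramT, tens_transpose, hJ.skew]
    have := tens_smul (fun _ : κ => (-1 : F)) fun _ => J
    simpa [Finset.prod_const, Finset.card_univ] using this

theorem op_transpose (i : κ) (A : Matrix (Fin k) (Fin k) F) : (op i A)ᵀ = op i Aᵀ := by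
  rw [op_eq_tens, op_eq_tens, tens_transpose]
  congr 1
  funext l
  by_cases h : l = i
  · subst h; simp
  · simp [h]

theorem op_mul_gramT (i : κ) (A : Matrix (Fin k) (Fin k) F) :
    op i A * gramT κ J = tens (Function.update (fun _ => J) i (A * J)) := by
  rw [gramT, op_eq_tens, ← map_mul]
  congr 1
  funext l
  by_cases h : l = i
  · subst h; simp
  · simp [h]

theorem gramT_mul_op (i : κ) (A : Matrix (Fin k) (Fin k) F) :
    gramT κ J * op i A = tens (Function.update (fun _ => J) i (J * A)) := by
  rw [gramT, tens_mul_op]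

theorem op_isometry {C : Matrix (Fin k) (Fin k) F} (hC : InSp J C) (i : κ) :
    (op i C)ᵀ * gramT κ J * op i C = gramT κ J := by
  rw [op_transpose, op_mul_gramT, tens_mul_op]
  simp only [Function.update_self, Function.update_idem]
  rw [hC, Function.update_eq_self]
  rfl

theorem op_injective (hk : 0 < k) (i : κ) {A B : Matrix (Fin k) (Fin k) F} (h : op i A = (op i B : TMat F κ k)) :
    A = B := by
  ext a b
  have := congrFun (congrFun h (Function.update (fun _ => (⟨0, hk⟩ : Fin k)) i a))
    (Function.update (fun _ => (⟨0, hk⟩ : Fin k)) i b)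
  rw [op_apply, op_apply, if_pos fun l hl => by rw [Function.update_of_ne hl, Function.update_of_ne hl],
    if_pos fun l hl => by rw [Function.update_of_ne hl, Function.update_of_ne hl]] at this
  simpa using this

theorem op_skew_iff (hJ : SkewGram J) (hk : 0 < k) (i : κ) (A : Matrix (Fin k) (Fin k) F) :
    (op i A)ᵀ * gramT κ J = -(gramT κ J * op i A) ↔ Aᵀ * J = -(J * A) := by
  rw [op_transpose, op_mul_gramT, gramT_mul_op, ← tens_update_neg']
  constructor
  · intro h
    have h2 := fun x y => congrFun (congrFun h x) y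
    obtain ⟨a₀, b₀, hab⟩ : ∃ a b, J a b ≠ 0 := by
      by_contra hno
      push Not at hno
      have hne := hJ.unit.ne_zero
      rw [show J = 0 from Matrix.ext hno] at hne
      haveI : Nonempty (Fin k) := ⟨⟨0, hk⟩⟩
      exact hne Matrix.det_zero
    ext a b
    have := h2 (Function.update (fun _ => a₀) i a) (Function.update (fun _ => b₀) i b)
    rw [tens_update_apply', tens_update_apply', Function.update_self, Function.update_self] at this
    refine mul_right_cancel₀ ?_ this
    exact Finset.prod_ne_zero_iff.2 fun l hl => by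
      rwa [Function.update_of_ne (Finset.ne_of_mem_erase hl), Function.update_of_ne (Finset.ne_of_mem_erase hl)]
  · intro h
    rw [h]
where
  tens_update_apply' {C : κ → Matrix (Fin k) (Fin k) F} {l : κ} {X : Matrix (Fin k) (Fin k) F} {x y : κ → Fin k} :
      tens (Function.update C l X) x y = X (x l) (y l) * ∏ m ∈ Finset.univ.erase l, C m (x m) (y m) := by
    rw [tens_apply, ← Finset.mul_prod_erase Finset.univ _ (Finset.mem_univ l), Function.update_self]
    congr 1
    exact Finset.prod_congr rfl fun m hm => by rw [Function.update_of_ne (Finset.ne_of_mem_erase hm)]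
  tens_update_neg' {C : κ → Matrix (Fin k) (Fin k) F} {l : κ} {X : Matrix (Fin k) (Fin k) F} :
      tens (Function.update C l (-X)) = -tens (Function.update C l X) := by
    ext x y
    simp only [Matrix.neg_apply, tens_update_apply', neg_mul]

/-- A group of isometries of the tensor power containing the group of every factor. -/
structure TOver (J : Matrix (Fin k) (Fin k) F) (M : Subgroup (GL (κ → Fin k) F)) : Prop where
  jGram : SkewGram J
  iso : ∀ g ∈ M, g.1ᵀ * gramT κ J * g.1 = gramT κ J
  op_mem : ∀ (i : κ) (C), InSp J C → ∃ g ∈ M, g.1 = op i C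

variable {M : Subgroup (GL (κ → Fin k) F)}

theorem TOver.exists_root (hM : TOver J M) (i : κ) (b : Fin k → F) (c : F) :
    ∃ g ∈ M, g ∈ wreathT F κ k ∧ g.1 = 1 + c • op i (nilp J b) := by
  obtain ⟨g, hg, e⟩ := hM.op_mem i _ (hM.jGram.inSp_transvection c b)
  exact ⟨g, hg, op_mem_wreathT i e, by rw [e, op_add, map_one, op_smul]⟩

theorem TOver.op_nilp_sq (hM : TOver J M) (i : κ) (b : Fin k → F) :
    (op i (nilp J b) : TMat F κ k) * op i (nilp J b) = 0 := by
  rw [← map_mul, hM.jGram.nilp_sq, op_zero]

/-- A matrix with vanishing orthogonal pairings is a scalar. -/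
theorem scalar_of_orth (hJ : SkewGram J) {B : Matrix (Fin k) (Fin k) F}
    (h : ∀ v w, fJ J v w = 0 → fJ J w (B *ᵥ v) = 0) : ∃ c : F, B = c • 1 := by
  by_contra hno
  push Not at hno
  obtain ⟨v, hv⟩ := exists_not_eigen hno
  have hv0 : v ≠ 0 := fun e => hv (by rw [e, Matrix.mulVec_zero]; exact Submodule.zero_mem _)
  obtain ⟨w, hw, hvw⟩ := hJ.indep_dual hv0 fun c e => hv (Submodule.mem_span_singleton.2 ⟨c, e.symm⟩)
  have := h v w hvw
  rw [hJ.swap, hw, neg_eq_zero] at this
  exact one_ne_zero this

end CfsgLib.Classical.WreathMaxSp
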